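import Cfsg.Agent.Lib.HallHigmanB.Nilpotent
import Cfsg.Agent.Lib.FittingHeight.Grading

/-!
Counting in a matrix algebra: commutants, maps permuting a basis up to scalars, and integers with a small
square sum.
-/

set_option autoImplicit false

namespace CfsgLib.Turull

open Finset Module CfsgLib.HallHigmanB CfsgLib.FittingHeight

universe v w

variable {K : Type v} [Field K] {W : Type w} [AddCommGroup W] [Module K W]

/-- The maps commuting with all of `φ` and with `S`. -/
def commX {X : Type*} [Monoid X] (φ : X →* Module.End K W) (S : Module.End K W) :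
    Submodule K (Module.End K W) where
  carrier := {f | (∀ x, f * φ x = φ x * f) ∧ f * S = S * f}
  zero_mem' := ⟨fun _ => by simp, by simp⟩
  add_mem' := fun {f g} hf hg =>
    ⟨fun x => by rw [add_mul, mul_add, hf.1 x, hg.1 x], by rw [add_mul, mul_add, hf.2, hg.2]⟩
  smul_mem' := fun c f hf =>
    ⟨fun x => by rw [smul_mul_assoc, mul_smul_comm, hf.1 x], by rw [smul_mul_assoc, mul_smul_comm, hf.2]⟩

theorem weight_stable {X : Type*} [CommGroup X] (φ : X →* Module.End K W) {S : Module.End K W}
    (hS : ∀ x, S * φ x = φ x * S) (χ : X →* Kˣ) : ∀ w ∈ Grading.weight φ χ, S w ∈ Grading.weight φ χ := by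
  intro w hw x
  rw [← Module.End.mul_apply, ← hS, Module.End.mul_apply, hw x, map_smul]

/-- The commutants on the weight spaces embed in the commutant. -/
theorem blocks_le {X : Type*} [CommGroup X] [Fintype X] (hX : ((Fintype.card X : ℕ) : K) ≠ 0)
    [HasEnoughRootsOfUnity K (Monoid.exponent X)] [Fintype (X →* Kˣ)] [FiniteDimensional K W]
    (φ : X →* Module.End K W) (S : Module.End K W) (hS : ∀ x, S * φ x = φ x * S) :
    ∑ χ : X →* Kˣ, finrank K (comm (S.restrict (weight_stable φ hS χ))) ≤ finrank K (commX φ S) := by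
  classical
  rw [← Module.finrank_pi_fintype]
  let pr : ∀ χ : X →* Kˣ, W →ₗ[K] Grading.weight φ χ := fun χ =>
    (Grading.proj φ χ).codRestrict _ (Grading.proj_mem φ χ)
  have hprφ : ∀ χ x w, pr χ (φ x w) = (χ x : K) • pr χ w := by
    intro χ x w
    apply Subtype.ext
    show Grading.proj φ χ (φ x w) = (χ x : K) • Grading.proj φ χ w
    rw [← Grading.proj_mem φ χ w x, Grading.proj_apply, Grading.proj_apply, map_smul, map_sum]
    refine congrArg _ (Finset.sum_congr rfl fun y _ => ?_)
    rw [map_smul, ← Module.End.mul_apply, ← map_mul, mul_comm, map_mul, Module.End.mul_apply]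
  have hprS : ∀ χ w, pr χ (S w) = S.restrict (weight_stable φ hS χ) (pr χ w) := by
    intro χ w
    apply Subtype.ext
    show Grading.proj φ χ (S w) = S (Grading.proj φ χ w)
    rw [Grading.proj_apply, Grading.proj_apply, map_smul, map_sum]
    refine congrArg _ (Finset.sum_congr rfl fun y _ => ?_)
    rw [map_smul, ← Module.End.mul_apply, ← hS, Module.End.mul_apply]
  let T : (∀ χ : X →* Kˣ, comm (S.restrict (weight_stable φ hS χ))) →ₗ[K] Module.End K W :=
    { toFun := fun g => ∑ χ, (Grading.weight φ χ).subtype ∘ₗ (g χ : Module.End K (Grading.weight φ χ)) ∘ₗ pr χ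
      map_add' := fun g g' => by simp [LinearMap.add_comp, LinearMap.comp_add, Finset.sum_add_distrib]
      map_smul' := fun c g => by simp [LinearMap.smul_comp, LinearMap.comp_smul, Finset.smul_sum] }
  have hT : ∀ g w, T g w =
      ∑ χ, (((g χ : Module.End K (Grading.weight φ χ)) (pr χ w) : Grading.weight φ χ) : W) := fun g w => by simp [T]
  have hmem : ∀ g, T g ∈ commX φ S := by
    intro g
    refine ⟨fun x => LinearMap.ext fun w => ?_, LinearMap.ext fun w => ?_⟩
    · rw [Module.End.mul_apply, Module.End.mul_apply, hT, hT, map_sum]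
      refine Finset.sum_congr rfl fun χ _ => ?_
      rw [hprφ, map_smul, Submodule.coe_smul]
      exact (((g χ : Module.End K (Grading.weight φ χ)) (pr χ w)).2 x).symm
    · rw [Module.End.mul_apply, Module.End.mul_apply, hT, hT, map_sum]
      refine Finset.sum_congr rfl fun χ _ => ?_
      rw [hprS, ← Module.End.mul_apply (f := (g χ : Module.End K (Grading.weight φ χ))), mem_comm.mp (g χ).2,
        Module.End.mul_apply, LinearMap.coe_restrict_apply]
  refine LinearMap.finrank_le_finrank_of_injective (f := T.codRestrict _ hmem) fun g g' h => ?_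
  funext χ
  refine Subtype.ext (LinearMap.ext fun w => Subtype.ext ?_)
  have h' := LinearMap.congr_fun (congrArg Subtype.val h) (w : W)
  change T g (w : W) = T g' (w : W) at h'
  have key : ∀ g, T g (w : W) = (((g χ : Module.End K (Grading.weight φ χ)) w : Grading.weight φ χ) : W) := by
    intro g
    rw [hT, Finset.sum_eq_single χ (fun ψ' _ hne => ?_) (by simp)]
    · rw [show pr χ (w : W) = w from Subtype.ext (Grading.proj_eq hX φ w.2)]
    · rw [show pr ψ' (w : W) = 0 from Subtype.ext (Grading.proj_eq_zero hX φ hne w.2)]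
      simp
  rwa [key, key] at h'

theorem comm_eq_of_sub_smul (S : Module.End K W) (b : K) : comm (S - b • 1) = comm S := by
  ext f
  rw [mem_comm, mem_comm, mul_sub, sub_mul, mul_smul_comm, mul_one, smul_mul_assoc, one_mul, sub_left_inj]

/-- An operator with scalar `t`-th power commutes with at least a `t`-th of all operators. -/
theorem sq_le_comm [IsAlgClosed K] [FiniteDimensional K W] {t : ℕ} (ht : t.Prime) (S : Module.End K W) {c : K}
    (hc0 : c ≠ 0) (hS : S ^ t = c • 1) : finrank K W ^ 2 ≤ t * finrank K (comm S) := by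
  classical
  haveI := Fact.mk ht
  obtain ⟨b, hb⟩ := IsAlgClosed.exists_pow_nat_eq c ht.pos
  have hb0 : b ≠ 0 := fun h => hc0 (by rw [← hb, h, zero_pow ht.ne_zero])
  rcases eq_or_ne (t : K) 0 with htK | htK
  · rcases subsingleton_or_nontrivial W with hW | hW
    · simp [Module.finrank_zero_of_subsingleton]
    haveI : CharP K t := by
      obtain ⟨q, hq⟩ := CharP.exists K
      have h1 : q ∣ t := (CharP.cast_eq_zero_iff K q t).mp htK
      rcases (Nat.dvd_prime ht).mp h1 with h | h
      · exact absurd h (CharP.char_ne_one K q)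
      · exact h ▸ hq
    haveI := charP_of_injective_algebraMap (algebraMap K (Module.End K W)).injective t
    have hN : (S - b • 1) ^ t = 0 := by
      rw [sub_pow_char_of_commute _ ((Commute.one_right S).smul_right b), hS, smul_pow, one_pow, hb, sub_self]
    have := sq_le_mul_finrank_comm (finrank K W) (S - b • 1) t rfl hN
    rwa [comm_eq_of_sub_smul] at this
  · set S' := b⁻¹ • S with hS'
    have hS't : S' ^ t = 1 := by rw [hS', smul_pow, hS, smul_smul, ← hb, ← mul_pow, inv_mul_cancel₀ hb0, one_pow, one_smul]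
    let φ : Multiplicative (ZMod t) →* Module.End K W :=
      { toFun := fun x => S' ^ (Multiplicative.toAdd x).val
        map_one' := by simp
        map_mul' := fun x y => by
          rw [← pow_add, pow_eq_pow_mod ((Multiplicative.toAdd x).val + _) hS't, toAdd_mul, ZMod.val_add] }
    have hcardX : Fintype.card (Multiplicative (ZMod t)) = t := by rw [Fintype.card_multiplicative, ZMod.card]
    have hX : ((Fintype.card (Multiplicative (ZMod t)) : ℕ) : K) ≠ 0 := by rw [hcardX]; exact htK
    haveI : NeZero ((Monoid.exponent (Multiplicative (ZMod t)) : ℕ) : K) := ⟨fun h => hX (by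
      obtain ⟨k, hk⟩ : Monoid.exponent (Multiplicative (ZMod t)) ∣ Fintype.card (Multiplicative (ZMod t)) :=
        Monoid.exponent_dvd_of_forall_pow_eq_one fun g => pow_card_eq_one
      rw [hk, Nat.cast_mul, h, zero_mul])⟩
    haveI := Fintype.ofFinite (Multiplicative (ZMod t) →* Kˣ)
    have hcardD : (univ : Finset (Multiplicative (ZMod t) →* Kˣ)).card = t := by
      rw [Finset.card_univ, ← Nat.card_eq_fintype_card,
        CommGroup.card_monoidHom_of_hasEnoughRootsOfUnity (Multiplicative (ZMod t)) K, Nat.card_eq_fintype_card, hcardX]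
    have h1 := blocks_le hX φ 1 (fun x => by simp)
    have h2 : ∀ χ, finrank K (comm ((1 : Module.End K W).restrict (weight_stable φ (fun x => by simp) χ))) =
        finrank K (Grading.weight φ χ) ^ 2 := fun χ => by
      have htop : comm ((1 : Module.End K W).restrict (weight_stable φ (fun x => by simp) χ)) = ⊤ := by
        rw [eq_top_iff]
        intro f _
        rw [mem_comm]
        rw [show ((1 : Module.End K W).restrict (weight_stable φ (fun x => by simp) χ)) = 1 from
          LinearMap.ext fun w => Subtype.ext rfl, mul_one, one_mul]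
      rw [htop, finrank_top, Module.finrank_linearMap, sq]
    have h3 : commX φ 1 ≤ comm S := fun f hf => by
      rw [mem_comm]
      have h4 : f * S' = S' * f := by
        have := hf.1 (Multiplicative.ofAdd (1 : ZMod t))
        simpa [φ, ZMod.val_one t] using this
      rw [hS', mul_smul_comm, smul_mul_assoc] at h4
      exact smul_right_injective _ (inv_ne_zero hb0) h4
    calc finrank K W ^ 2 = (∑ χ : Multiplicative (ZMod t) →* Kˣ, finrank K (Grading.weight φ χ)) ^ 2 := by
          rw [← Grading.finrank_eq hX φ]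
      _ ≤ t * ∑ χ : Multiplicative (ZMod t) →* Kˣ, finrank K (Grading.weight φ χ) ^ 2 := by
          have := sq_sum_le_card_mul_sum_sq (s := (univ : Finset (Multiplicative (ZMod t) →* Kˣ)))
            (f := fun χ => finrank K (Grading.weight φ χ))
          rwa [hcardD] at this
      _ ≤ t * finrank K (comm S) := by
          refine Nat.mul_le_mul_left _ ?_
          rw [← Finset.sum_congr rfl fun χ _ => h2 χ]
          exact h1.trans (Submodule.finrank_mono h3)

/-- An operator that is not scalar commutes with at least two dimensions of operators. -/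
theorem two_le_comm [FiniteDimensional K W] (hW : finrank K W = 2) (S : Module.End K W) : 2 ≤ finrank K (comm S) := by
  by_cases h : ∃ c : K, S = c • 1
  · obtain ⟨c, rfl⟩ := h
    have : comm (c • (1 : Module.End K W)) = ⊤ := eq_top_iff.mpr fun f _ => by
      rw [mem_comm, mul_smul_comm, smul_mul_assoc, mul_one, one_mul]
    rw [this, finrank_top, Module.finrank_linearMap, hW]
    norm_num
  · have hli : LinearIndependent K ![(⟨1, mem_comm.mpr (by simp)⟩ : comm S), ⟨S, mem_comm.mpr rfl⟩] := by
      rw [LinearIndependent.pair_iff]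
      intro a b hab
      have h' : a • (1 : Module.End K W) + b • S = 0 := congrArg Subtype.val hab
      have hb : b = 0 := by
        by_contra hb
        exact h ⟨-(b⁻¹ * a), by
          rw [add_eq_zero_iff_eq_neg] at h'
          have h2 := congrArg (fun f => b⁻¹ • f) h'
          simp only [smul_neg, smul_smul, inv_mul_cancel₀ hb, one_smul] at h2
          rw [neg_smul, h2, neg_neg]⟩
      refine ⟨?_, hb⟩
      rw [hb, zero_smul, add_zero] at h'
      haveI : Nontrivial W := Module.nontrivial_of_finrank_pos (R := K) (by omega)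
      exact (smul_eq_zero.mp h').resolve_right one_ne_zero
    simpa using hli.fintype_card_le_finrank

/-- A map permuting a basis up to scalars fixes at most one dimension for each orbit. -/
theorem finrank_fixed_le {ι : Type*} [Fintype ι] (β : Basis ι K W) (L : W →ₗ[K] W) (π : Equiv.Perm ι)
    (hL : ∀ b, ∃ c : K, L (β b) = c • β (π b)) {O : Finset ι} (hO : ∀ b, ∃ o ∈ O, ∃ i : ℕ, (π ^ i) o = b)
    {F : Submodule K W} (hF : ∀ v ∈ F, L v = v) : finrank K F ≤ O.card := by
  classical
  choose c hc using hL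
  let C : F →ₗ[K] (O → K) :=
    { toFun := fun v o => β.repr (v : W) o
      map_add' := fun u v => funext fun o => by simp
      map_smul' := fun a v => funext fun o => by simp }
  have hinj : Function.Injective C := by
    rw [← LinearMap.ker_eq_bot, LinearMap.ker_eq_bot']
    intro v hv
    have hcoef : ∀ b, β.repr (v : W) (π b) = β.repr (v : W) b * c b := fun b => by
      conv_lhs => rw [← hF v v.2, ← β.sum_repr (v : W), map_sum, map_sum]
      rw [Finsupp.finsetSum_apply, Finset.sum_eq_single b]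
      · rw [map_smul, hc, map_smul, map_smul, Basis.repr_self]
        simp
      · intro d _ hd
        rw [map_smul, hc, map_smul, map_smul, Basis.repr_self]
        simp [Finsupp.single_apply, π.injective.ne hd]
      · exact fun h => absurd (Finset.mem_univ b) h
    refine Subtype.ext (β.repr.map_eq_zero_iff.mp (Finsupp.ext fun b => ?_))
    obtain ⟨o, ho, i, rfl⟩ := hO b
    induction i with
    | zero => exact congrFun hv ⟨o, ho⟩
    | succ i ih =>
      rw [pow_succ', Equiv.Perm.mul_apply, hcoef, ih]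
      simp
  have := LinearMap.finrank_le_finrank_of_injective hinj
  rwa [Module.finrank_fintype_fun_eq_card, Fintype.card_coe] at this

/-- Orbit representatives, counted by weights. -/
theorem exists_orbit_reps {ι : Type*} [Fintype ι] (π : Equiv.Perm ι) (w : ι → ℕ) (P : ℕ)
    (hw : ∀ b, ∃ m : ℕ, (∀ i < m, ∀ j < m, (π ^ i) b = (π ^ j) b → i = j) ∧
      P ≤ ∑ i ∈ range m, w ((π ^ i) b)) :
    ∃ O : Finset ι, P * O.card ≤ ∑ b, w b ∧ ∀ b, ∃ o ∈ O, ∃ i : ℕ, (π ^ i) o = b := by
  classical
  let rep : ι → ι := fun b => (Quotient.mk (Equiv.Perm.SameCycle.setoid π) b).out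
  have hrep : ∀ b, π.SameCycle (rep b) b := fun b => Quotient.mk_out (s := Equiv.Perm.SameCycle.setoid π) b
  have hrep' : ∀ a b, π.SameCycle a b → rep a = rep b := fun a b h =>
    congrArg Quotient.out (Quotient.sound (s := Equiv.Perm.SameCycle.setoid π) h)
  refine ⟨univ.image rep, ?_, fun b => ?_⟩
  · have h1 : ∀ o ∈ univ.image rep, P ≤ ∑ b ∈ univ.filter (fun b => rep b = o), w b := by
      intro o ho
      obtain ⟨b₀, -, rfl⟩ := Finset.mem_image.mp ho
      obtain ⟨m, hinj, hle⟩ := hw (rep b₀)
      refine hle.trans ?_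
      rw [← Finset.sum_image (fun i hi j hj h => hinj i (Finset.mem_range.mp hi) j (Finset.mem_range.mp hj) h)]
      refine Finset.sum_le_sum_of_subset fun x hx => ?_
      obtain ⟨i, -, rfl⟩ := Finset.mem_image.mp hx
      refine Finset.mem_filter.mpr ⟨Finset.mem_univ _, hrep' _ _ ?_⟩
      exact ((Equiv.Perm.sameCycle_pow_left (n := i)).mpr (Equiv.Perm.SameCycle.refl _ _)).trans (hrep b₀)
    calc P * (univ.image rep).card = ∑ _o ∈ univ.image rep, P := by rw [Finset.sum_const, smul_eq_mul, mul_comm]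
      _ ≤ ∑ o ∈ univ.image rep, ∑ b ∈ univ.filter (fun b => rep b = o), w b := Finset.sum_le_sum h1
      _ = ∑ b, w b := Finset.sum_fiberwise_of_maps_to (fun b _ => Finset.mem_image_of_mem _ (Finset.mem_univ b)) _
  · obtain ⟨i, hi⟩ := (hrep b).exists_nat_pow_eq
    exact ⟨rep b, Finset.mem_image_of_mem _ (Finset.mem_univ b), i, hi⟩

/-- Integers with almost least square sum take two consecutive values, one of them once. -/
theorem two_values {ι : Type*} [Fintype ι] {r : ℕ} (hr : r.Prime) (hι : Fintype.card ι = r) (n : ι → ℕ)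
    (h : r * ∑ i, n i ^ 2 + 1 ≤ (∑ i, n i) ^ 2 + r) (hd : ¬ r ∣ ∑ i, n i) :
    ∃ i₀ : ι, ∃ l : ℕ, (∀ i, i ≠ i₀ → n i = l) ∧ (n i₀ = l + 1 ∨ n i₀ + 1 = l) ∧
      r * ∑ i, n i ^ 2 + 1 = (∑ i, n i) ^ 2 + r := by
  classical
  have hrz : (1 : ℤ) ≤ r := by exact_mod_cast hr.one_le
  have hsum : ∑ i, ∑ j, ((n i : ℤ) - n j) ^ 2 = 2 * ((r : ℤ) * ∑ i, (n i : ℤ) ^ 2 - (∑ i, (n i : ℤ)) ^ 2) := by
    simp only [sub_sq, Finset.sum_add_distrib, Finset.sum_sub_distrib, Finset.sum_const, Finset.card_univ, hι,
      nsmul_eq_mul, ← Finset.mul_sum, ← Finset.sum_mul]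
    ring
  have hle : ∑ i, ∑ j, ((n i : ℤ) - n j) ^ 2 ≤ 2 * ((r : ℤ) - 1) := by
    rw [hsum]
    have : ((r : ℤ) * ∑ i, (n i : ℤ) ^ 2 + 1 : ℤ) ≤ (∑ i, (n i : ℤ)) ^ 2 + r := by exact_mod_cast h
    omega
  haveI : Nonempty ι := Fintype.card_pos_iff.mp (hι ▸ hr.pos)
  obtain ⟨i₁, -, hmin⟩ := Finset.exists_min_image univ n univ_nonempty
  set m := n i₁
  set S := univ.filter fun i => n i = m
  set T := univ.filter fun i => ¬ n i = m
  have hST : S.card + T.card = r := by
    rw [Finset.card_filter_add_card_filter_not]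
    exact hι
  have hS1 : 1 ≤ S.card := Finset.card_pos.mpr ⟨i₁, Finset.mem_filter.mpr ⟨Finset.mem_univ _, rfl⟩⟩
  have hT1 : 1 ≤ T.card := Finset.card_pos.mpr (by
    by_contra hT
    rw [Finset.not_nonempty_iff_eq_empty] at hT
    refine hd ⟨m, ?_⟩
    rw [Finset.sum_congr rfl (fun i _ => show n i = m by
      by_contra hi
      exact absurd (Finset.mem_filter.mpr ⟨Finset.mem_univ i, hi⟩) (hT ▸ Finset.notMem_empty i)),
      Finset.sum_const, Finset.card_univ, hι, smul_eq_mul])
  have hcross : 2 * ((S.card : ℤ) * ∑ i ∈ T, ((n i : ℤ) - m) ^ 2) ≤ ∑ i, ∑ j, ((n i : ℤ) - n j) ^ 2 := by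
    have e1 : ∀ i ∈ S, ∑ j ∈ T, ((n i : ℤ) - n j) ^ 2 = ∑ j ∈ T, ((n j : ℤ) - m) ^ 2 := fun i hi => by
      rw [(Finset.mem_filter.mp hi).2]
      exact Finset.sum_congr rfl fun j _ => by ring
    have e2 : ∀ i ∈ T, ∑ j ∈ S, ((n i : ℤ) - n j) ^ 2 = (S.card : ℤ) * ((n i : ℤ) - m) ^ 2 := fun i hi => by
      rw [Finset.sum_congr rfl fun j hj => by rw [(Finset.mem_filter.mp hj).2], Finset.sum_const, nsmul_eq_mul]
    rw [← Finset.sum_filter_add_sum_filter_not univ (fun i => n i = m), two_mul]
    refine add_le_add ?_ ?_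
    · rw [← nsmul_eq_mul, ← Finset.sum_const, ← Finset.sum_congr rfl e1]
      exact Finset.sum_le_sum fun i _ => Finset.sum_le_sum_of_subset_of_nonneg (Finset.subset_univ _)
        fun j _ _ => sq_nonneg _
    · rw [Finset.mul_sum, ← Finset.sum_congr rfl e2]
      exact Finset.sum_le_sum fun i _ => Finset.sum_le_sum_of_subset_of_nonneg (Finset.subset_univ _)
        fun j _ _ => sq_nonneg _
  have hT2 : ∀ i ∈ T, (1 : ℤ) ≤ ((n i : ℤ) - m) ^ 2 ∧ (n i ≠ m + 1 → (4 : ℤ) ≤ ((n i : ℤ) - m) ^ 2) := fun i hi => by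
    have h1 := hmin i (Finset.mem_univ i)
    have h2 := (Finset.mem_filter.mp hi).2
    refine ⟨?_, fun h3 => ?_⟩
    · have : (1 : ℤ) ≤ (n i : ℤ) - m := by omega
      nlinarith
    · have : (2 : ℤ) ≤ (n i : ℤ) - m := by omega
      nlinarith
  have hTsum : (T.card : ℤ) ≤ ∑ i ∈ T, ((n i : ℤ) - m) ^ 2 := by
    rw [show (T.card : ℤ) = ∑ i ∈ T, (1 : ℤ) by simp]
    exact Finset.sum_le_sum fun i hi => (hT2 i hi).1
  have hrc : (r : ℤ) = (S.card : ℤ) + T.card := by exact_mod_cast hST.symm
  have hkey : (S.card : ℤ) * ∑ i ∈ T, ((n i : ℤ) - m) ^ 2 ≤ (r : ℤ) - 1 := by linarith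
  have hprod : ((S.card : ℤ) - 1) * ((T.card : ℤ) - 1) ≤ 0 := by nlinarith
  have hone : S.card = 1 ∨ T.card = 1 := by
    by_contra hn
    push Not at hn
    have a1 : (1 : ℤ) ≤ (S.card : ℤ) - 1 := by omega
    have a2 : (1 : ℤ) ≤ (T.card : ℤ) - 1 := by omega
    nlinarith
  have hval : ∀ i ∈ T, n i = m + 1 := fun i hi => by
    by_contra hi'
    have h4 : (T.card : ℤ) + 3 ≤ ∑ j ∈ T, ((n j : ℤ) - m) ^ 2 := by
      rw [← Finset.sum_erase_add T _ hi, show (T.card : ℤ) = ∑ j ∈ T.erase i, (1 : ℤ) + 1 by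
        rw [← Finset.card_erase_add_one hi]; simp]
      have := (hT2 i hi).2 hi'
      have h5 : ∑ j ∈ T.erase i, (1 : ℤ) ≤ ∑ j ∈ T.erase i, ((n j : ℤ) - m) ^ 2 :=
        Finset.sum_le_sum fun j hj => (hT2 j (Finset.mem_of_mem_erase hj)).1
      linarith
    have hS1' : (1 : ℤ) ≤ (S.card : ℤ) := by exact_mod_cast hS1
    have hT1' : (1 : ℤ) ≤ (T.card : ℤ) := by exact_mod_cast hT1
    rcases hone with h1 | h1
    · have : (S.card : ℤ) = 1 := by exact_mod_cast h1
      nlinarith
    · have : (T.card : ℤ) = 1 := by exact_mod_cast h1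
      nlinarith
  have hN : ∀ i, n i = if i ∈ S then m else m + 1 := fun i => by
    split_ifs with hi
    · exact (Finset.mem_filter.mp hi).2
    · exact hval i (Finset.mem_filter.mpr ⟨Finset.mem_univ i, fun h => hi (Finset.mem_filter.mpr ⟨Finset.mem_univ i, h⟩)⟩)
  have hexact : r * ∑ i, n i ^ 2 + 1 = (∑ i, n i) ^ 2 + r := by
    have s1 : ∑ i, n i = S.card * m + T.card * (m + 1) := by
      rw [← Finset.sum_filter_add_sum_filter_not univ (fun i => n i = m),
        Finset.sum_congr rfl (fun i hi => (Finset.mem_filter.mp hi).2), Finset.sum_congr rfl hval]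
      simp [Finset.sum_const, smul_eq_mul, S, T]
    have s2 : ∑ i, n i ^ 2 = S.card * m ^ 2 + T.card * (m + 1) ^ 2 := by
      rw [← Finset.sum_filter_add_sum_filter_not univ (fun i => n i = m),
        Finset.sum_congr rfl (fun i hi => congrArg (· ^ 2) (Finset.mem_filter.mp hi).2),
        Finset.sum_congr rfl (fun i hi => congrArg (· ^ 2) (hval i hi))]
      simp [Finset.sum_const, smul_eq_mul, S, T]
    rw [s1, s2, ← hST]
    rcases hone with h1 | h1 <;> · rw [h1]; ring
  rcases hone with h1 | h1
  · obtain ⟨i₀, hi₀⟩ := Finset.card_eq_one.mp h1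
    refine ⟨i₀, m + 1, fun i hi => ?_, Or.inr ?_, hexact⟩
    · rw [hN i, if_neg (by rw [hi₀, Finset.mem_singleton]; exact hi)]
    · rw [hN i₀, if_pos (by rw [hi₀]; exact Finset.mem_singleton_self _)]
  · obtain ⟨i₀, hi₀⟩ := Finset.card_eq_one.mp h1
    refine ⟨i₀, m, fun i hi => ?_, Or.inl (hval i₀ (by rw [hi₀]; exact Finset.mem_singleton_self _)), hexact⟩
    by_contra hne
    have : i ∈ T := Finset.mem_filter.mpr ⟨Finset.mem_univ i, hne⟩
    rw [hi₀, Finset.mem_singleton] at this
    exact hi this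

end CfsgLib.Turull
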