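import Cfsg.Agent.Lib.Coprime
import Cfsg.Agent.Lib.CoprimeSeries
import Cfsg.Agent.Lib.FixedFittingLength.Residual

/-!
Towers of `p`-subgroups, recorded as lists with the top layer first, and their kernels.
A tower bounds the Fitting height from below.
-/

set_option autoImplicit false

namespace CfsgLib.Turull

open Subgroup CfsgLib.FFLength
open scoped commutatorElement

universe u

variable {Γ : Type u} [Group Γ]

theorem conj_mem_of_mem_normalizer {H : Subgroup Γ} {g x : Γ} (hg : g ∈ normalizer (H : Set Γ)) (hx : x ∈ H) :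
    g * x * g⁻¹ ∈ H := (mem_normalizer_iff.mp hg x).mp hx

theorem mem_normalizer_of_conj {H : Subgroup Γ} {g : Γ} (h1 : ∀ x ∈ H, g * x * g⁻¹ ∈ H)
    (h2 : ∀ x ∈ H, g⁻¹ * x * g⁻¹⁻¹ ∈ H) : g ∈ normalizer (H : Set Γ) := by
  rw [mem_normalizer_iff]
  exact fun x => ⟨h1 x, fun hx => by simpa [mul_assoc] using h2 _ hx⟩

/-- The elements of `P` normalising `K` whose commutators with `Q` lie in `K`. -/
def sectKer (P Q K : Subgroup Γ) : Subgroup Γ where
  carrier := {x | x ∈ P ∧ x ∈ normalizer (K : Set Γ) ∧ ∀ y ∈ Q, ⁅x, y⁆ ∈ K}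
  one_mem' := ⟨P.one_mem, one_mem _, fun y _ => by simp [commutatorElement_one_left]⟩
  mul_mem' := by
    rintro x y ⟨hx, hxK, hx'⟩ ⟨hy, hyK, hy'⟩
    refine ⟨P.mul_mem hx hy, mul_mem hxK hyK, fun z hz => ?_⟩
    rw [show ⁅x * y, z⁆ = x * ⁅y, z⁆ * x⁻¹ * ⁅x, z⁆ by simp only [commutatorElement_def]; group]
    exact K.mul_mem (conj_mem_of_mem_normalizer hxK (hy' z hz)) (hx' z hz)
  inv_mem' := by
    rintro x ⟨hx, hxK, hx'⟩
    refine ⟨P.inv_mem hx, inv_mem hxK, fun z hz => ?_⟩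
    rw [show ⁅x⁻¹, z⁆ = x⁻¹ * ⁅x, z⁆⁻¹ * x⁻¹⁻¹ by simp only [commutatorElement_def]; group]
    exact conj_mem_of_mem_normalizer (inv_mem hxK) (K.inv_mem (hx' z hz))

theorem mem_sectKer {P Q K : Subgroup Γ} {x : Γ} :
    x ∈ sectKer P Q K ↔ x ∈ P ∧ x ∈ normalizer (K : Set Γ) ∧ ∀ y ∈ Q, ⁅x, y⁆ ∈ K := Iff.rfl

/-- A layer: a subgroup with its prime. -/
abbrev Layer (Γ : Type u) [Group Γ] := Subgroup Γ × ℕ

/-- The kernel at the top of a list of layers. -/
def Kr : List (Layer Γ) → Subgroup Γ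
  | P :: Q :: l => sectKer P.1 Q.1 (Kr (Q :: l))
  | _ => ⊥

/-- Every element of `g` normalises every member. -/
def NormAll (g : Γ) (l : List (Layer Γ)) : Prop := ∀ P ∈ l, g ∈ normalizer ((P.1 : Subgroup Γ) : Set Γ)

theorem NormAll.tail {g : Γ} {P : Layer Γ} {l : List (Layer Γ)} (h : NormAll g (P :: l)) : NormAll g l :=
  fun Q hQ => h Q (List.mem_cons_of_mem _ hQ)

theorem kr_le : ∀ (P : Layer Γ) (l : List (Layer Γ)), Kr (P :: l) ≤ P.1
  | _, [] => bot_le
  | _, _ :: _ => fun _ h => h.1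

theorem normalizer_bot (g : Γ) : g ∈ normalizer ((⊥ : Subgroup Γ) : Set Γ) := by
  rw [normalizer_eq_top_iff.mpr (inferInstance : (⊥ : Subgroup Γ).Normal)]
  exact mem_top g

theorem kr_normalized : ∀ (l : List (Layer Γ)) (g : Γ), NormAll g l → g ∈ normalizer (Kr l : Set Γ)
  | [], g, _ => normalizer_bot g
  | [_], g, _ => normalizer_bot g
  | P :: Q :: l, g, hg => by
    have key : ∀ h : Γ, NormAll h (P :: Q :: l) → ∀ x ∈ Kr (P :: Q :: l), h * x * h⁻¹ ∈ Kr (P :: Q :: l) := by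
      rintro h hh x ⟨hx, hxK, hx'⟩
      have hK := kr_normalized (Q :: l) h hh.tail
      refine ⟨conj_mem_of_mem_normalizer (hh P List.mem_cons_self) hx, mul_mem (mul_mem hK hxK) (inv_mem hK),
        fun y hy => ?_⟩
      have hy' : h⁻¹ * y * h⁻¹⁻¹ ∈ Q.1 :=
        conj_mem_of_mem_normalizer (inv_mem (hh Q (List.mem_cons_of_mem _ List.mem_cons_self))) hy
      rw [show ⁅h * x * h⁻¹, y⁆ = h * ⁅x, h⁻¹ * y * h⁻¹⁻¹⁆ * h⁻¹ by simp only [commutatorElement_def]; group]
      exact conj_mem_of_mem_normalizer hK (hx' _ hy')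
    refine mem_normalizer_of_conj (key g hg) fun x hx => key g⁻¹ (fun R hR => inv_mem (hg R hR)) x hx

/-- The layers are `p`-groups, upper ones normalise lower ones and adjacent primes differ. -/
structure Layers (l : List (Layer Γ)) : Prop where
  prime : ∀ P ∈ l, Nat.Prime P.2
  pgroup : ∀ P ∈ l, IsPGroup P.2 ↥P.1
  norm : l.Pairwise fun P Q : Layer Γ => P.1 ≤ normalizer ((Q.1 : Subgroup Γ) : Set Γ)
  adj : l.IsChain fun P Q : Layer Γ => P.2 ≠ Q.2

/-- The top layer acts nontrivially. -/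
def Alive : List (Layer Γ) → Prop
  | P :: l => ¬ P.1 ≤ Kr (P :: l)
  | [] => True

/-- Each layer is generated by its commutators with the one above. -/
def Generated (l : List (Layer Γ)) : Prop := l.IsChain fun P Q : Layer Γ => ⁅Q.1, P.1⁆ = Q.1

theorem Layers.tail {P : Layer Γ} {l : List (Layer Γ)} (h : Layers (P :: l)) : Layers l where
  prime := fun Q hQ => h.prime Q (List.mem_cons_of_mem _ hQ)
  pgroup := fun Q hQ => h.pgroup Q (List.mem_cons_of_mem _ hQ)
  norm := (List.pairwise_cons.mp h.norm).2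
  adj := h.adj.tail

theorem Layers.of_append {l₁ l₂ : List (Layer Γ)} (h : Layers (l₁ ++ l₂)) : Layers l₁ ∧ Layers l₂ :=
  ⟨⟨fun Q hQ => h.prime Q (List.mem_append_left _ hQ), fun Q hQ => h.pgroup Q (List.mem_append_left _ hQ),
      (List.pairwise_append.mp h.norm).1, (List.isChain_append.mp h.adj).1⟩,
    ⟨fun Q hQ => h.prime Q (List.mem_append_right _ hQ), fun Q hQ => h.pgroup Q (List.mem_append_right _ hQ),
      (List.pairwise_append.mp h.norm).2.1, (List.isChain_append.mp h.adj).2.1⟩⟩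

theorem Layers.normAll_head {P : Layer Γ} {l : List (Layer Γ)} (h : Layers (P :: l)) {g : Γ} (hg : g ∈ P.1) :
    NormAll g (P :: l) := by
  intro Q hQ
  rcases List.mem_cons.mp hQ with rfl | hQ
  · exact le_normalizer hg
  · exact (List.pairwise_cons.mp h.norm).1 Q hQ hg

theorem Layers.head_le_normalizer_kr {P : Layer Γ} {l : List (Layer Γ)} (h : Layers (P :: l)) :
    P.1 ≤ normalizer (Kr l : Set Γ) := fun _ hg => kr_normalized l _ (h.normAll_head hg).tail

theorem Layers.kr_le_normalizer {P : Layer Γ} {l : List (Layer Γ)} (h : Layers (P :: l)) :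
    P.1 ≤ normalizer (Kr (P :: l) : Set Γ) := fun _ hg => kr_normalized _ _ (h.normAll_head hg)

theorem Layers.mem_kr {P Q : Layer Γ} {l : List (Layer Γ)} (h : Layers (P :: Q :: l)) {x : Γ} :
    x ∈ Kr (P :: Q :: l) ↔ x ∈ P.1 ∧ ∀ y ∈ Q.1, ⁅x, y⁆ ∈ Kr (Q :: l) :=
  ⟨fun hx => ⟨hx.1, hx.2.2⟩, fun hx => ⟨hx.1, h.head_le_normalizer_kr hx.1, hx.2⟩⟩

theorem Layers.le_kr_iff {P Q : Layer Γ} {l : List (Layer Γ)} (h : Layers (P :: Q :: l)) :
    P.1 ≤ Kr (P :: Q :: l) ↔ ⁅P.1, Q.1⁆ ≤ Kr (Q :: l) := by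
  rw [Subgroup.commutator_le]
  exact ⟨fun hP x hx y hy => (h.mem_kr.mp (hP hx)).2 y hy, fun hP x hx => h.mem_kr.mpr ⟨hx, hP x hx⟩⟩

/-- A layer acting nontrivially on the rest keeps the top alive. -/
theorem alive_append : ∀ (pre : List (Layer Γ)) (Y : Layer Γ) (l : List (Layer Γ)),
    Layers (pre ++ Y :: l) → Generated (pre ++ [Y]) → ¬ Y.1 ≤ Kr (Y :: l) → Alive (pre ++ Y :: l)
  | [], _, _, _, _, h => h
  | P :: pre, Y, l, hl, hgen, h => by
    have hl' : Layers (pre ++ Y :: l) := hl.tail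
    have ih := alive_append pre Y l hl' hgen.tail h
    cases pre with
    | nil =>
      show ¬ P.1 ≤ Kr (P :: Y :: l)
      intro hle
      refine h ?_
      have h1 : ⁅P.1, Y.1⁆ ≤ Kr (Y :: l) := hl.le_kr_iff.mp hle
      have h2 : ⁅Y.1, P.1⁆ = Y.1 := (List.isChain_cons_cons.mp hgen).1
      rwa [Subgroup.commutator_comm, h2] at h1
    | cons Q pre =>
      show ¬ P.1 ≤ Kr (P :: Q :: (pre ++ Y :: l))
      intro hle
      refine ih ?_
      have h1 : ⁅P.1, Q.1⁆ ≤ Kr (Q :: (pre ++ Y :: l)) := hl.le_kr_iff.mp hle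
      have h2 : ⁅Q.1, P.1⁆ = Q.1 := (List.isChain_cons_cons.mp hgen).1
      rwa [Subgroup.commutator_comm, h2] at h1

/-- An equality of kernels propagates to the top. -/
theorem kr_append_congr : ∀ (pre : List (Layer Γ)) (P : Layer Γ) (l l' : List (Layer Γ)),
    Kr (P :: l) = Kr (P :: l') → Kr (pre ++ P :: l) = Kr (pre ++ P :: l')
  | [], _, _, _, h => h
  | [A], P, l, l', h => by
    show sectKer A.1 P.1 (Kr (P :: l)) = sectKer A.1 P.1 (Kr (P :: l'))
    rw [h]
  | A :: B :: pre, P, l, l', h => by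
    have ih := kr_append_congr (B :: pre) P l l' h
    show sectKer A.1 B.1 (Kr ((B :: pre) ++ P :: l)) = sectKer A.1 B.1 (Kr ((B :: pre) ++ P :: l'))
    rw [ih]

theorem IsPGroup.coprime_card [Finite Γ] {p q : ℕ} (hp : p.Prime) (hq : q.Prime) (hne : p ≠ q) {P Q : Subgroup Γ}
    (hP : IsPGroup p P) (hQ : IsPGroup q Q) : (Nat.card P).Coprime (Nat.card Q) := by
  haveI := Fact.mk hp
  haveI := Fact.mk hq
  obtain ⟨i, hi⟩ := hP.exists_card_eq
  obtain ⟨j, hj⟩ := hQ.exists_card_eq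
  rw [hi, hj]
  exact Nat.Coprime.pow _ _ ((Nat.coprime_primes hp hq).mpr hne)

/-- An element of coprime order with commutators trivial modulo a subgroup after one more step. -/
theorem comm_mem_of_comm_comm [Finite Γ] {p q : ℕ} (hp : p.Prime) (hq : q.Prime) (hne : p ≠ q)
    {Q K : Subgroup Γ} (hQ : IsPGroup q Q) {x : Γ} (hxp : IsPGroup p (zpowers x))
    (hxQ : x ∈ normalizer (Q : Set Γ))
    (h : ∀ z ∈ ⁅Q, zpowers x⁆, ∀ g ∈ zpowers x, ⁅z, g⁆ ∈ K) : ∀ y ∈ Q, ⁅x, y⁆ ∈ K := by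
  haveI := Fact.mk hp
  have hsol : Group.IsSolvable (zpowers x) := Group.isSolvable_of_comm fun a b => by
    obtain ⟨_, i, rfl⟩ := a
    obtain ⟨_, j, rfl⟩ := b
    exact Subtype.ext (((Commute.refl x).zpow_zpow i j).eq)
  have h2 : ⁅⁅Q, zpowers x⁆, zpowers x⁆ ≤ K := Subgroup.commutator_le.mpr h
  rw [CfsgLib.coprime_commutator_commutator (zpowers_le.mpr hxQ)
    (IsPGroup.coprime_card hp hq hne hxp hQ) (Or.inl hsol), Subgroup.commutator_comm] at h2
  exact fun y hy => h2 (Subgroup.commutator_mem_commutator (mem_zpowers x) hy)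

theorem le_normalizer_resIter [Finite Γ] {X : Subgroup Γ} :
    ∀ m, X ≤ normalizer (resIter m X : Set Γ) := by
  intro m g hg
  have key : ∀ g ∈ X, ∀ x ∈ resIter m X, g * x * g⁻¹ ∈ resIter m X := by
    intro g hg x hx
    have h1 : X.map (MulAut.conj g).toMonoidHom = X := by
      refine le_antisymm ?_ fun y hy => ⟨g⁻¹ * y * g, X.mul_mem (X.mul_mem (X.inv_mem hg) hy) hg, by simp [mul_assoc]⟩
      rintro _ ⟨y, hy, rfl⟩
      exact X.mul_mem (X.mul_mem hg hy) (X.inv_mem hg)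
    have h2 := resIter_map (MulAut.conj g).toMonoidHom X m
    rw [h1] at h2
    exact h2.le ⟨x, hx, rfl⟩
  exact mem_normalizer_of_conj (key g hg) (key g⁻¹ (X.inv_mem hg))

/-- A tower inside the `m`-th residual pushes the lower residuals down to its length. -/
theorem resIter_ne_bot [Finite Γ] {X : Subgroup Γ} : ∀ (l : List (Layer Γ)) (P : Layer Γ) (m : ℕ),
    Layers (P :: l) → P.1 ≤ resIter m X → (∀ Q ∈ l, Q.1 ≤ X) → Alive (P :: l) → resIter (m + l.length) X ≠ ⊥
  | [], P, m, _, hP, _, ha => by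
    intro h
    rw [List.length_nil, Nat.add_zero] at h
    exact ha (hP.trans h.le)
  | Q :: l, P, m, hl, hP, hX, ha => by
    have hq := hl.prime Q (List.mem_cons_of_mem _ List.mem_cons_self)
    have hp := hl.prime P List.mem_cons_self
    haveI := Fact.mk hp
    have hne : P.2 ≠ Q.2 := (List.isChain_cons_cons.mp hl.adj).1
    have hPQ : P.1 ≤ normalizer ((Q.1 : Subgroup Γ) : Set Γ) :=
      (List.pairwise_cons.mp hl.norm).1 Q List.mem_cons_self
    set S := resIter m X
    set Q' := ⁅Q.1, P.1⁆ with hQ'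
    have hQ'Q : Q' ≤ Q.1 := CfsgLib.commutator_le_of_le_normalizer hPQ
    have hQ'S : Q' ≤ S := by
      rw [hQ', Subgroup.commutator_le]
      intro y hy x hx
      rw [commutatorElement_def]
      exact S.mul_mem (conj_mem_of_mem_normalizer (le_normalizer_resIter m (hX Q List.mem_cons_self hy)) (hP hx))
        (S.inv_mem (hP hx))
    have hQ'res : Q' ≤ resIter (m + 1) X := by
      refine le_iInf fun k => ?_
      have hsol : Group.IsSolvable P.1 := by
        haveI := (hl.pgroup P List.mem_cons_self).isNilpotent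
        infer_instance
      induction k with
      | zero => rw [Subgroup.lowerCentralSeries_zero]; exact hQ'S
      | succ k ih =>
        rw [Subgroup.lowerCentralSeries_succ]
        conv_lhs => rw [hQ', ← CfsgLib.coprime_commutator_commutator hPQ
          (IsPGroup.coprime_card hp hq hne (hl.pgroup P List.mem_cons_self)
            (hl.pgroup Q (List.mem_cons_of_mem _ List.mem_cons_self))) (Or.inl hsol)]
        exact Subgroup.commutator_mono ih hP
    have hl2 : Layers ((Q', Q.2) :: l) := by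
      refine ⟨?_, ?_, ?_, ?_⟩
      · intro R hR
        rcases List.mem_cons.mp hR with rfl | hR
        · exact hq
        · exact hl.tail.prime R (List.mem_cons_of_mem _ hR)
      · intro R hR
        rcases List.mem_cons.mp hR with rfl | hR
        · exact (hl.pgroup Q (List.mem_cons_of_mem _ List.mem_cons_self)).to_le hQ'Q
        · exact hl.tail.pgroup R (List.mem_cons_of_mem _ hR)
      · refine List.pairwise_cons.mpr ⟨fun R hR => hQ'Q.trans ((List.pairwise_cons.mp hl.tail.norm).1 R hR),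
          (List.pairwise_cons.mp hl.tail.norm).2⟩
      · cases l with
        | nil => exact List.isChain_singleton _
        | cons R l => exact List.isChain_cons_cons.mpr ⟨(List.isChain_cons_cons.mp hl.tail.adj).1, hl.tail.adj.tail⟩
    have ha' : Alive ((Q', Q.2) :: l) := by
      intro hle
      have hle' : Q' ≤ Kr (Q :: l) := by
        cases l with
        | nil => exact hle
        | cons R l => exact fun z hz => hl.tail.mem_kr.mpr ⟨hQ'Q hz, (hl2.mem_kr.mp (hle hz)).2⟩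
      refine ha (hl.le_kr_iff.mpr ?_)
      rw [Subgroup.commutator_comm]
      exact hle'
    have := resIter_ne_bot l (Q', Q.2) (m + 1) hl2 hQ'res (fun R hR => hX R (List.mem_cons_of_mem _ hR)) ha'
    rwa [List.length_cons, show m + (l.length + 1) = m + 1 + l.length by omega]

/-- The kernel of a layer glued to the next one. -/
theorem kr_of_glue {Y C : Layer Γ} {l : List (Layer Γ)} (h : Layers (Y :: C :: l)) {M : Layer Γ}
    (hM : M.1 = Y.1 ⊔ C.1) (hMl : Layers (M :: l)) (hl : l ≠ []) (hY : Y.1 ≤ Kr (M :: l)) :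
    Y.1 ≤ Kr (Y :: C :: l) := by
  obtain ⟨R, l, rfl⟩ := List.exists_cons_of_ne_nil hl
  intro y hy
  refine h.mem_kr.mpr ⟨hy, fun c hc => ?_⟩
  refine h.tail.mem_kr.mpr ⟨?_, fun z hz => ?_⟩
  · rw [commutatorElement_def]
    exact C.1.mul_mem (conj_mem_of_mem_normalizer ((List.pairwise_cons.mp h.norm).1 C List.mem_cons_self hy) hc)
      (C.1.inv_mem hc)
  · have hyk : ⁅y, c⁆ ∈ Kr (M :: R :: l) := by
      rw [commutatorElement_def, show y * c * y⁻¹ * c⁻¹ = y * (c * y⁻¹ * c⁻¹) by group]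
      exact (Kr _).mul_mem (hY hy) (conj_mem_of_mem_normalizer (hMl.kr_le_normalizer
        (hM ▸ mem_sup_right hc)) ((Kr _).inv_mem (hY hy)))
    exact (hMl.mem_kr.mp hyk).2 z hz

end CfsgLib.Turull
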