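import Cfsg.Agent.Lib.CoprimeGen
import Cfsg.Agent.Lib.Elementary
import Cfsg.Agent.Lib.FittingHeight.Sect
import Cfsg.Agent.Lib.Turull.Tower

/-!
Coprime action modulo subgroups: the Frattini subgroup of a section and fixed points on a section
generated by commutators.
-/

set_option autoImplicit false

namespace CfsgLib.Turull

open Subgroup
open scoped commutatorElement

universe u

variable {Γ : Type u} [Group Γ]

theorem mem_normalizer_sup {A B : Subgroup Γ} {g : Γ} (hA : g ∈ normalizer (A : Set Γ))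
    (hB : g ∈ normalizer (B : Set Γ)) : g ∈ normalizer ((A ⊔ B : Subgroup Γ) : Set Γ) := by
  have key : ∀ g : Γ, g ∈ normalizer (A : Set Γ) → g ∈ normalizer (B : Set Γ) → ∀ x ∈ A ⊔ B,
      g * x * g⁻¹ ∈ A ⊔ B := fun g hA hB x hx => by
    have h : A ⊔ B ≤ (A ⊔ B).comap (MulAut.conj g).toMonoidHom :=
      sup_le (fun y hy => mem_sup_left (conj_mem_of_mem_normalizer hA hy))
        (fun y hy => mem_sup_right (conj_mem_of_mem_normalizer hB hy))
    exact h hx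
  exact mem_normalizer_of_conj (key g hA hB) (key g⁻¹ (inv_mem hA) (inv_mem hB))

/-- The Frattini subgroup of a subgroup, inside the ambient group. -/
def Fr (Q : Subgroup Γ) : Subgroup Γ := (frattini Q).map Q.subtype

theorem fr_le (Q : Subgroup Γ) : Fr Q ≤ Q := Subgroup.map_subtype_le _

theorem fr_normalized {Q : Subgroup Γ} {g : Γ} (hg : g ∈ normalizer (Q : Set Γ)) :
    g ∈ normalizer (Fr Q : Set Γ) :=
  (CfsgLib.le_normalizer_map_characteristic (A := zpowers g) (zpowers_le.mpr hg) (frattini Q)).1 (mem_zpowers g)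

/-- The Frattini subgroup does not generate. -/
theorem fr_nongenerating [Finite Γ] {Q S : Subgroup Γ} (hS : S ≤ Q) (h : Q ≤ S ⊔ Fr Q) : S = Q := by
  refine le_antisymm hS ?_
  have h1 : S.subgroupOf Q = ⊤ := by
    refine frattini_nongenerating ?_
    rw [eq_top_iff]
    intro x _
    have h2 : ((S.subgroupOf Q ⊔ frattini Q).map Q.subtype) = S ⊔ Fr Q := by
      rw [Subgroup.map_sup, Subgroup.map_subgroupOf_eq_of_le hS]
      rfl
    obtain ⟨y, hy, hyx⟩ := h2.ge (h x.2)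
    rwa [← Subtype.ext (hyx : (y : Γ) = x)]
  exact Subgroup.subgroupOf_eq_top.mp h1

theorem isSolvable_zpowers (x : Γ) : Group.IsSolvable (zpowers x) := Group.isSolvable_of_comm fun a b => by
  obtain ⟨_, i, rfl⟩ := a
  obtain ⟨_, j, rfl⟩ := b
  exact Subtype.ext (((Commute.refl x).zpow_zpow i j).eq)

/-- An operator of coprime order acting trivially modulo `N` and the Frattini subgroup acts trivially
modulo `N`. -/
theorem comm_mem_of_frattini [Finite Γ] {Q N : Subgroup Γ} {x : Γ}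
    (hcop : (Nat.card (zpowers x)).Coprime (Nat.card Q)) (hxQ : x ∈ normalizer (Q : Set Γ))
    (hNQ : N ≤ Q) (hQN : Q ≤ normalizer (N : Set Γ)) (hxN : x ∈ normalizer (N : Set Γ))
    (h : ∀ y ∈ Q, ⁅x, y⁆ ∈ N ⊔ Fr Q) : ∀ y ∈ Q, ⁅x, y⁆ ∈ N := by
  set M := N ⊔ Fr Q
  have hMQ : M ≤ Q := sup_le hNQ (fr_le Q)
  have hQM : Q ≤ normalizer (M : Set Γ) := fun g hg => mem_normalizer_sup (hQN hg) (fr_normalized (le_normalizer hg))
  have hxM : x ∈ normalizer (M : Set Γ) := mem_normalizer_sup hxN (fr_normalized hxQ)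
  have hC : Q ⊓ centralizer (zpowers x : Set Γ) ⊔ N = Q := by
    refine fr_nongenerating (sup_le inf_le_left hNQ) fun y hy => ?_
    obtain ⟨c, hc, hyc⟩ := CfsgLib.coprime_fixed_quotient (zpowers_le.mpr hxQ) hcop (Or.inl (isSolvable_zpowers x))
      hMQ hQM (zpowers_le.mpr hxM) hy (fun g hg => by
        have hgen : zpowers x ≤ sectKer (zpowers x) Q M := by
          rw [zpowers_le]
          exact ⟨mem_zpowers x, hxM, h⟩
        have := (hgen hg).2.2 y hy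
        rwa [commutatorElement_def] at this)
    rw [sup_assoc, show y = c * (y⁻¹ * c)⁻¹ by group]
    exact mul_mem_sup hc (M.inv_mem hyc)
  intro y hy
  have hnorm : Q ⊓ centralizer (zpowers x : Set Γ) ≤ normalizer (N : Set Γ) := inf_le_left.trans hQN
  obtain ⟨c, hc, n, hn, rfl⟩ := CfsgLib.mem_sup_of_le_normalizer hnorm (show y ∈ N ⊔ Q ⊓ centralizer (zpowers x : Set Γ) by
    rw [sup_comm, hC]; exact hy)
  rw [show ⁅x, c * n⁆ = ⁅x, c⁆ * (c * ⁅x, n⁆ * c⁻¹) by simp only [commutatorElement_def]; group]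
  have h1 : ⁅x, n⁆ = 1 := by
    rw [commutatorElement_eq_one_iff_mul_comm]
    exact mem_centralizer_iff.mp hn.2 x (mem_zpowers x)
  rw [h1, mul_one, mul_inv_cancel, mul_one, commutatorElement_def]
  exact N.mul_mem (conj_mem_of_mem_normalizer hxN hc) (N.inv_mem hc)

/-- No fixed points on an abelian section generated by commutators. -/
theorem mem_of_fixed_mod [Finite Γ] {Q P N : Subgroup Γ} (hPQ : P ≤ normalizer (Q : Set Γ))
    (hcop : (Nat.card P).Coprime (Nat.card Q)) (hsol : Group.IsSolvable P) (hNQ : N ≤ Q)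
    (hQN : Q ≤ normalizer (N : Set Γ)) (hPN : P ≤ normalizer (N : Set Γ))
    (hab : ∀ x ∈ Q, ∀ y ∈ Q, ⁅x, y⁆ ∈ N) (hgen : Q ≤ ⁅Q, P⁆ ⊔ N) {x : Γ} (hx : x ∈ Q)
    (hfix : ∀ g ∈ P, ⁅x, g⁆ ∈ N) : x ∈ N := by
  set Q' := ⁅Q, P⁆
  have hQ'Q : Q' ≤ Q := CfsgLib.commutator_le_of_le_normalizer hPQ
  obtain ⟨q, hq, n, hn, rfl⟩ := CfsgLib.mem_sup_of_le_normalizer (hQ'Q.trans hQN) (show x ∈ N ⊔ Q' by
    rw [sup_comm]; exact hgen hx)
  refine N.mul_mem hq ?_
  -- now `n` is in the commutator and fixed modulo `N`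
  have hfix' : ∀ g ∈ P, ⁅n, g⁆ ∈ N := fun g hg => by
    have h1 := hfix g hg
    rw [show ⁅q * n, g⁆ = q * ⁅n, g⁆ * q⁻¹ * ⁅q, g⁆ by simp only [commutatorElement_def]; group] at h1
    have h2 : ⁅q, g⁆ ∈ N := by
      rw [commutatorElement_def, mul_assoc q g, mul_assoc q]
      exact N.mul_mem hq (conj_mem_of_mem_normalizer (hPN hg) (N.inv_mem hq))
    have h3 := N.mul_mem h1 (N.inv_mem h2)
    rw [mul_inv_cancel_right] at h3
    have h4 := conj_mem_of_mem_normalizer (inv_mem (hQN (hNQ hq))) h3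
    simpa [mul_assoc] using h4
  have hQ'n : Q' ≤ normalizer ((N ⊓ Q' : Subgroup Γ) : Set Γ) := fun g hg =>
    mem_normalizer_of_conj (fun y hy => ⟨conj_mem_of_mem_normalizer (hQN (hQ'Q hg)) hy.1, Q'.mul_mem (Q'.mul_mem hg hy.2) (Q'.inv_mem hg)⟩)
      (fun y hy => ⟨conj_mem_of_mem_normalizer (inv_mem (hQN (hQ'Q hg))) hy.1,
        Q'.mul_mem (Q'.mul_mem (Q'.inv_mem hg) hy.2) (Q'.inv_mem (Q'.inv_mem hg))⟩)
  have hPQ' : P ≤ normalizer (Q' : Set Γ) := CfsgLib.right_le_normalizer_commutator P Q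
  have hPn : P ≤ normalizer ((N ⊓ Q' : Subgroup Γ) : Set Γ) := fun g hg =>
    mem_normalizer_of_conj (fun y hy => ⟨conj_mem_of_mem_normalizer (hPN hg) hy.1, conj_mem_of_mem_normalizer (hPQ' hg) hy.2⟩)
      (fun y hy => ⟨conj_mem_of_mem_normalizer (inv_mem (hPN hg)) hy.1,
        conj_mem_of_mem_normalizer (inv_mem (hPQ' hg)) hy.2⟩)
  have hcop' : (Nat.card P).Coprime (Nat.card Q') := hcop.coprime_dvd_right (Subgroup.card_dvd_of_le hQ'Q)
  obtain ⟨c, hc, hnc⟩ := CfsgLib.coprime_fixed_quotient hPQ' hcop' (Or.inl hsol) inf_le_right hQ'n hPn hn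
    (fun g hg => by
      have hm : ⁅g, n⁆ ∈ N := by rw [← commutatorElement_inv]; exact N.inv_mem (hfix' g hg)
      refine ⟨by rwa [commutatorElement_def] at hm, ?_⟩
      exact Q'.mul_mem (conj_mem_of_mem_normalizer (hPQ' hg) hn) (Q'.inv_mem hn))
  have h5 : c ∈ N ⊓ Q' := CfsgLib.FittingHeight.fixed_mem_of_abelian hQ'n hPQ' hPn
    (fun a ha b hb => ⟨hab a (hQ'Q ha) b (hQ'Q hb),
      Q'.mul_mem (Q'.mul_mem (Q'.mul_mem ha hb) (Q'.inv_mem ha)) (Q'.inv_mem hb)⟩)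
    hcop' (CfsgLib.coprime_commutator_commutator hPQ hcop (Or.inl hsol)) hc.1
    (fun g hg => (mem_centralizer_iff.mp hc.2 g hg))
  have h6 := N.mul_mem h5.1 (N.inv_mem hnc.1)
  simpa using h6

theorem pow_mem_fr [Finite Γ] {q : ℕ} [Fact q.Prime] {Q : Subgroup Γ} (hQ : IsPGroup q Q) {x : Γ} (hx : x ∈ Q) :
    x ^ q ∈ Fr Q :=
  ⟨⟨x, hx⟩ ^ q, CfsgLib.pow_mem_frattini_pGroup hQ _, rfl⟩

theorem comm_mem_fr [Finite Γ] {q : ℕ} [Fact q.Prime] {Q : Subgroup Γ} (hQ : IsPGroup q Q) {x y : Γ} (hx : x ∈ Q)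
    (hy : y ∈ Q) : ⁅x, y⁆ ∈ Fr Q :=
  ⟨⁅(⟨x, hx⟩ : Q), ⟨y, hy⟩⁆, CfsgLib.commutator_le_frattini_pGroup hQ
    (Subgroup.commutator_mem_commutator (mem_top _) (mem_top _)), rfl⟩

end CfsgLib.Turull
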