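import Cfsg.Agent.Lib.PSolvable
import Cfsg.Agent.Lib.Isolated.Core
import Cfsg.Agent.Lib.Turull.Util

/-!
A solvable group of large Fitting length contains a long invariant tower.
-/

set_option autoImplicit false

namespace CfsgLib.Turull

open Subgroup CfsgLib.FFLength
open scoped commutatorElement

universe u v

variable {Γ : Type u} [Group Γ] {Δ : Type v} [Group Δ]

/-- The image of a list of layers. -/
def mapL (f : Γ →* Δ) (l : List (Layer Γ)) : List (Layer Δ) := l.map fun P => (P.1.map f, P.2)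

/-- Lifting layers along a homomorphism. -/
theorem exists_lift [Finite Γ] (f : Γ →* Δ) (a : Γ) {X : Subgroup Γ}
    (hcop : (Nat.card (zpowers a)).Coprime (Nat.card X)) : ∀ (l' : List (Layer Δ)), Layers l' →
      ∀ U : Subgroup Γ, U ≤ X → a ∈ normalizer (U : Set Γ) →
        (∀ P ∈ l', P.1 ≤ U.map f ∧ f a ∈ normalizer ((P.1 : Subgroup Δ) : Set Δ)) →
        ∃ l, Layers l ∧ mapL f l = l' ∧ ∀ P ∈ l, P.1 ≤ U ∧ a ∈ normalizer ((P.1 : Subgroup Γ) : Set Γ) := by
  intro l'
  induction l' using List.reverseRecOn with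
  | nil =>
    intro _ U _ _ _
    exact ⟨[], ⟨by simp, by simp, List.Pairwise.nil, List.isChain_nil⟩, rfl, by simp⟩
  | append_singleton init Q ih =>
    intro hl U hUX haU hU
    obtain ⟨hQU, haQ⟩ := hU Q (List.mem_append_right _ (List.mem_singleton_self Q))
    haveI := Fact.mk (hl.prime Q (List.mem_append_right _ (List.mem_singleton_self Q)))
    set H := U ⊓ Q.1.comap f
    have hfH : H.map f = Q.1 := by
      refine le_antisymm (Subgroup.map_le_iff_le_comap.mpr inf_le_right) fun y hy => ?_
      obtain ⟨x, hx, rfl⟩ := hQU hy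
      exact ⟨x, ⟨hx, hy⟩, rfl⟩
    have haH : a ∈ normalizer (H : Set Γ) :=
      mem_normalizer_of_conj
        (fun x hx => ⟨conj_mem_of_mem_normalizer haU hx.1, by
          show f (a * x * a⁻¹) ∈ Q.1
          rw [map_mul, map_mul, map_inv]
          exact conj_mem_of_mem_normalizer haQ hx.2⟩)
        (fun x hx => ⟨conj_mem_of_mem_normalizer (inv_mem haU) hx.1, by
          show f (a⁻¹ * x * a⁻¹⁻¹) ∈ Q.1
          simp only [map_mul, map_inv]
          exact conj_mem_of_mem_normalizer (inv_mem haQ) hx.2⟩)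
    obtain ⟨S₀, hS₀⟩ := CfsgLib.coprime_exists_invariant_sylow (A := zpowers a) (K := H) (zpowers_le.mpr haH)
      (hcop.coprime_dvd_right (Subgroup.card_dvd_of_le (inf_le_left.trans hUX)))
      (Or.inl (isSolvable_zpowers a)) Q.2
    set S := (S₀ : Subgroup H).map H.subtype
    have hSp : IsPGroup Q.2 S := S₀.2.map _
    have haS : a ∈ normalizer (S : Set Γ) := hS₀ (mem_zpowers a)
    have hSU : S ≤ U := (Subgroup.map_subtype_le _).trans inf_le_left
    -- the Sylow subgroup covers the layer
    have hfS : S.map f = Q.1 := by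
      let g := f.subgroupMap H
      have hg : Function.Surjective g := f.subgroupMap_surjective H
      have hpg : IsPGroup Q.2 (H.map f) := hfH ▸ hl.pgroup Q (List.mem_append_right _ (List.mem_singleton_self Q))
      have htop : (S₀.mapSurjective hg : Subgroup (H.map f)) = ⊤ :=
        ((S₀.mapSurjective hg).is_maximal' (hpg.of_equiv Subgroup.topEquiv.symm) le_top).symm
      rw [← hfH]
      refine le_antisymm (Subgroup.map_mono (Subgroup.map_subtype_le _)) fun y hy => ?_
      obtain ⟨x, hx, hxy⟩ := htop.ge (mem_top (⟨y, hy⟩ : H.map f))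
      exact ⟨x, ⟨x, hx, rfl⟩, congrArg Subtype.val hxy⟩
    set U' := U ⊓ normalizer (S : Set Γ)
    have haU' : a ∈ normalizer (U' : Set Γ) :=
      mem_normalizer_of_conj
        (fun x hx => Subgroup.mem_inf.mpr ⟨conj_mem_of_mem_normalizer haU hx.1, mul_mem (mul_mem haS hx.2) (inv_mem haS)⟩)
        (fun x hx => Subgroup.mem_inf.mpr ⟨conj_mem_of_mem_normalizer (inv_mem haU) hx.1,
          mul_mem (mul_mem (inv_mem haS) hx.2) (inv_mem (inv_mem haS))⟩)
    obtain ⟨l, hll, hmap, hmem⟩ := ih hl.of_append.1 U' (inf_le_left.trans hUX) haU' fun P hP => by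
      obtain ⟨hPU, haP⟩ := hU P (List.mem_append_left _ hP)
      refine ⟨fun y hy => ?_, haP⟩
      obtain ⟨x, hx, rfl⟩ := hPU hy
      have hxQ : f x ∈ normalizer (Q.1 : Set Δ) :=
        (List.pairwise_append.mp hl.norm).2.2 P hP Q (List.mem_singleton_self Q) hy
      have hxH : x ∈ normalizer (H : Set Γ) :=
        mem_normalizer_of_conj
          (fun z hz => ⟨U.mul_mem (U.mul_mem hx hz.1) (U.inv_mem hx), by
            show f (x * z * x⁻¹) ∈ Q.1
            rw [map_mul, map_mul, map_inv]
            exact conj_mem_of_mem_normalizer hxQ hz.2⟩)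
          (fun z hz => ⟨U.mul_mem (U.mul_mem (U.inv_mem hx) hz.1) (U.inv_mem (U.inv_mem hx)), by
            show f (x⁻¹ * z * x⁻¹⁻¹) ∈ Q.1
            simp only [map_mul, map_inv]
            exact conj_mem_of_mem_normalizer (inv_mem hxQ) hz.2⟩)
      let φ : MulAut H := H.normalizerMonoidHom ⟨x, hxH⟩
      obtain ⟨h, hh⟩ := MulAction.exists_smul_eq H (S₀.mapSurjective φ.surjective (f := φ.toMonoidHom)) S₀
      have key : ∀ s ∈ S, ((h : Γ) * x) * s * ((h : Γ) * x)⁻¹ ∈ S := by
        rintro _ ⟨s, hs, rfl⟩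
        refine ⟨h * φ s * h⁻¹, ?_, ?_⟩
        · rw [← hh, Sylow.coe_subgroup_smul]
          exact ⟨φ s, ⟨s, hs, rfl⟩, rfl⟩
        · show ((h * φ s * h⁻¹ : H) : Γ) = _
          push_cast
          rw [show ((φ s : H) : Γ) = x * s * x⁻¹ from rfl]
          simp [mul_assoc]
      have hn : (h : Γ) * x ∈ normalizer (S : Set Γ) := by
        haveI : Finite S := inferInstance
        have hmap' : S.map (MulAut.conj ((h : Γ) * x)).toMonoidHom = S :=
          Subgroup.eq_of_le_of_card_ge (by rintro _ ⟨s, hs, rfl⟩; exact key s hs)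
            (le_of_eq (Subgroup.card_map_of_injective (MulAut.conj _).injective).symm)
        refine mem_normalizer_of_conj key fun s hs => ?_
        obtain ⟨t, ht, hts⟩ := hmap'.ge hs
        rw [← hts]
        simpa [mul_assoc] using ht
      have hfh : f h ∈ Q.1 := h.2.2
      rw [← hfS] at hfh
      obtain ⟨s, hs, hsh⟩ := hfh
      refine ⟨s⁻¹ * (h * x), ⟨U.mul_mem (U.inv_mem (hSU hs)) (U.mul_mem h.2.1 hx),
        mul_mem (le_normalizer (S.inv_mem hs)) hn⟩, ?_⟩
      rw [map_mul, map_inv, map_mul, hsh, inv_mul_cancel_left]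
    refine ⟨l ++ [(S, Q.2)], ⟨?_, ?_, ?_, ?_⟩, ?_, ?_⟩
    · intro P hP
      rcases List.mem_append.mp hP with hP | hP
      · exact hll.prime P hP
      · rw [List.mem_singleton] at hP
        rw [hP]
        exact Fact.out
    · intro P hP
      rcases List.mem_append.mp hP with hP | hP
      · exact hll.pgroup P hP
      · rw [List.mem_singleton] at hP
        rw [hP]
        exact hSp
    · refine List.pairwise_append.mpr ⟨hll.norm, List.pairwise_singleton _ _, fun P hP R hR => ?_⟩
      rw [List.mem_singleton] at hR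
      rw [hR]
      exact (hmem P hP).1.trans inf_le_right
    · have h1 := hl.adj
      rw [← hmap, show mapL f l ++ [Q] = List.map (fun P : Layer Γ => (P.1.map f, P.2)) (l ++ [(S, Q.2)]) by
        simp [mapL, hfS], List.isChain_map] at h1
      exact h1
    · simp [mapL, ← hmap, hfS]
    · intro P hP
      rcases List.mem_append.mp hP with hP | hP
      · exact ⟨(hmem P hP).1.trans inf_le_left, (hmem P hP).2⟩
      · rw [List.mem_singleton] at hP
        rw [hP]
        exact ⟨hSU, haS⟩

/-- Kernels against a family of possible bottom layers. -/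
theorem map_mem_kr {ι : Type*} [Nonempty ι] (f : Γ →* Δ) (R : ι → Layer Γ) :
    ∀ (l : List (Layer Γ)) (P : Layer Γ), (∀ i, Layers ((P :: l) ++ [R i])) → Layers (mapL f (P :: l)) →
      (∀ x ∈ ((P :: l).getLast (List.cons_ne_nil P l)).1,
        (∀ i, ∀ y ∈ (R i).1, ⁅x, y⁆ = 1) → f x = 1) →
      ∀ x ∈ P.1, (∀ i, x ∈ Kr ((P :: l) ++ [R i])) → f x ∈ Kr (mapL f (P :: l))
  | [], P, hL, _, hbase, x, hx, hxk => by
    show f x ∈ (⊥ : Subgroup Δ)
    rw [Subgroup.mem_bot]
    exact hbase x hx fun i y hy => ((hL i).mem_kr.mp (hxk i)).2 y hy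
  | Q :: l, P, hL, hL', hbase, x, hx, hxk => by
    show f x ∈ Kr ((P.1.map f, P.2) :: (Q.1.map f, Q.2) :: mapL f l)
    refine (Layers.mem_kr (l := mapL f l) hL').mpr ⟨⟨x, hx, rfl⟩, ?_⟩
    rintro _ ⟨y, hy, rfl⟩
    rw [← map_commutatorElement]
    obtain ⟨i₀⟩ := (inferInstance : Nonempty ι)
    refine map_mem_kr f R l Q (fun i => (hL i).tail) hL'.tail
        (fun z hz hz' => hbase z (by rwa [List.getLast_cons (List.cons_ne_nil Q l)]) hz') _ ?_ fun i => ?_
    · rw [commutatorElement_def]
      exact Q.1.mul_mem (conj_mem_of_mem_normalizer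
          ((List.pairwise_cons.mp (hL i₀).norm).1 Q (List.mem_append_left _ List.mem_cons_self) hx) hy) (Q.1.inv_mem hy)
    · exact ((hL i).mem_kr.mp (hxk i)).2 y hy

/-- A `q`-element modulo the Fitting subgroup, in its core there and centralising the other cores, lies in
the Fitting subgroup. -/
theorem mem_fitting_of_centralizes {Y : Type u} [Group Y] [Finite Y] {Z : Type v} [Group Z] [Finite Z]
    (g : Y →* Z) (hg : Function.Surjective g) (hker : g.ker ≤ Cfsg.fittingSubgroup Y) {q : ℕ} (hq : q.Prime) {x : Y}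
    (hx : g x ∈ Cfsg.pCore q Z)
    (hc : ∀ r : Nat.Primes, (r : ℕ) ≠ q → ∀ y ∈ Cfsg.pCore (r : ℕ) Y, ⁅x, y⁆ = 1) :
    x ∈ Cfsg.fittingSubgroup Y := by
  haveI := Fact.mk hq
  set D : Subgroup Y := ⨆ r : {r : Nat.Primes // (r : ℕ) ≠ q}, Cfsg.pCore ((r : Nat.Primes) : ℕ) Y with hD
  haveI hDn : D.Normal := Subgroup.sSup_normal _ (by rintro _ ⟨r, rfl⟩; infer_instance)
  set M : Subgroup Y := (Cfsg.pCore q Z).comap g
  haveI hMn : M.Normal := Subgroup.Normal.comap inferInstance g
  set U := M ⊓ centralizer (D : Set Y) with hU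
  haveI hUn : U.Normal := Subgroup.normal_inf_normal _ _
  have hxU : x ∈ U := by
    refine Subgroup.mem_inf.mpr ⟨hx, ?_⟩
    rw [mem_centralizer_iff]
    intro y hy
    have h1 : D ≤ centralizer ({x} : Set Y) := iSup_le fun r z hz => by
      rw [mem_centralizer_singleton_iff]
      exact (commutatorElement_eq_one_iff_mul_comm.mp (hc _ r.2 z hz)).symm
    exact mem_centralizer_singleton_iff.mp (h1 hy)
  refine CfsgLib.le_fittingSubgroup (N := U) ?_ hxU
  have hrange : IsPGroup q ((QuotientGroup.mk' D).comp U.subtype).range := by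
    rintro ⟨_, u, rfl⟩
    obtain ⟨k, hk⟩ := CfsgLib.isPGroup_pCore (G := Z) q ⟨g u, (Subgroup.mem_inf.mp u.2).1⟩
    have h1 : (u : Y) ^ q ^ k ∈ Cfsg.fittingSubgroup Y :=
      hker (by rw [MonoidHom.mem_ker, map_pow]; exact congrArg Subtype.val hk)
    have h2 : (Cfsg.fittingSubgroup Y).map (QuotientGroup.mk' D) ≤
        (Cfsg.pCore q Y).map (QuotientGroup.mk' D) := by
      rw [CfsgLib.fittingSubgroup_eq_iSup_pCore, Subgroup.map_iSup]
      refine iSup_le fun r => ?_
      by_cases hr : (r : ℕ) = q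
      · rw [hr]
      · refine (Subgroup.map_mono (le_iSup (fun r : {r : Nat.Primes // (r : ℕ) ≠ q} =>
          Cfsg.pCore ((r : Nat.Primes) : ℕ) Y) ⟨r, hr⟩)).trans ?_
        rw [← hD, QuotientGroup.map_mk'_self]
        exact bot_le
    obtain ⟨j, hj⟩ := (CfsgLib.isPGroup_pCore (G := Y) q).map (QuotientGroup.mk' D) ⟨_, h2 ⟨_, h1, rfl⟩⟩
    refine ⟨k + j, Subtype.ext ?_⟩
    have h3 := congrArg Subtype.val hj
    simp only [SubgroupClass.coe_pow, map_pow, OneMemClass.coe_one] at h3 ⊢
    rw [pow_add, pow_mul]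
    exact h3
  haveI := hrange.isNilpotent
  refine Subgroup.isNilpotent_of_ker_le_center ((QuotientGroup.mk' D).comp U.subtype).rangeRestrict ?_
  intro u hu
  rw [MonoidHom.ker_rangeRestrict, MonoidHom.mem_ker, MonoidHom.comp_apply, QuotientGroup.mk'_apply,
    QuotientGroup.eq_one_iff] at hu
  rw [mem_center_iff]
  exact fun w => Subtype.ext (mem_centralizer_iff.mp (Subgroup.mem_inf.mp w.2).2 u hu).symm

/-- A tower of length `n + 1` from a non-trivial `n`-th residual. -/
theorem exists_tower : ∀ (n : ℕ) {Γ : Type u} [Group Γ] [Finite Γ] (a : Γ) (X : Subgroup Γ) [X.Normal],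
    Group.IsSolvable X → (Nat.card (zpowers a)).Coprime (Nat.card X) → resIter n X ≠ ⊥ →
    ∃ l : List (Layer Γ), Layers l ∧ l.length = n + 1 ∧ Alive l ∧
      (∀ P ∈ l, P.1 ≤ X ∧ a ∈ normalizer ((P.1 : Subgroup Γ) : Set Γ)) ∧
      ∀ L ∈ l.getLast?, L.1 ≤ (Cfsg.pCore L.2 ↥X).map X.subtype := by
  intro n
  induction n with
  | zero =>
    intro Γ _ _ a X _ hsol _ hX
    rw [resIter_zero] at hX
    haveI := hsol
    have hF : Cfsg.fittingSubgroup X ≠ ⊥ := fun h => by
      have h1 := CfsgLib.centralizer_fitting_le (G := X)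
      rw [h, Subgroup.coe_bot] at h1
      refine hX ((eq_bot_iff_forall _).mpr fun x hx => ?_)
      have h2 : (⟨x, hx⟩ : X) ∈ (⊥ : Subgroup X) := h1 (mem_centralizer_singleton_iff.mpr (by simp))
      exact congrArg Subtype.val (Subgroup.mem_bot.mp h2)
    obtain ⟨r, hr⟩ : ∃ r : Nat.Primes, Cfsg.pCore (r : ℕ) X ≠ ⊥ := by
      by_contra h
      push Not at h
      exact hF (by rw [CfsgLib.fittingSubgroup_eq_iSup_pCore]; exact iSup_eq_bot.mpr h)
    have hn := CfsgLib.le_normalizer_map_characteristic (A := zpowers a) (K := X)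
      (by rw [normalizer_eq_top_iff.mpr ‹X.Normal›]; exact le_top) (Cfsg.pCore (r : ℕ) X)
    refine ⟨[((Cfsg.pCore (r : ℕ) X).map X.subtype, r)], ⟨?_, ?_, List.pairwise_singleton _ _,
      List.isChain_singleton _⟩, rfl, ?_, ?_, ?_⟩
    · intro P hP
      rw [List.mem_singleton] at hP
      rw [hP]
      exact r.2
    · intro P hP
      rw [List.mem_singleton] at hP
      rw [hP]
      exact (CfsgLib.isPGroup_pCore _).map _
    · intro hle
      exact hr ((Subgroup.map_eq_bot_iff_of_injective _ X.subtype_injective).mp (le_bot_iff.mp hle))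
    · intro P hP
      rw [List.mem_singleton] at hP
      rw [hP]
      exact ⟨Subgroup.map_subtype_le _, hn.1 (mem_zpowers a)⟩
    · intro L hL
      simp only [List.getLast?_singleton, Option.mem_def, Option.some.injEq] at hL
      subst hL
      exact le_rfl
  | succ n ih =>
    intro Γ _ _ a X hXn hsol hcop hX
    haveI := hsol
    haveI := CfsgLib.Isolated.fitting_char ↥X
    haveI hFn : ((Cfsg.fittingSubgroup X).map X.subtype).Normal := inferInstance
    set F := (Cfsg.fittingSubgroup X).map X.subtype with hF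
    set f := QuotientGroup.mk' F
    have hFnil : Group.IsNilpotent F :=
      haveI := CfsgLib.isNilpotent_fittingSubgroup (G := X)
      Group.nilpotent_of_mulEquiv (Subgroup.equivMapOfInjective _ X.subtype X.subtype_injective)
    haveI : (X.map f).Normal := Subgroup.Normal.map hXn f (QuotientGroup.mk'_surjective F)
    have hX' : resIter n (X.map f) ≠ ⊥ := by
      intro h
      rw [← resIter_map, Subgroup.map_eq_bot_iff, QuotientGroup.ker_mk'] at h
      exact hX (le_bot_iff.mp ((resIter_succ n X).le.trans ((res_mono h).trans ((res_eq_bot F).mpr hFnil).le)))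
    have hcop' : (Nat.card (zpowers (f a))).Coprime (Nat.card (X.map f)) := by
      rw [← MonoidHom.map_zpowers]
      exact Nat.Coprime.coprime_dvd_left (Subgroup.card_map_dvd _ _)
        (hcop.coprime_dvd_right (Subgroup.card_map_dvd _ _))
    obtain ⟨l', hl', hlen, halive, hmem', hlast'⟩ := ih (f a) (X.map f)
      (Group.isSolvable_of_surjective (f.subgroupMap_surjective X)) hcop' hX'
    obtain ⟨l, hl, hmap, hmem⟩ := exists_lift f a hcop l' hl' X le_rfl
      (by rw [normalizer_eq_top_iff.mpr hXn]; exact mem_top a) fun P hP => hmem' P hP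
    obtain ⟨P₀, l₀, rfl⟩ : ∃ P₀ l₀, l = P₀ :: l₀ := List.exists_cons_of_length_pos (by
      have := congrArg List.length hmap
      rw [mapL, List.length_map] at this
      omega) |>.imp fun _ h => h
    set L := (P₀ :: l₀).getLast (List.cons_ne_nil _ _) with hLdef
    have hLmem : L ∈ P₀ :: l₀ := List.getLast_mem _
    have hLq : L.2.Prime := hl.prime L hLmem
    let R : {r : Nat.Primes // (r : ℕ) ≠ L.2} → Layer Γ := fun r =>
      ((Cfsg.pCore ((r : Nat.Primes) : ℕ) X).map X.subtype, ((r : Nat.Primes) : ℕ))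
    have hRn : ∀ r, X ≤ normalizer (((R r).1 : Subgroup Γ) : Set Γ) ∧ a ∈ normalizer (((R r).1 : Subgroup Γ) : Set Γ) :=
      fun r => by
        have hn := CfsgLib.le_normalizer_map_characteristic (A := zpowers a) (K := X)
          (by rw [normalizer_eq_top_iff.mpr hXn]; exact le_top) (Cfsg.pCore ((r : Nat.Primes) : ℕ) X)
        exact ⟨hn.2, hn.1 (mem_zpowers a)⟩
    haveI : Nonempty {r : Nat.Primes // (r : ℕ) ≠ L.2} := by
      by_cases h : L.2 = 2
      · exact ⟨⟨⟨3, Nat.prime_three⟩, by rw [h]; decide⟩⟩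
      · exact ⟨⟨⟨2, Nat.prime_two⟩, fun h' => h h'.symm⟩⟩
    have hLR : ∀ r, Layers ((P₀ :: l₀) ++ [R r]) := fun r => by
      refine ⟨?_, ?_, List.pairwise_append.mpr ⟨hl.norm, List.pairwise_singleton _ _, fun P hP Q hQ => ?_⟩,
        List.isChain_append.mpr ⟨hl.adj, List.isChain_singleton _, fun P hP Q hQ => ?_⟩⟩
      · intro P hP
        rcases List.mem_append.mp hP with hP | hP
        · exact hl.prime P hP
        · rw [List.mem_singleton] at hP
          rw [hP]
          exact (r : Nat.Primes).2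
      · intro P hP
        rcases List.mem_append.mp hP with hP | hP
        · exact hl.pgroup P hP
        · rw [List.mem_singleton] at hP
          rw [hP]
          exact (CfsgLib.isPGroup_pCore _).map _
      · rw [List.mem_singleton] at hQ
        rw [hQ]
        exact (hmem P hP).1.trans (hRn r).1
      · rw [List.getLast?_eq_some_getLast (List.cons_ne_nil _ _), Option.mem_def, Option.some.injEq] at hP
        rw [List.head?_cons, Option.mem_def, Option.some.injEq] at hQ
        subst hP hQ
        exact Ne.symm r.2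
    have hbase : ∀ x ∈ L.1, (∀ r, ∀ y ∈ (R r).1, ⁅x, y⁆ = 1) → f x = 1 := by
      intro x hx hxR
      have hxX : x ∈ X := (hmem L hLmem).1 hx
      rw [QuotientGroup.mk'_apply, QuotientGroup.eq_one_iff]
      refine ⟨⟨x, hxX⟩, mem_fitting_of_centralizes (f.subgroupMap X) (f.subgroupMap_surjective X) ?_ hLq ?_ ?_, rfl⟩
      · intro u hu
        have hu' : (u : Γ) ∈ F := (QuotientGroup.eq_one_iff _).mp (congrArg Subtype.val (MonoidHom.mem_ker.mp hu))
        obtain ⟨v, hv, hvu⟩ := hu'
        rwa [← Subtype.ext (hvu : (v : Γ) = u)]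
      · have hL' : (L.1.map f, L.2) ∈ l'.getLast? := by
          rw [← hmap, mapL, List.getLast?_map, List.getLast?_eq_some_getLast (List.cons_ne_nil _ _)]
          rfl
        obtain ⟨z, hz, hzx⟩ := hlast' _ hL' ⟨x, hx, rfl⟩
        rwa [show (f.subgroupMap X) ⟨x, hxX⟩ = z from Subtype.ext hzx.symm]
      · intro r hr y hy
        exact Subtype.ext (hxR ⟨r, hr⟩ y ⟨y, hy, rfl⟩)
    obtain ⟨r, hr⟩ : ∃ r, Alive ((P₀ :: l₀) ++ [R r]) := by
      by_contra h
      rw [not_exists] at h
      rw [← hmap] at halive hl'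
      refine halive ?_
      rintro _ ⟨x, hx, rfl⟩
      exact map_mem_kr f R l₀ P₀ hLR hl' hbase x hx fun r => not_not.mp (h r) hx
    refine ⟨(P₀ :: l₀) ++ [R r], hLR r, ?_, hr, ?_, ?_⟩
    · have := congrArg List.length hmap
      rw [mapL, List.length_map, hlen] at this
      rw [List.length_append, this, List.length_singleton]
    · intro P hP
      rcases List.mem_append.mp hP with hP | hP
      · exact hmem P hP
      · rw [List.mem_singleton] at hP
        rw [hP]
        exact ⟨Subgroup.map_subtype_le _, (hRn r).2⟩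
    · intro Q hQ
      rw [List.getLast?_append, List.getLast?_singleton, Option.some_or, Option.mem_def, Option.some.injEq] at hQ
      subst hQ
      exact le_rfl

end CfsgLib.Turull
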