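import Cfsg.Agent.Lib.Turull.Frame

/-!
A layer moved by the automorphism under a centralised one: the fixed points of the moved layer act nontrivially
below, and the centralised layer above acts nontrivially on them.
-/

set_option autoImplicit false

namespace CfsgLib.Turull

open Subgroup Finset
open scoped commutatorElement

universe u v w

section General

variable {H : Type u} [Group H] [Finite H] {K : Type v} [Field K] {V : Type w} [AddCommGroup V] [Module K V]
  {ρ : H →* Module.End K V} {Z : Subgroup H} {μ : H → K}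

/-- An element centralizing `a` and its fixed vectors fixes the moved weight spaces. -/
theorem weight_fix_of_moved (hμ : IsChar Z μ) (hK : (Nat.card Z : K) ≠ 0) {a x : H} {r N : ℕ} (hr : r.Prime)
    (ha : a ^ r = 1) (haZ : a ∈ normalizer (Z : Set H)) (hmove : conjW a μ ≠ μ) {W : Submodule K V}
    (haW : a ∈ stabW ρ W) (hxa : Commute x a) (hxZ : x ∈ normalizer (Z : Set H))
    (hxN : x ^ N = 1) (hN : N.Coprime r) (hfix : ∀ v ∈ W, ρ a v = v → ρ x v = v) :
    ∀ w ∈ W, w ∈ wtS ρ Z μ → ρ x w = w := by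
  intro w hw hwμ
  by_cases hw0 : w = 0
  · rw [hw0, map_zero]
  set v := orbSum ρ a r w with hv
  have hxv : ρ x v = v := hfix v (orbSum_mem ρ r haW hw) (rho_orbSum ρ ha w)
  rw [hv, ← orbSum_rho ρ hxa] at hxv
  have hxw : ρ x w ∈ wtS ρ Z (conjW x μ) := rho_mem_wtS hxZ hwμ
  have hmove' : conjW a (conjW x μ) ≠ conjW x μ := fun h => hmove (by
    rw [← conjW_mul, ← hxa.eq, conjW_mul] at h
    have h2 := congrArg (conjW x⁻¹) h
    rwa [← conjW_mul, inv_mul_cancel, conjW_one, ← conjW_mul, inv_mul_cancel, conjW_one] at h2)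
  obtain ⟨i, hir, hi⟩ : ∃ i < r, conjW (a ^ i) μ = conjW x μ := by
    by_contra hcon
    push Not at hcon
    have h1 := congrArg (wtProj ρ Z (conjW x μ)) hxv
    rw [wtProj_orbSum (hμ.conj hxZ) hK hr ha haZ hmove' hxw, orbSum_apply, map_sum,
      Finset.sum_eq_zero fun i hi => wtProj_eq_zero ρ (hμ.conj hxZ)
        (hμ.conj ((normalizer (Z : Set H)).pow_mem haZ i)) (fun h => hcon i (Finset.mem_range.mp hi) h.symm)
        (rho_mem_wtS ((normalizer (Z : Set H)).pow_mem haZ i) hwμ)] at h1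
    exact hw0 (by rw [← rho_inv_cancel ρ x w, h1, map_zero])
  have hiter : ∀ m : ℕ, conjW (x ^ m) μ = conjW (a ^ (i * m)) μ := by
    intro m
    induction m with
    | zero => simp [conjW_one]
    | succ m ih =>
      rw [pow_succ', conjW_mul, ih, ← conjW_mul, (hxa.pow_right (i * m)).eq, conjW_mul, ← hi, ← conjW_mul,
        ← pow_add, Nat.mul_succ]
  have hi0 : i = 0 := by
    by_contra hi0
    have h1 := hiter N
    rw [hxN, conjW_one] at h1
    refine pow_not_mem_wtFix hr ha hmove (i := i) (Nat.pos_of_ne_zero hi0) hir ?_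
    obtain ⟨j, -, hj⟩ := Nat.exists_mul_mod_eq_one_of_coprime hN hr.one_lt
    have h3 : (a ^ (i * N)) ^ j ∈ wtFix μ := (wtFix μ).pow_mem h1.symm j
    rwa [← pow_mul, mul_assoc, pow_eq_pow_mod (i * (N * j)) ha, Nat.mul_mod, hj, mul_one, Nat.mod_mod,
      ← pow_eq_pow_mod i ha] at h3
  subst hi0
  rw [pow_zero, conjW_one] at hi
  rw [← hi] at hxw
  have h1 := congrArg (wtProj ρ Z μ) hxv
  rwa [wtProj_orbSum hμ hK hr ha haZ hmove hxw, wtProj_orbSum hμ hK hr ha haZ hmove hwμ] at h1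

end General

variable {Γ : Type u} [Group Γ] [Finite Γ] {a : Γ} {r : ℕ} {X : Subgroup Γ} {l : List (Layer Γ)}

/-- A function fixed by a group generating the section by commutators vanishes. -/
theorem fixed_group_zero {K : Type v} [Field K] {Q B P : Subgroup Γ} (hBQ : B ≤ Q)
    (hPQ : P ≤ normalizer (Q : Set Γ)) (hgen : Q ≤ ⁅Q, P⁆ ⊔ B) {f : Γ → K} (hf : f ∈ secDual K Q B)
    (hP : ∀ g ∈ P, conjFun g f = f) : f = 0 := by
  let S : Subgroup Γ :=
    { carrier := {y | y ∈ Q ∧ f y = 0}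
      one_mem' := ⟨Q.one_mem, secDual_one hf⟩
      mul_mem' := fun {y z} hy hz => ⟨Q.mul_mem hy.1 hz.1, by rw [hf.2.1 y hy.1 z hz.1, hy.2, hz.2, add_zero]⟩
      inv_mem' := fun {y} hy => ⟨Q.inv_mem hy.1, by rw [secDual_inv hf hy.1, hy.2, neg_zero]⟩ }
  have hS : ⁅Q, P⁆ ≤ S := by
    rw [Subgroup.commutator_le]
    intro u hu g hg
    have h1 : ⁅g, u⁆ ∈ Q := comm_mem_of_normalizes (hPQ hg) hu
    have h2 := conjFun_sub (inv_mem (hPQ hg)) hu hf
    rw [congrFun (hP g⁻¹ (inv_mem hg)) u, inv_inv] at h2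
    refine S.inv_mem_iff.mp ?_
    rw [commutatorElement_inv]
    exact ⟨h1, left_eq_add.mp (h2.trans (add_comm _ _))⟩
  funext y
  by_cases hy : y ∈ Q
  · exact ((hgen.trans (sup_le hS fun b hb => ⟨hBQ hb, hf.2.2 b hb⟩)) hy).2
  · exact hf.1 y hy

/-- An element fixing the orbit sums of the good members fixes all fixed functions. -/
theorem fix_fixed {K : Type v} [Field K] {M : Layer Γ} {rest : List (Layer Γ)}
    {Ts : Set (Submodule K (Γ → K))} {Good : Submodule K (Γ → K) → Prop}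
    (hF : IsFrame a r M rest Ts Good) (hr : r.Prime) (hpow : a ^ r = 1) (hrK : (r : K) ≠ 0)
    (haM : NormAll a (M :: rest)) {p : ℕ} (hp : p.Prime) (hpM : p ≠ M.2) (hpr : p ≠ r) {R P : Subgroup Γ}
    (hRp : IsPGroup p R) (hRn : ∀ g ∈ R, NormAll g (M :: rest)) (haR : a ∈ normalizer (R : Set Γ))
    (hgen : R ≤ ⁅R, zpowers a⁆) (hzero : ∀ f ∈ Wl K M rest, (∀ g ∈ R, conjFun g f = f) → f = 0)
    (hPR : P ≤ normalizer (R : Set Γ)) (hRP : R ≤ ⁅R, P⁆) (hPn : ∀ g ∈ P, NormAll g (M :: rest))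
    (hPa : ∀ g ∈ P, Commute g a) {N : ℕ} (hN : N.Coprime r) (hPN : ∀ g ∈ P, g ^ N = 1)
    (hgood : ∀ g ∈ P, ∀ T ∈ Ts, Good T → ∀ t ∈ T, conjFun g (orbSum conjFun a r t) = orbSum conjFun a r t) :
    ∀ g ∈ P, ∀ w ∈ Wl K M rest, conjFun a w = w → conjFun g w = w := by
  classical
  haveI := Fact.mk hp
  set σ := conjFun (Γ := Γ) (K := K)
  let S₀ : Submodule K (Γ → K) := Submodule.span K {F | ∃ T ∈ Ts, Good T ∧ ∃ t ∈ T, F = orbSum σ a r t}
  have hS₀mem : ∀ T ∈ Ts, Good T → ∀ t ∈ T, orbSum σ a r t ∈ S₀ := fun T hT hg t ht =>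
    Submodule.subset_span ⟨T, hT, hg, t, ht, rfl⟩
  have hS₀fix : ∀ g ∈ P, ∀ F ∈ S₀, σ g F = F := by
    intro g hg F hF'
    induction hF' using Submodule.span_induction with
    | mem F hF => obtain ⟨T, hT, hTg, t, ht, rfl⟩ := hF; exact hgood g hg T hT hTg t ht
    | zero => rw [map_zero]
    | add x y _ _ hx hy => rw [map_add, hx, hy]
    | smul c x _ hx => rw [map_smul, hx]
  suffices hall : ∀ T ∈ Ts, ∀ t ∈ T, orbSum σ a r t ∈ S₀ by
    intro g hg w hw hwa
    have h1 : orbSum σ a r w ∈ S₀ := by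
      refine Submodule.iSup_induction _ (motive := fun z => orbSum σ a r z ∈ S₀) (hF.span hw) (fun T z hz => ?_)
        (by simp) (fun x y hx hy => by rw [map_add]; exact S₀.add_mem hx hy)
      by_cases hT : T ∈ Ts
      · rw [iSup_pos hT] at hz
        exact hall T hT z hz
      · rw [iSup_neg hT, Submodule.mem_bot] at hz
        simp [hz]
    rw [orbSum_fixed σ r hwa] at h1
    have h2 := S₀.smul_mem ((r : K)⁻¹) h1
    rw [smul_smul, inv_mul_cancel₀ hrK, one_smul] at h2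
    exact hS₀fix g hg w h2
  intro T hT t ht
  by_cases hTg : Good T
  · exact hS₀mem T hT hTg t ht
  have haT : a ∈ stabW σ T := by
    by_contra h
    exact hTg (hF.moved T hT h)
  set c := orbSum σ a r t
  have hcT : c ∈ T := orbSum_mem σ r haT ht
  have hca : σ a c = c := rho_orbSum σ hpow t
  have hcW : c ∈ Wl K M rest := hF.le T hT hcT
  by_cases hRT : R ≤ stabW σ T
  · rw [hzero c hcW (hF.bad T hT hTg p R hp hpM hpr hRp hRn haR hgen hRT c hcT hca)]
    exact S₀.zero_mem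
  by_contra hc
  set L := (R ⊓ stabW σ T) ⊔ Fr R with hL
  have hLR : L ≤ R := sup_le inf_le_left (fr_le R)
  have hLne : L ≠ R := fun h => hRT ((fr_nongenerating inf_le_left h.ge).ge.trans inf_le_right)
  have hRL : R ≤ normalizer (L : Set Γ) :=
    le_normalizer_of_comm_mem hLR fun x hx y hy => mem_sup_right (comm_mem_fr hRp hx hy)
  refine hLne (le_antisymm hLR (hRP.trans ?_))
  rw [Subgroup.commutator_le]
  intro u hu x hx
  -- the conjugate member
  have hxn := hPn x hx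
  have hxR := hPR hx
  have hxa := hPa x hx
  set T' := T.map (σ x) with hT'
  have hT'mem : T' ∈ Ts := hF.inv x hxn T hT
  have hstab' : ∀ g, g ∈ stabW σ T → x * g * x⁻¹ ∈ stabW σ T' := by
    refine fun g hg => ⟨?_, ?_⟩
    · rintro _ ⟨s, hs, rfl⟩
      exact ⟨σ g s, hg.1 s hs, by rw [rho_mul, rho_mul, rho_inv_cancel]⟩
    · rintro _ ⟨s, hs, rfl⟩
      refine ⟨σ g⁻¹ s, hg.2 s hs, ?_⟩
      rw [show (x * g * x⁻¹)⁻¹ = x * g⁻¹ * x⁻¹ by group, rho_mul, rho_mul, rho_inv_cancel]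
  have hstabback : ∀ g, g ∈ stabW σ T' → x⁻¹ * g * x ∈ stabW σ T := by
    refine fun g hg => ⟨fun s hs => ?_, fun s hs => ?_⟩
    · obtain ⟨y, hy, he⟩ := hg.1 _ ⟨s, hs, rfl⟩
      rw [rho_mul, rho_mul, ← he, rho_inv_cancel]
      exact hy
    · obtain ⟨y, hy, he⟩ := hg.2 _ ⟨s, hs, rfl⟩
      rw [show (x⁻¹ * g * x)⁻¹ = x⁻¹ * g⁻¹ * x by group, rho_mul, rho_mul, ← he, rho_inv_cancel]
      exact hy
  have haT' : a ∈ stabW σ T' := by
    have h1 := hstab' a haT
    rwa [show x * a * x⁻¹ = a by rw [hxa.eq, mul_inv_cancel_right]] at h1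
  set L' := (R ⊓ stabW σ T') ⊔ Fr R
  have hxFr : x ∈ normalizer (Fr R : Set Γ) := fr_normalized hxR
  have hconj : ∀ g ∈ L, x * g * x⁻¹ ∈ L' := by
    have h : L ≤ L'.comap (MulAut.conj x).toMonoidHom := sup_le
      (fun g hg => mem_sup_left ⟨conj_mem_of_mem_normalizer hxR hg.1, hstab' g hg.2⟩)
      (fun g hg => mem_sup_right (conj_mem_of_mem_normalizer hxFr hg))
    exact h
  have hconjback : ∀ g ∈ L', x⁻¹ * g * x ∈ L := by
    have h : L' ≤ L.comap (MulAut.conj x⁻¹).toMonoidHom := sup_le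
      (fun g hg => mem_sup_left ⟨by simpa using conj_mem_of_mem_normalizer (inv_mem hxR) hg.1,
        by simpa using hstabback g hg.2⟩)
      (fun g hg => mem_sup_right (conj_mem_of_mem_normalizer (inv_mem hxFr) hg))
    intro g hg
    simpa using h hg
  have hout := IsFrame.translate_out hr hpow hp hpr hRp haR hgen haT
  have hgoodT := hF.translate_good hr hpow hp hpr hRp hRn haR hgen hT haT
  have hgoodT' := hF.translate_good hr hpow hp hpr hRp hRn haR hgen hT'mem haT'
  have haipow : ∀ i, a ^ i ∈ normalizer (R : Set Γ) := fun i => (normalizer (R : Set Γ)).pow_mem haR i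
  -- some translate of the conjugate lands in the conjugate class
  have hkey : ∀ e ∈ R, e ∉ L → ∃ i < r, e⁻¹ * ((x * a ^ i) * e * (x * a ^ i)⁻¹) ∈ L' := by
    intro e he heL
    by_contra hcon
    push Not at hcon
    set G := fun i => e⁻¹ * (a ^ i * e * (a ^ i)⁻¹) with hG
    set D := fun i => e⁻¹ * ((x * a ^ i) * e * (x * a ^ i)⁻¹) with hD
    have hGR : ∀ i, G i ∈ R := fun i => R.mul_mem (R.inv_mem he) (conj_mem_of_mem_normalizer (haipow i) he)
    have hDR : ∀ i, D i ∈ R := fun i =>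
      R.mul_mem (R.inv_mem he) (conj_mem_of_mem_normalizer (mul_mem hxR (haipow i)) he)
    have hs : σ x (orbSum σ a r (σ e c)) = orbSum σ a r (σ e c) :=
      hS₀fix x hx _ (hS₀mem _ (hF.inv e (hRn e he) T hT) (hgoodT e he heL) _ ⟨c, hcT, rfl⟩)
    have hexp : orbSum σ a r (σ e c) = σ e (∑ i ∈ range r, σ (G i) c) := by
      rw [orbSum_apply, map_sum]
      refine Finset.sum_congr rfl fun i _ => ?_
      have hfixi : σ (a ^ i)⁻¹ c = c := conjFun_fixed_zpowers hca _ (inv_mem (pow_mem (mem_zpowers a) i))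
      conv_lhs => rw [← hfixi]
      rw [← rho_mul, ← rho_mul, ← rho_mul]
      congr 2
      simp [G, mul_assoc]
    rw [hexp] at hs
    have h1 : ∑ i ∈ range r, σ (G i) c = ∑ i ∈ range r, σ (D i) (σ x c) := by
      have h2 := congrArg (σ e⁻¹) hs
      rw [rho_inv_cancel, map_sum, map_sum, map_sum] at h2
      rw [← h2]
      refine Finset.sum_congr rfl fun i _ => ?_
      rw [← rho_mul, ← rho_mul, ← rho_mul, ← rho_mul]
      congr 2
      simp [G, D, mul_assoc]
    have h3 := congrArg (orbSum σ a r) h1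
    rw [map_sum, map_sum, ← Finset.sum_erase_add _ _ (Finset.mem_range.mpr hr.pos)] at h3
    have h4 : orbSum σ a r (σ (G 0) c) = (r : K) • c := by
      rw [show G 0 = 1 by simp [G], map_one, Module.End.one_apply, orbSum_fixed σ r hca]
    rw [h4] at h3
    have h5 : (r : K) • c ∈ S₀ := by
      rw [eq_sub_of_add_eq' h3]
      refine S₀.sub_mem (S₀.sum_mem fun i hi => ?_) (S₀.sum_mem fun i hi => ?_)
      · exact hS₀mem _ (hF.inv _ (hRn _ (hDR i)) T' hT'mem)
          (hgoodT' _ (hDR i) (hcon i (Finset.mem_range.mp hi))) _ ⟨σ x c, ⟨c, hcT, rfl⟩, rfl⟩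
      · exact hS₀mem _ (hF.inv _ (hRn _ (hGR i)) T hT)
          (hgoodT _ (hGR i) (hout e he heL i (Nat.pos_of_ne_zero (Finset.ne_of_mem_erase hi))
            (Finset.mem_range.mp (Finset.mem_of_mem_erase hi)))) _ ⟨c, hcT, rfl⟩
    have h6 := S₀.smul_mem ((r : K)⁻¹) h5
    rw [smul_smul, inv_mul_cancel₀ hrK, one_smul] at h6
    exact hc h6
  have hL'L : L' ≤ L := by
    intro e he
    have heR : e ∈ R := (sup_le inf_le_left (fr_le R) : L' ≤ R) he
    by_contra heL
    obtain ⟨i, -, hi⟩ := hkey e heR heL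
    have h1 := hconjback _ (L'.mul_mem he hi)
    have h2 : a ^ i * e * (a ^ i)⁻¹ ∈ L := by simpa [mul_assoc] using h1
    have haiL : a ^ i ∈ normalizer (L : Set Γ) := (normalizer (L : Set Γ)).pow_mem
      (mem_normalizer_sup (mem_normalizer_inf haR (le_normalizer haT)) (fr_normalized haR)) i
    exact heL (by simpa [mul_assoc] using conj_mem_of_mem_normalizer (inv_mem haiL) h2)
  have hLL' : L' = L := by
    refine Subgroup.eq_of_le_of_card_ge hL'L ?_
    exact Nat.card_le_card_of_injective (fun g : L => (⟨x * g * x⁻¹, hconj g g.2⟩ : L'))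
      fun g g' h => Subtype.ext (by simpa using congrArg Subtype.val h)
  have haL : a ∈ normalizer (L : Set Γ) :=
    mem_normalizer_sup (mem_normalizer_inf haR (le_normalizer haT)) (fr_normalized haR)
  have hxL : x ∈ normalizer (L : Set Γ) :=
    mem_normalizer_of_conj (fun g hg => hLL' ▸ hconj g hg) fun g hg => by
      rw [inv_inv]
      exact hconjback g (hLL'.symm ▸ hg)
  by_cases huL : u ∈ L
  · rw [commutatorElement_def, mul_assoc u x, mul_assoc u]
    exact L.mul_mem huL (conj_mem_of_mem_normalizer hxL (L.inv_mem huL))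
  obtain ⟨i, hir, hi⟩ := hkey u hu huL
  rw [hLL'] at hi
  set g := x * a ^ i with hg
  have hgL : g ∈ normalizer (L : Set Γ) := mul_mem hxL ((normalizer (L : Set Γ)).pow_mem haL i)
  have hgc : ⁅g, u⁆ ∈ L := by
    have h2 := conj_mem_of_mem_normalizer (hRL hu) hi
    simpa [commutatorElement_def, mul_assoc] using h2
  have hpowL : ∀ b ∈ normalizer (L : Set Γ), ⁅b, u⁆ ∈ L → ∀ m : ℕ, ⁅b ^ m, u⁆ ∈ L := by
    intro b hb hbu m
    induction m with
    | zero => simp [commutatorElement_one_left]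
    | succ m ih =>
      rw [pow_succ', show ⁅b * b ^ m, u⁆ = b * ⁅b ^ m, u⁆ * b⁻¹ * ⁅b, u⁆ by simp [commutatorElement_def, mul_assoc]]
      exact L.mul_mem (conj_mem_of_mem_normalizer hb ih) hbu
  have hgfix := hpowL g hgL hgc
  have hi0 : i = 0 := by
    by_contra hi0
    have h1 := hgfix N
    rw [hg, (hxa.pow_right i).mul_pow, hPN x hx, one_mul, ← pow_mul] at h1
    obtain ⟨j, -, hj⟩ := Nat.exists_mul_mod_eq_one_of_coprime
      (Nat.Coprime.mul_left (Nat.Coprime.symm (hr.coprime_iff_not_dvd.mpr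
        fun hd => absurd (Nat.le_of_dvd (Nat.pos_of_ne_zero hi0) hd) (by omega))) hN) hr.one_lt
    refine hout u hu huL 1 one_pos hr.one_lt ?_
    have h2 : ⁅a ^ (i * N * j), u⁆ ∈ L := by
      rw [pow_mul]
      exact hpowL _ ((normalizer (L : Set Γ)).pow_mem haL _) h1 j
    rw [pow_eq_pow_mod (i * N * j) hpow, hj, pow_one] at h2
    rw [pow_one]
    have h3 := conj_mem_of_mem_normalizer (inv_mem (hRL hu)) h2
    simpa [commutatorElement_def, mul_assoc] using h3
  subst hi0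
  rw [hg, pow_zero, mul_one] at hgc
  rw [← commutatorElement_inv]
  exact L.inv_mem hgc

/-- The fixed points of the moved layer under a centralised one. -/
theorem fixed_layer (hc : Ctx a r X l) {pre rest : List (Layer Γ)} {P R M : Layer Γ}
    (hl : l = pre ++ P :: R :: M :: rest) (hpre : ∀ A ∈ pre, A.1 ≤ centralizer ({a} : Set Γ))
    (hP : P.1 ≤ centralizer ({a} : Set Γ)) (hgenA : ⁅R.1, zpowers a⁆ = R.1)
    (hXM : ∀ x ∈ P.1, ∀ c ∈ M.1 ⊓ centralizer ({a} : Set Γ), ⁅x, c⁆ ∈ Kr (Cl a (M :: rest))) :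
    ¬ R.1 ⊓ centralizer ({a} : Set Γ) ≤ Kr (Cl a (R :: M :: rest)) ∧
      ∀ pre' Y, pre = pre' ++ [Y] → ∃ y ∈ Y.1, ∃ c ∈ R.1 ⊓ centralizer ({a} : Set Γ),
        ⁅y, c⁆ ∉ Kr (Cl a (R :: M :: rest)) := by
  classical
  have hlP : l = pre ++ P :: R :: (M :: rest) := hl
  have hlR : l = (pre ++ [P]) ++ R :: M :: rest := by rw [hl]; simp
  have hlM : l = (pre ++ [P, R]) ++ M :: rest := by rw [hl]; simp
  haveI := Fact.mk (hc.prime_of hlR)
  haveI := Fact.mk (hc.prime_of hlM)
  haveI := Fact.mk (hc.prime_of hlP)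
  let K := AlgebraicClosure (ZMod M.2)
  haveI : CharP K M.2 := charP_of_injective_algebraMap (algebraMap (ZMod M.2) K).injective M.2
  obtain ⟨Ts, Good, hF⟩ := exists_frame hc rest (pre ++ [P, R]) M hlM K
  have hlay : Layers (P :: R :: M :: rest) := hc.layers_suffix hlP
  have hPR : P.2 ≠ R.2 := (List.isChain_cons_cons.mp hlay.adj).1
  have hRM : R.2 ≠ M.2 := (List.isChain_cons_cons.mp hlay.tail.adj).1
  have hgenl : Generated (P :: R :: M :: rest) := by
    have h := hc.tower.generated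
    rw [hlP, Generated] at h
    exact (List.isChain_append.mp h).2.1
  have hgenP : ⁅R.1, P.1⁆ = R.1 := (List.isChain_cons_cons.mp hgenl).1
  have hgenR : ⁅M.1, R.1⁆ = M.1 := (List.isChain_cons_cons.mp hgenl.tail).1
  have haR := hc.normAll_a hlR
  have hrK : (r : K) ≠ 0 := hc.castK hlM K
  have hRn : ∀ g ∈ R.1, NormAll g (R :: M :: rest) := fun g hg => hc.normAll_self hlR hg
  have hPn : ∀ g ∈ P.1, NormAll g (R :: M :: rest) := fun g hg => (hlay.normAll_head hg).tail
  have hPa : ∀ g ∈ P.1, Commute g a := fun g hg => mem_centralizer_singleton_iff.mp (hP hg)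
  have hRp := hc.pgroup_of hlR
  obtain ⟨kP, hkP⟩ := IsPGroup.iff_card.mp (hc.pgroup_of hlP)
  have hPN : ∀ g ∈ P.1, g ^ P.2 ^ kP = 1 := fun g hg => by
    rw [← hkP]
    exact orderOf_dvd_iff_pow_eq_one.mp (Subgroup.orderOf_dvd_natCard P.1 hg)
  have hNr : (P.2 ^ kP).Coprime r :=
    Nat.Coprime.pow_left _ ((Nat.coprime_primes (hc.prime_of hlP) hc.prime).mpr (hc.prime_ne hlP))
  set σ := conjFun (Γ := Γ) (K := K)
  set W := Wl K M rest with hW
  have haW : a ∈ stabW σ W := wl_stable haR.tail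
  have hRzero : ∀ f ∈ W, (∀ g ∈ R.1, σ g f = f) → f = 0 := fun f hf h =>
    fixed_group_zero (hc.bl_le hlM) (fun g hg => hRn g hg M (by simp)) (by rw [hgenR]; exact le_sup_left) hf h
  have hPfix : ∀ x ∈ P.1, ∀ w ∈ W, σ a w = w → σ x w = w := by
    refine fix_fixed hF hc.prime hc.pow hrK haR.tail (hc.prime_of hlR) hRM (hc.prime_ne hlR) hRp
      (fun g hg => (hRn g hg).tail) (haR R List.mem_cons_self) hgenA.ge hRzero
      (fun g hg => hPn g hg R List.mem_cons_self) hgenP.ge (fun g hg => (hPn g hg).tail) hPa hNr hPN ?_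
    intro g hg T hT hTg t ht
    exact hF.fix_orbSum hc.pow haR.tail (hc.coprime_of hlM) (hPn g hg).tail (hPa g hg)
      (fun c hc' => hXM g⁻¹ (inv_mem hg) c hc') hT hTg ht
  set Z := Zc R (M :: rest) with hZ
  have hZR : Z ≤ R.1 := zc_le
  have hcardR : ∀ {E : Subgroup Γ}, E ≤ R.1 → (Nat.card E : K) ≠ 0 := fun {E} hE h0 => by
    obtain ⟨k, hk⟩ := IsPGroup.iff_card.mp (hRp.to_le hE)
    rw [hk, Nat.cast_pow] at h0
    have h1 := (pow_eq_zero_iff'.mp h0).1
    rw [CharP.cast_eq_zero_iff K M.2] at h1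
    exact hRM ((Nat.prime_dvd_prime_iff_eq (hc.prime_of hlM) (hc.prime_of hlR)).mp h1).symm
  -- a weight with proper radical
  obtain ⟨μ, hμ, hne, hproper⟩ : ∃ μ : Γ → K, IsChar Z μ ∧ Uw K R M rest μ ≠ ⊥ ∧
      ¬ R.1 ≤ Nw K R M rest μ := by
    by_contra hcon
    push Not at hcon
    refine hc.ne_kr hlR (fr_nongenerating (kr_le R (M :: rest)) fun x hx => ?_).ge
    exact inter_nw (K := K) hc hlR hx fun μ hμ hne => hcon μ hμ hne hx
  set N := Nw K R M rest μ with hN
  set U := Uw K R M rest μ with hU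
  have hBN : Bl R (M :: rest) ≤ N := bl_le_nw hc hlR hμ hne
  have hNR : N ≤ R.1 := nw_le μ
  have hRNn : R.1 ≤ normalizer (N : Set Γ) :=
    le_normalizer_of_comm_mem hNR fun x hx y hy => hBN (mem_sup_right (comm_mem_fr hRp hx hy))
  -- not every element centralizes modulo the radical
  have hncen : ¬ ∀ x ∈ P.1, ∀ u ∈ R.1, ⁅x, u⁆ ∈ N := fun h => hproper (hgenP.ge.trans
    (Subgroup.commutator_le.mpr fun u hu x hx => by
      rw [← commutatorElement_inv]
      exact N.inv_mem (h x hx u hu)))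
  have hfixed : conjW a μ = μ := by
    by_contra hmove
    refine hncen fun x hx u hu => ?_
    have hxU : ∀ w ∈ U, σ x w = w := fun w hw =>
      weight_fix_of_moved hμ (hcardR hZR) hc.prime hc.pow (zc_normalized haR) hmove haW (hPa x hx)
        (zc_normalized (hPn x hx)) (hPN x hx) hNr (hPfix x hx) w hw.1 hw.2
    refine mem_nw_of_fixes hc hlR hμ hne (comm_mem_of_normalizes (hPn x hx R List.mem_cons_self) hu) ?_
    rw [show ⁅x, u⁆ = x * (u * x⁻¹ * u⁻¹) by simp [commutatorElement_def, mul_assoc]]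
    exact mul_mem hxU (conj_mem_of_mem_normalizer
      (stabW_le_normalizer_fixW _ _ (weight_fixed hc hlR hμ hne hu).2) ((fixW σ U).inv_mem hxU))
  have haU : a ∈ stabW σ U := uw_stable haR hfixed
  have hRU : R.1 ≤ stabW σ U := fun g hg => (weight_fixed hc hlR hμ hne hg).2
  have hfr : ¬ Fr R.1 ≤ Kr (R :: M :: rest) := by
    intro hfr
    refine hproper (hgenA.ge.trans ?_)
    refine commutator_zpowers_le (nw_normalized haR hfixed) fun y hy =>
      mem_nw_of_fixes hc hlR hμ hne (comm_mem_of_normalizes (haR R List.mem_cons_self) hy) fun w hw => ?_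
    have hZtop : ∀ x ∈ R.1, x ∈ Z := fun x hx =>
      ⟨hx, kr_normalized _ x (hRn x hx), fun y hy => hfr (comm_mem_fr hRp hx hy)⟩
    have hy' : a * y * a⁻¹ ∈ R.1 := conj_mem_of_mem_normalizer (haR R List.mem_cons_self) hy
    have e : μ (a * y * a⁻¹) = μ y := by
      conv_lhs => rw [← hfixed]
      simp [conjW, mul_assoc]
    rw [commutatorElement_def, rho_mul (g := a * y * a⁻¹), hw.2 _ (hZtop _ (inv_mem hy)), map_smul,
      hw.2 _ (hZtop _ hy'), e, smul_smul, hμ.mul_inv (hZtop _ hy), one_smul]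
  obtain ⟨hZB, hBR⟩ := (hc.shape hlR).resolve_left hfr
  have hcomZ : ∀ x ∈ R.1, ∀ y ∈ R.1, ⁅x, y⁆ ∈ Z := fun x hx y hy => by
    have h1 : ⁅x, y⁆ ∈ Bl R (M :: rest) := mem_sup_right (comm_mem_fr hRp hx hy)
    exact ⟨hc.bl_le hlR h1, kr_normalized _ _ (hRn _ (hc.bl_le hlR h1)),
      fun z hz => hBR (Subgroup.commutator_mem_commutator h1 hz)⟩
  have hNdef : N = sectKer R.1 R.1 (fixW σ U) := by
    show Nw K R M rest μ = _
    unfold Nw
    rw [if_neg hfr]
  have hPK : ⁅Z, P.1⁆ ≤ Kr (R :: M :: rest) := by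
    refine hc.tower.comm_le hlP (fun y hy => hy.1) (fun h => hproper ?_)
      (fun A hA g hg => zc_normalized (hc.normAll_mem hlR hA hg)) (zc_normalized haR)
    intro x hx
    exact bl_le_nw hc hlR hμ hne (hZB (h.ge hx))
  obtain ⟨w₀, hw₀, hw₀0⟩ := Submodule.exists_mem_ne_zero_of_ne_bot hne
  have hxμ : ∀ x ∈ P.1, conjW x μ = μ := fun x hx =>
    conjW_eq_of_central hμ (W := W) (wl_stable (hPn x hx).tail) (zc_normalized (hPn x hx))
      (fun z hz => by
        have hk := hPK (Subgroup.commutator_mem_commutator hz (inv_mem hx))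
        exact (hc.mem_kr_iff_fixes (K := K) hlR (kr_le _ _ hk)).mp hk) hw₀.1 hw₀0 hw₀.2
  have hPU : P.1 ≤ stabW σ U := fun x hx => uw_stable (hPn x hx) (hxμ x hx)
  -- the radical is scalar
  set A := zpowers a with hA
  have hscalN : scalOn σ R.1 U ≤ N := by
    intro z hz
    obtain ⟨hzR, c, hc'⟩ := (mem_scalOn hRU).mp hz
    rw [hNdef]
    refine ⟨hzR, stabW_le_normalizer_fixW _ _ (hRU hzR), fun y hy v hv => ?_⟩
    have hw : σ y⁻¹ v ∈ U := (hRU hy).2 v hv
    have hw' : σ z⁻¹ (σ y⁻¹ v) ∈ U := (hRU hzR).2 _ hw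
    rw [commutatorElement_def, rho_mul, rho_mul, rho_mul, hc' _ ((hRU hy).1 _ hw'), ← map_smul, ← hc' _ hw',
      rho_cancel_inv, rho_cancel_inv]
  have hop : Op (restrW σ U) (R.1.subgroupOf (stabW σ U)) ⟨a, haU⟩ r := by
    refine op_on_subspace hRU haU (haR R List.mem_cons_self) hc.prime hc.pow hrK
      (fun h => hc.cop (h.trans (Subgroup.card_dvd_of_le (hc.tower.le R (hc.mem_list hlR))))) (hcardR le_rfl)
      hgenA.ge (fun u hu w hw => ⟨μ ⁅u, w⁆, fun v hv => hv.2 _ (hcomZ u hu w hw)⟩) ?_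
    intro u hu h
    have huN : u ∈ N := by
      rw [hNdef]
      exact ⟨hu, stabW_le_normalizer_fixW _ _ (hRU hu), h⟩
    -- the weights of the radical are fixed
    have hNfix : ∀ g ∈ A, ⁅u, g⁆ ∈ fixW σ U := by
      intro g hg v hv
      have hNU : N ≤ stabW σ U := hNR.trans hRU
      have hab : ∀ x ∈ N, ∀ y ∈ N, ⁅x, y⁆ ∈ fixW σ U := fun x hx y hy => by
        rw [hNdef] at hx
        exact hx.2.2 y (hNR hy)
      refine Submodule.iSup_induction _ (motive := fun z => σ ⁅u, g⁆ z = z)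
        (le_iSup_wtS σ hNU (hcardR hNR) hab hv) ?_ (by simp) (fun x y hx hy => by rw [map_add, hx, hy])
      rintro ⟨ν, hν⟩ z hz
      dsimp only at hz
      by_cases hz0 : z = 0
      · rw [hz0, map_zero]
      have haN : a ∈ normalizer (N : Set Γ) := nw_normalized haR hfixed
      have hfixν : conjW a ν = ν := by
        by_contra hmove
        refine hncen fun x hx y hy => ?_
        have hxN : x ∈ normalizer (N : Set Γ) := nw_normalized (hPn x hx) (hxμ x hx)
        have hxfix : ∀ w ∈ U, w ∈ wtS σ N ν → σ x w = w :=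
          weight_fix_of_moved hν (hcardR hNR) hc.prime hc.pow haN hmove haU (hPa x hx) hxN (hPN x hx) hNr
            (fun w hw hwa => hPfix x hx w hw.1 hwa)
        have hRν : ∀ g ∈ R.1, g ∈ stabW σ (U ⊓ wtS σ N ν) := fun g hg =>
          mem_stabW_inf_wtS (hRU hg) (hRNn hg) (conjW_eq_of_central hν (hRU hg) (hRNn hg)
            (fun s hs => by rw [hNdef] at hs; exact hs.2.2 _ (inv_mem hg)) hz.1 hz0 hz.2)
        have hxu : ⁅x, y⁆ ∈ R.1 := comm_mem_of_normalizes (hPn x hx R List.mem_cons_self) hy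
        have hxF : x ∈ fixW σ (U ⊓ wtS σ N ν) := fun w hw => hxfix w hw.1 hw.2
        have h1 : ⁅x, y⁆ ∈ fixW σ (U ⊓ wtS σ N ν) := by
          rw [show ⁅x, y⁆ = x * (y * x⁻¹ * y⁻¹) by simp [commutatorElement_def, mul_assoc]]
          exact mul_mem hxF (conj_mem_of_mem_normalizer (stabW_le_normalizer_fixW _ _ (hRν y hy)) (inv_mem hxF))
        rw [hNdef]
        refine ⟨hxu, stabW_le_normalizer_fixW _ _ (hRU hxu), fun w hw v' hv' => ?_⟩
        have hz2 : z ∈ U ⊓ wtS σ N ν := ⟨hz.1, hz.2⟩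
        have h2 : σ ⁅⁅x, y⁆, w⁆ z = z := by
          have h3 : ⁅⁅x, y⁆, w⁆ ∈ fixW σ (U ⊓ wtS σ N ν) := by
            rw [show ⁅⁅x, y⁆, w⁆ = ⁅x, y⁆ * (w * ⁅x, y⁆⁻¹ * w⁻¹) by simp [commutatorElement_def, mul_assoc]]
            exact mul_mem h1 (conj_mem_of_mem_normalizer (stabW_le_normalizer_fixW _ _ (hRν w hw)) (inv_mem h1))
          exact h3 z hz2
        rw [hz.1.2 _ (hcomZ _ hxu w hw)] at h2
        have h4 : (μ ⁅⁅x, y⁆, w⁆ - 1) • z = 0 := by rw [sub_smul, one_smul, h2, sub_self]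
        rw [hv'.2 _ (hcomZ _ hxu w hw), sub_eq_zero.mp ((smul_eq_zero.mp h4).resolve_right hz0), one_smul]
      have hgν : conjW g⁻¹ ν = ν := (show A ≤ wtFix ν from zpowers_le.mpr hfixν) (inv_mem hg)
      have h1 : g * u⁻¹ * g⁻¹ ∈ N :=
        conj_mem_of_mem_normalizer ((zpowers_le.mpr haN : A ≤ _) hg) (N.inv_mem huN)
      have h2 : ν (g * u⁻¹ * g⁻¹) = ν u⁻¹ := by
        conv_rhs => rw [← hgν]
        simp [conjW]
      rw [commutatorElement_def, show u * g * u⁻¹ * g⁻¹ = u * (g * u⁻¹ * g⁻¹) by group, rho_mul, hz.2 _ h1,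
        map_smul, hz.2 _ huN, h2, smul_smul, hν.mul_inv huN, one_smul]
    have haz : A ≤ normalizer ((R.1 : Subgroup Γ) : Set Γ) := zpowers_le.mpr (haR R List.mem_cons_self)
    have huS : u ∈ scalOn σ R.1 U := by
      refine mem_of_fixed_mod haz (hc.coprime_of hlR) (isSolvable_zpowers a)
        (fun y hy => ((mem_scalOn hRU).mp hy).1)
        (fun g hg => mem_normalizer_scalOn hRU (hRU hg) (le_normalizer hg))
        (zpowers_le.mpr (mem_normalizer_scalOn hRU haU (haR R List.mem_cons_self)))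
        (fun x hx y hy => (mem_scalOn hRU).mpr ⟨comm_mem_of_normalizes (le_normalizer hx) hy, μ ⁅x, y⁆,
          fun v hv => hv.2 _ (hcomZ x hx y hy)⟩) (hgenA.ge.trans le_sup_left) hu fun g hg => ?_
      exact (mem_scalOn hRU).mpr ⟨CfsgLib.commutator_le_of_le_normalizer haz
        (Subgroup.commutator_mem_commutator hu hg), 1, fun v hv => by rw [hNfix g hg v hv, one_smul]⟩
    exact ((mem_scalOn hRU).mp huS).2
  haveI : Nontrivial U := Submodule.nontrivial_iff_ne_bot.mpr hne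
  have hnormR : ∀ g (hg : g ∈ stabW σ U), g ∈ normalizer ((R.1 : Subgroup Γ) : Set Γ) →
      (⟨g, hg⟩ : stabW σ U) ∈ normalizer (R.1.subgroupOf (stabW σ U) : Set (stabW σ U)) := fun g hg hgR => by
    refine mem_normalizer_of_conj (fun x hx => ?_) fun x hx => ?_
    · simpa [Subgroup.mem_subgroupOf] using conj_mem_of_mem_normalizer hgR hx
    · simpa [Subgroup.mem_subgroupOf] using conj_mem_of_mem_normalizer (inv_mem hgR) hx
  have hto : ∀ (z : stabW σ U), z ∈ Scal (restrW σ U) (R.1.subgroupOf (stabW σ U)) → (z : Γ) ∈ N :=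
    fun z hz => hscalN ((mem_scal_restr hRU).mp hz)
  obtain ⟨v, hv, hva, hv0⟩ : ∃ v ∈ U, σ a v = v ∧ v ≠ 0 := by
    by_contra hcon
    push Not at hcon
    refine hncen fun x hx u hu => ?_
    have h2 := (hop.no_fixed fun v hv => Subtype.ext (hcon _ v.2 (congrArg Subtype.val hv))).2 ⟨x, hPU hx⟩
      (hnormR x (hPU hx) (hPn x hx R List.mem_cons_self)) (Subtype.ext (hPa x hx).eq) (P.2 ^ kP)
      (Subtype.ext (hPN x hx)) hNr ⟨u, hRU hu⟩ hu
    simpa [commutatorElement_def] using hto _ h2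
  have hclass : ∀ x ∈ P.1, (∀ u ∈ R.1, ⁅x, u⁆ ∈ N) ∨ ∀ u ∈ R.1, x * u * x⁻¹ * u ∈ N := by
    intro x hx
    have hcop : (orderOf (⟨x, hPU hx⟩ : stabW σ U)).Coprime (Nat.card (R.1.subgroupOf (stabW σ U))) := by
      rw [Nat.card_congr (Subgroup.subgroupOfEquivOfLe hRU).toEquiv]
      exact Nat.Coprime.coprime_dvd_left
        (by rw [← Subgroup.orderOf_coe]; exact Subgroup.orderOf_dvd_natCard P.1 hx)
        (IsPGroup.coprime_card (hc.prime_of hlP) (hc.prime_of hlR) hPR (hc.pgroup_of hlP) hRp)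
    rcases hop.pair_classify (v := ⟨v, hv⟩) (fun h => hv0 (congrArg Subtype.val h)) (Subtype.ext hva)
      (x := ⟨x, hPU hx⟩) (hnormR x (hPU hx) (hPn x hx R List.mem_cons_self)) (Subtype.ext (hPa x hx).eq)
      (hc.prime_of hlP) (hc.prime_ne hlP) (Subtype.ext (hPN x hx)) hcop
      (fun w hw => Subtype.ext (hPfix x hx _ w.2.1 (congrArg Subtype.val hw))) with h | h
    · exact Or.inl fun u hu => by simpa [commutatorElement_def] using hto _ (h ⟨u, hRU hu⟩ hu)
    · exact Or.inr fun u hu => by simpa using hto _ (h ⟨u, hRU hu⟩ hu)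
  -- a fixed central element acting by a nontrivial scalar
  have hazZ : A ≤ normalizer (Z : Set Γ) := zpowers_le.mpr (zc_normalized haR)
  have hcopZ : (Nat.card A).Coprime (Nat.card Z) :=
    hc.coprime_of_le (hZR.trans (hc.tower.le R (hc.mem_list hlR)))
  have htriv : ∀ ν : Γ → K, IsChar Z ν → conjW a ν = ν → ∀ d ∈ ⁅Z, A⁆, ν d = 1 := by
    intro ν hν hfν d hd
    have h1 : ⁅Z, A⁆ ≤
        ({ carrier := {d | d ∈ Z ∧ ν d = 1}
           one_mem' := ⟨Z.one_mem, hν.one⟩
           mul_mem' := fun {x y} hx hy => ⟨Z.mul_mem hx.1 hy.1, by rw [hν.mul x hx.1 y hy.1, hx.2, hy.2, one_mul]⟩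
           inv_mem' := fun {x} hx => ⟨Z.inv_mem hx.1, by rw [hν.inv hx.1, hx.2, inv_one]⟩ } : Subgroup Γ) := by
      rw [Subgroup.commutator_le]
      intro d hd g hg
      refine ⟨CfsgLib.commutator_le_of_le_normalizer hazZ (Subgroup.commutator_mem_commutator hd hg), ?_⟩
      have h2 : conjW g⁻¹ ν = ν := (show A ≤ wtFix ν from zpowers_le.mpr hfν) (inv_mem hg)
      have h3 : g * d⁻¹ * g⁻¹ ∈ Z := conj_mem_of_mem_normalizer (hazZ hg) (Z.inv_mem hd)
      have h4 : ν (g * d⁻¹ * g⁻¹) = ν d⁻¹ := by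
        conv_rhs => rw [← h2]
        simp [conjW]
      rw [commutatorElement_def, show d * g * d⁻¹ * g⁻¹ = d * (g * d⁻¹ * g⁻¹) by group, hν.mul d hd _ h3, h4,
        mul_comm, hν.mul_inv hd]
    exact (h1 hd).2
  have hkill : ∀ k ∈ Z, k ∈ centralizer ({a} : Set Γ) → k ∈ Kr (Cl a (R :: M :: rest)) → μ k = 1 := by
    intro k hk hka hkC
    rw [cl_cons, cl_cons] at hkC
    have hkn := hRn k (hZR hk)
    have hka' : Commute k a := mem_centralizer_singleton_iff.mp hka
    have hmain := hF.master hc.prime hc.pow hrK haR.tail (hc.prime_of hlR) hRM (hc.prime_ne hlR) hRp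
      (fun g hg => (hRn g hg).tail) (haR R List.mem_cons_self) hgenA.ge (σ k - 1)
      (fun w hw => by
        simp only [LinearMap.sub_apply, Module.End.one_apply, map_sub]
        rw [← rho_mul, ← rho_mul σ a k, hka'.eq])
      (fun e he w hw => by
        simp only [LinearMap.sub_apply, Module.End.one_apply, map_sub]
        have hk' : ⁅e, k⁆ ∈ Kr (R :: M :: rest) := by
          rw [← commutatorElement_inv]
          exact inv_mem (hk.2.2 e he)
        have hfx := (hc.mem_kr_iff_fixes (K := K) hlR (kr_le _ _ hk')).mp hk' (σ k (σ e w))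
          ((wl_stable hkn.tail).1 _ ((wl_stable (hRn e he).tail).1 w hw))
        rw [← rho_mul, ← rho_mul] at hfx
        rw [← hfx, show ⁅e, k⁆ * k * e = e * k by simp [commutatorElement_def, mul_assoc], rho_mul])
      (fun T hT hg t ht => by
        simp only [LinearMap.sub_apply, Module.End.one_apply]
        rw [hF.fix_orbSum hc.pow haR.tail (hc.coprime_of hlM) hkn.tail hka'
          (fun c hc' => (inv_mem hkC : k⁻¹ ∈ _).2.2 c hc') hT hg ht, sub_self])
    have h1 : ∀ g ∈ R.1, σ g (σ k v - v) = σ k v - v := fun g hg => by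
      have h2 := hmain v hv.1 g hg
      rw [show orbSum conjFun a r v = (r : K) • v from orbSum_fixed σ r hva] at h2
      simp only [LinearMap.sub_apply, Module.End.one_apply, map_smul, ← smul_sub] at h2
      exact smul_right_injective _ hrK h2
    have h3 := hRzero _ (Submodule.sub_mem _ ((wl_stable hkn.tail).1 v hv.1) hv.1) h1
    rw [hv.2 k hk, sub_eq_zero] at h3
    have h4 : (μ k - 1) • v = 0 := by rw [sub_smul, one_smul, h3, sub_self]
    exact sub_eq_zero.mp ((smul_eq_zero.mp h4).resolve_right hv0)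
  refine ⟨fun hle => hproper fun u hu => ?_, fun pre' Y hY => ?_⟩
  · rw [hNdef]
    refine ⟨hu, stabW_le_normalizer_fixW _ _ (hRU hu), fun w hw v' hv' => ?_⟩
    obtain ⟨d, hd, c, hc', hdc⟩ :=
      CfsgLib.coprime_decomp hazZ hcopZ (Or.inl (isSolvable_zpowers a)) (hcomZ u hu w hw)
    have hca : c ∈ centralizer ({a} : Set Γ) :=
      mem_centralizer_singleton_iff.mpr (mem_centralizer_iff.mp hc'.2 a (mem_zpowers a)).symm
    rw [hv'.2 _ (hcomZ u hu w hw), hdc,
      hμ.mul d (CfsgLib.commutator_le_of_le_normalizer hazZ hd) c hc'.1, htriv μ hμ hfixed d hd,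
      hkill c hc'.1 hca (hle ⟨hZR hc'.1, hca⟩), one_mul, one_smul]
  by_contra hcon
  push Not at hcon
  have hYl : Y ∈ pre ++ [P] := by rw [hY]; simp
  have hYn : ∀ g ∈ Y.1, NormAll g (R :: M :: rest) := fun g hg => hc.normAll_mem hlR hYl hg
  have hYa : ∀ g ∈ Y.1, Commute g a := fun g hg =>
    mem_centralizer_singleton_iff.mp (hpre Y (by rw [hY]; simp) hg)
  have hYfix : ∀ y ∈ Y.1, conjW y μ = μ := by
    intro y hy
    have hyZ := zc_normalized (hYn y hy)
    have hfy : conjW a (conjW y μ) = conjW y μ := by rw [← conjW_mul, ← (hYa y hy).eq, conjW_mul, hfixed]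
    funext z
    by_cases hz : z ∈ Z
    · obtain ⟨d, hd, c, hc', rfl⟩ := CfsgLib.coprime_decomp hazZ hcopZ (Or.inl (isSolvable_zpowers a)) hz
      have hdZ := CfsgLib.commutator_le_of_le_normalizer hazZ hd
      rw [(hμ.conj hyZ).mul d hdZ c hc'.1, hμ.mul d hdZ c hc'.1, htriv μ hμ hfixed d hd,
        htriv _ (hμ.conj hyZ) hfy d hd]
      congr 1
      have hca : Commute c a := (mem_centralizer_iff.mp hc'.2 a (mem_zpowers a)).symm
      set k := ⁅c⁻¹, y⁻¹⁆
      have hk1 : c * k = y⁻¹ * c * y := by simp [k, commutatorElement_def, mul_assoc]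
      have hkZ : k ∈ Z := by
        rw [show k = c⁻¹ * (y⁻¹ * c * y) by rw [← hk1, inv_mul_cancel_left]]
        exact Z.mul_mem (Z.inv_mem hc'.1) (by simpa using conj_mem_of_mem_normalizer (inv_mem hyZ) hc'.1)
      have hka : k ∈ centralizer ({a} : Set Γ) := by
        refine mem_centralizer_singleton_iff.mpr ?_
        rw [show k = c⁻¹ * (y⁻¹ * c * y) by rw [← hk1, inv_mul_cancel_left]]
        exact (hca.inv_left.mul_left ((((hYa y hy).inv_left).mul_left hca).mul_left (hYa y hy))).eq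
      have hkC : k ∈ Kr (Cl a (R :: M :: rest)) := by
        have h1 := hcon y⁻¹ (inv_mem hy) c⁻¹
          (inv_mem (Subgroup.mem_inf.mpr ⟨hZR hc'.1, mem_centralizer_singleton_iff.mpr hca.eq⟩))
        rw [show k = ⁅y⁻¹, c⁻¹⁆⁻¹ by rw [commutatorElement_inv]]
        exact inv_mem h1
      show μ (y⁻¹ * c * y) = μ c
      rw [← hk1, hμ.mul c hc'.1 k hkZ, hkill k hkZ hka hkC, mul_one]
    · rw [(hμ.conj hyZ).out z hz, hμ.out z hz]
  refine hncen ?_
  have hgenY : ⁅P.1, Y.1⁆ = P.1 := by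
    have h := hc.tower.generated
    rw [hlP, hY, Generated, List.append_assoc] at h
    exact (List.isChain_cons_cons.mp (List.isChain_append.mp h).2.1).1
  set S := sectKer P.1 R.1 N
  suffices hsub : ⁅P.1, Y.1⁆ ≤ S by
    intro x hx u hu
    exact (hsub (hgenY.ge hx)).2.2 u hu
  rw [Subgroup.commutator_le]
  intro x hx y hy
  have hyR := hYn y hy R List.mem_cons_self
  have hyN : y ∈ normalizer (N : Set Γ) := nw_normalized (hYn y hy) (hYfix y hy)
  have hxN : ∀ g ∈ P.1, g ∈ normalizer (N : Set Γ) := fun g hg => nw_normalized (hPn g hg) (hxμ g hg)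
  have hyP : y ∈ normalizer ((P.1 : Subgroup Γ) : Set Γ) := by
    have h := hc.normAll_mem (up := pre) (L := P :: R :: M :: rest) hlP (A := Y) (by rw [hY]; simp) hy
    exact h P List.mem_cons_self
  have hx' : y * x * y⁻¹ ∈ P.1 := conj_mem_of_mem_normalizer hyP hx
  have hk : ⁅x, y⁆ ∈ P.1 := by
    rw [show ⁅x, y⁆ = x * (y * x * y⁻¹)⁻¹ by simp [commutatorElement_def, mul_assoc]]
    exact P.1.mul_mem hx (P.1.inv_mem hx')
  refine ⟨hk, hxN _ hk, fun u hu => ?_⟩
  rcases hclass x hx with h | h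
  · have hxS : x ∈ S := ⟨hx, hxN x hx, h⟩
    have hyS : y ∈ normalizer (S : Set Γ) := mem_normalizer_sectKer hyP hyR hyN
    rw [show ⁅x, y⁆ = x * (y * x⁻¹ * y⁻¹) by simp [commutatorElement_def, mul_assoc]]
    exact (S.mul_mem hxS (conj_mem_of_mem_normalizer hyS (S.inv_mem hxS))).2.2 u hu
  · set x' := y * x * y⁻¹ with hx'def
    have hinv' : ∀ w ∈ R.1, x' * w * x'⁻¹ * w ∈ N := fun w hw => by
      have h1 := conj_mem_of_mem_normalizer hyN
        (h _ (conj_mem_of_mem_normalizer (inv_mem hyR) hw))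
      simpa [x', mul_assoc] using h1
    set w := x'⁻¹ * u * x'
    have hw : w ∈ R.1 := by
      simpa using conj_mem_of_mem_normalizer (inv_mem (hPn x' hx' R List.mem_cons_self)) hu
    have h1 : u * w ∈ N := by simpa [w, mul_assoc] using hinv' w hw
    have h2 := N.mul_mem (h w hw) (N.inv_mem h1)
    simpa [commutatorElement_def, w, x', mul_assoc] using h2

end CfsgLib.Turull
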