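import Cfsg.Agent.Lib.Turull.TwoCase

/-!
The recursion down a tower of least order: each layer gets a family of subspaces of the dual of its section,
permuted by everything normalizing the lower layers, whose members either are killed by the fixed kernel
or have their fixed vectors centralized by the groups moved by the automorphism.
-/

set_option autoImplicit false

namespace CfsgLib.Turull

open Subgroup Finset
open scoped commutatorElement

universe u v

variable {Γ : Type u} [Group Γ]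

/-- The fixed-point layers. -/
def Cl (a : Γ) (L : List (Layer Γ)) : List (Layer Γ) :=
  L.map fun P => (P.1 ⊓ centralizer ({a} : Set Γ), P.2)

theorem cl_cons (a : Γ) (P : Layer Γ) (L : List (Layer Γ)) :
    Cl a (P :: L) = (P.1 ⊓ centralizer ({a} : Set Γ), P.2) :: Cl a L := rfl

/-- The bottom of the top section. -/
def Bl (Q : Layer Γ) (rest : List (Layer Γ)) : Subgroup Γ := Kr (Q :: rest) ⊔ Fr Q.1

/-- The dual of the top section. -/
def Wl (K : Type v) [Field K] (Q : Layer Γ) (rest : List (Layer Γ)) : Submodule K (Γ → K) :=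
  secDual K Q.1 (Bl Q rest)

/-- The centre of a layer modulo its kernel. -/
def Zc (Q : Layer Γ) (rest : List (Layer Γ)) : Subgroup Γ := sectKer Q.1 Q.1 (Kr (Q :: rest))

/-- A family of subspaces of the dual of the top section, with the good ones killed by the fixed kernel. -/
structure IsFrame (a : Γ) (r : ℕ) {K : Type v} [Field K] (Q : Layer Γ) (rest : List (Layer Γ))
    (Ts : Set (Submodule K (Γ → K))) (Good : Submodule K (Γ → K) → Prop) : Prop where
  le : ∀ T ∈ Ts, T ≤ Wl K Q rest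
  span : Wl K Q rest ≤ ⨆ T ∈ Ts, T
  inv : ∀ g, NormAll g (Q :: rest) → ∀ T ∈ Ts, T.map (conjFun g) ∈ Ts
  moved : ∀ T ∈ Ts, a ∉ stabW (conjFun (K := K)) T → Good T
  kill : ∀ T ∈ Ts, Good T → ∀ k ∈ Kr (Cl a (Q :: rest)), ∀ t ∈ T, t k = 0
  bad : ∀ T ∈ Ts, ¬ Good T → ∀ (p : ℕ) (D : Subgroup Γ), p.Prime → p ≠ Q.2 → p ≠ r → IsPGroup p D →
    (∀ g ∈ D, NormAll g (Q :: rest)) → a ∈ normalizer (D : Set Γ) → D ≤ ⁅D, zpowers a⁆ →
      D ≤ stabW (conjFun (K := K)) T → ∀ t ∈ T, conjFun a t = t → ∀ d ∈ D, conjFun d t = t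

/-- A tower of least order under an automorphism of prime order not dividing the order of the group. -/
structure Ctx (a : Γ) (r : ℕ) (X : Subgroup Γ) (l : List (Layer Γ)) : Prop where
  tower : MinTower a X l
  prime : r.Prime
  pow : a ^ r = 1
  cop : ¬ r ∣ Nat.card X

theorem bl_normalized {Q : Layer Γ} {rest : List (Layer Γ)} {g : Γ} (hg : NormAll g (Q :: rest)) :
    g ∈ normalizer (Bl Q rest : Set Γ) :=
  mem_normalizer_sup (kr_normalized _ g hg) (fr_normalized (hg Q List.mem_cons_self))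

theorem zc_normalized {Q : Layer Γ} {rest : List (Layer Γ)} {g : Γ} (hg : NormAll g (Q :: rest)) :
    g ∈ normalizer (Zc Q rest : Set Γ) :=
  mem_normalizer_sectKer (hg Q List.mem_cons_self) (hg Q List.mem_cons_self) (kr_normalized _ g hg)

theorem normAll_inv {g : Γ} {L : List (Layer Γ)} (hg : NormAll g L) : NormAll g⁻¹ L :=
  fun P hP => inv_mem (hg P hP)

theorem normAll_mul {g h : Γ} {L : List (Layer Γ)} (hg : NormAll g L) (hh : NormAll h L) : NormAll (g * h) L :=
  fun P hP => mul_mem (hg P hP) (hh P hP)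

theorem normAll_pow {g : Γ} {L : List (Layer Γ)} (hg : NormAll g L) (i : ℕ) : NormAll (g ^ i) L :=
  fun P hP => (normalizer ((P.1 : Subgroup Γ) : Set Γ)).pow_mem (hg P hP) i

theorem wl_stable {K : Type v} [Field K] {Q : Layer Γ} {rest : List (Layer Γ)} {g : Γ}
    (hg : NormAll g (Q :: rest)) : g ∈ stabW (conjFun (K := K)) (Wl K Q rest) :=
  ⟨fun _ hf => conjFun_mem_self (hg Q List.mem_cons_self) (bl_normalized hg) hf,
    fun _ hf => conjFun_mem_self (inv_mem (hg Q List.mem_cons_self)) (inv_mem (bl_normalized hg)) hf⟩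

theorem conjFun_fixed_zpowers {K : Type v} [Field K] {a : Γ} {f : Γ → K} (hf : conjFun a f = f) :
    ∀ g ∈ zpowers a, conjFun g f = f := by
  have h : zpowers a ≤ fixW (conjFun (K := K)) (Submodule.span K {f}) := by
    rw [zpowers_le]
    intro w hw
    obtain ⟨c, rfl⟩ := Submodule.mem_span_singleton.mp hw
    rw [map_smul, hf]
  exact fun g hg => h hg f (Submodule.mem_span_singleton_self f)

variable [Finite Γ]

/-- A fixed function vanishing at the fixed points vanishes. -/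
theorem fixed_eq_zero {K : Type v} [Field K] {Q B : Subgroup Γ} {a : Γ} (haQ : a ∈ normalizer (Q : Set Γ))
    (hcop : (Nat.card (zpowers a)).Coprime (Nat.card Q)) {f : Γ → K} (hf : f ∈ secDual K Q B)
    (hfa : conjFun a f = f) (h0 : ∀ c ∈ Q ⊓ centralizer ({a} : Set Γ), f c = 0) : f = 0 := by
  let S : Subgroup Γ :=
    { carrier := {y | y ∈ Q ∧ f y = 0}
      one_mem' := ⟨Q.one_mem, secDual_one hf⟩
      mul_mem' := fun {y z} hy hz => ⟨Q.mul_mem hy.1 hz.1, by rw [hf.2.1 y hy.1 z hz.1, hy.2, hz.2, add_zero]⟩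
      inv_mem' := fun {y} hy => ⟨Q.inv_mem hy.1, by rw [secDual_inv hf hy.1, hy.2, neg_zero]⟩ }
  have hz : zpowers a ≤ normalizer (Q : Set Γ) := zpowers_le.mpr haQ
  have hS : ⁅Q, zpowers a⁆ ≤ S := by
    rw [Subgroup.commutator_le]
    intro y hy g hg
    have h1 : ⁅g, y⁆ ∈ Q := comm_mem_of_normalizes (hz hg) hy
    have h2 := conjFun_sub (inv_mem (hz hg)) hy hf
    rw [congrFun (conjFun_fixed_zpowers hfa g⁻¹ (inv_mem hg)) y, inv_inv] at h2
    refine S.inv_mem_iff.mp ?_
    rw [commutatorElement_inv]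
    exact ⟨h1, left_eq_add.mp (h2.trans (add_comm _ _))⟩
  funext y
  by_cases hy : y ∈ Q
  · obtain ⟨d, hd, c, hc, rfl⟩ := CfsgLib.coprime_decomp hz hcop (Or.inl (isSolvable_zpowers a)) hy
    have hd' : d ∈ Q := (hS hd).1
    rw [hf.2.1 d hd' c hc.1, (hS hd).2, h0 c (Subgroup.mem_inf.mpr ⟨hc.1, mem_centralizer_singleton_iff.mpr
      (mem_centralizer_iff.mp hc.2 a (mem_zpowers a)).symm⟩)]
    simp
  · exact hf.1 y hy

theorem orbSum_value {K : Type v} [Field K] (a : Γ) (r : ℕ) (t : Γ → K) {z : Γ}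
    (hz : z ∈ centralizer ({a} : Set Γ)) : orbSum (conjFun (K := K)) a r t z = (r : K) * t z := by
  have h : ∀ i : ℕ, conjFun (a ^ i) t z = t z := fun i => by
    have hc : Commute z (a ^ i) := (show Commute z a from mem_centralizer_singleton_iff.mp hz).pow_right i
    rw [conjFun_apply, mul_assoc, hc.eq, inv_mul_cancel_left]
  rw [orbSum_apply, Finset.sum_apply, Finset.sum_congr rfl fun i _ => h i, Finset.sum_const, card_range,
    nsmul_eq_mul]

namespace Ctx

variable {a : Γ} {r : ℕ} {X : Subgroup Γ} {l : List (Layer Γ)}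

theorem layers_suffix (hc : Ctx a r X l) {up L : List (Layer Γ)} (hl : l = up ++ L) : Layers L := by
  subst hl
  exact hc.tower.layers.of_append.2

theorem normAll_a (hc : Ctx a r X l) {up L : List (Layer Γ)} (hl : l = up ++ L) : NormAll a L := fun P hP =>
  hc.tower.fix P (hl ▸ List.mem_append_right _ hP)

theorem ne_kr (hc : Ctx a r X l) {up rest : List (Layer Γ)} {Q : Layer Γ} (hl : l = up ++ Q :: rest) :
    ¬ Q.1 ≤ Kr (Q :: rest) := by
  subst hl
  exact alive_mem up Q rest hc.tower.layers hc.tower.alive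

theorem mem_list (hc : Ctx a r X l) {up rest : List (Layer Γ)} {Q : Layer Γ} (hl : l = up ++ Q :: rest) :
    Q ∈ l := hl ▸ List.mem_append_right _ List.mem_cons_self

theorem prime_of (hc : Ctx a r X l) {up rest : List (Layer Γ)} {Q : Layer Γ} (hl : l = up ++ Q :: rest) :
    Q.2.Prime := hc.tower.layers.prime Q (hc.mem_list hl)

theorem pgroup_of (hc : Ctx a r X l) {up rest : List (Layer Γ)} {Q : Layer Γ} (hl : l = up ++ Q :: rest) :
    IsPGroup Q.2 Q.1 := hc.tower.layers.pgroup Q (hc.mem_list hl)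

theorem coprime_of_le (hc : Ctx a r X l) {Y : Subgroup Γ} (hY : Y ≤ X) :
    (Nat.card (zpowers a)).Coprime (Nat.card Y) := by
  rw [Nat.card_zpowers]
  exact Nat.Coprime.coprime_dvd_left (orderOf_dvd_of_pow_eq_one hc.pow)
    (hc.prime.coprime_iff_not_dvd.mpr fun h => hc.cop (h.trans (Subgroup.card_dvd_of_le hY)))

theorem coprime_of (hc : Ctx a r X l) {up rest : List (Layer Γ)} {Q : Layer Γ} (hl : l = up ++ Q :: rest) :
    (Nat.card (zpowers a)).Coprime (Nat.card Q.1) := hc.coprime_of_le (hc.tower.le Q (hc.mem_list hl))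

theorem prime_ne (hc : Ctx a r X l) {up rest : List (Layer Γ)} {Q : Layer Γ} (hl : l = up ++ Q :: rest) :
    Q.2 ≠ r := by
  intro h
  haveI := Fact.mk (hc.prime_of hl)
  obtain ⟨k, hk⟩ := IsPGroup.iff_card.mp (hc.pgroup_of hl)
  rcases Nat.eq_zero_or_pos k with rfl | hk0
  · rw [pow_zero, Subgroup.card_eq_one] at hk
    exact hc.ne_kr hl (hk ▸ bot_le)
  · refine hc.cop (dvd_trans ?_ (Subgroup.card_dvd_of_le (hc.tower.le Q (hc.mem_list hl))))
    rw [hk, ← h]
    exact dvd_pow_self _ hk0.ne'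

theorem castK (hc : Ctx a r X l) {up rest : List (Layer Γ)} {Q : Layer Γ} (hl : l = up ++ Q :: rest)
    (K : Type v) [Field K] [CharP K Q.2] : (r : K) ≠ 0 := fun h => by
  rw [CharP.cast_eq_zero_iff K Q.2] at h
  exact hc.prime_ne hl ((Nat.prime_dvd_prime_iff_eq (hc.prime_of hl) hc.prime).mp h)

theorem normAll_mem (hc : Ctx a r X l) {up L : List (Layer Γ)} (hl : l = up ++ L) {A : Layer Γ} (hA : A ∈ up)
    {g : Γ} (hg : g ∈ A.1) : NormAll g L := fun P hP => by
  have h := hc.tower.layers.norm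
  rw [hl] at h
  exact (List.pairwise_append.mp h).2.2 A hA P hP hg

theorem normAll_self (hc : Ctx a r X l) {up rest : List (Layer Γ)} {Q : Layer Γ} (hl : l = up ++ Q :: rest)
    {g : Γ} (hg : g ∈ Q.1) : NormAll g (Q :: rest) := (hc.layers_suffix hl).normAll_head hg

theorem bl_le (hc : Ctx a r X l) {up rest : List (Layer Γ)} {Q : Layer Γ} (_hl : l = up ++ Q :: rest) :
    Bl Q rest ≤ Q.1 := sup_le (kr_le Q rest) (fr_le Q.1)

/-- An element of a layer lies in the kernel exactly when it fixes the dual of the section below. -/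
theorem mem_kr_iff_fixes (hc : Ctx a r X l) {up rest : List (Layer Γ)} {Q R : Layer Γ}
    (hl : l = up ++ Q :: R :: rest) {K : Type v} [Field K] [CharP K R.2] {y : Γ} (hy : y ∈ Q.1) :
    y ∈ Kr (Q :: R :: rest) ↔ ∀ f ∈ Wl K R rest, conjFun y f = f := by
  have hlay : Layers (Q :: R :: rest) := hc.layers_suffix hl
  have hl' : l = (up ++ [Q]) ++ R :: rest := by rw [hl]; simp
  haveI := Fact.mk (hc.prime_of hl')
  have hQn : ∀ g ∈ Q.1, NormAll g (R :: rest) := fun g hg => (hlay.normAll_head hg).tail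
  have hRn : ∀ g ∈ R.1, NormAll g (R :: rest) := fun g hg => hc.normAll_self hl' hg
  have hiff := fixes_iff (K := K) (hc.bl_le hl') (hc.pgroup_of hl') le_sup_right
    (fun g hg => bl_normalized (hRn g hg)) (hQn y hy R List.mem_cons_self)
  refine ⟨fun h => hiff.mpr fun z hz => mem_sup_left ((hlay.mem_kr.mp (inv_mem h)).2 z hz), fun h => ?_⟩
  haveI := Fact.mk (hc.prime_of hl)
  have hcop : (Nat.card (zpowers y⁻¹)).Coprime (Nat.card R.1) :=
    IsPGroup.coprime_card (hc.prime_of hl) (hc.prime_of hl') (List.isChain_cons_cons.mp hlay.adj).1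
      ((hc.pgroup_of hl).to_le (zpowers_le.mpr (inv_mem hy))) (hc.pgroup_of hl')
  have h1 : ∀ z ∈ R.1, ⁅y⁻¹, z⁆ ∈ Kr (R :: rest) :=
    comm_mem_of_frattini hcop (hQn _ (inv_mem hy) R List.mem_cons_self) (kr_le R rest)
      (fun g hg => kr_normalized _ g (hRn g hg)) (kr_normalized _ _ (hQn _ (inv_mem hy))) (hiff.mp h)
  exact (Kr _).inv_mem_iff.mp (hlay.mem_kr.mpr ⟨inv_mem hy, h1⟩)

/-- The shape of a layer: elementary abelian over the kernel, or with centre inside the bottom of the section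
and commuting with it. -/
theorem shape (hc : Ctx a r X l) {up rest : List (Layer Γ)} {Q : Layer Γ} (hl : l = up ++ Q :: rest) :
    Fr Q.1 ≤ Kr (Q :: rest) ∨ (Zc Q rest ≤ Bl Q rest ∧ ⁅Bl Q rest, Q.1⁆ ≤ Kr (Q :: rest)) := by
  haveI := Fact.mk (hc.prime_of hl)
  have haQ := hc.normAll_a hl
  rcases List.eq_nil_or_concat up with rfl | ⟨pre, P, rfl⟩
  · rw [List.nil_append] at hl
    refine Or.inl (hc.tower.head_le hl (fr_le Q.1) (fun h => hc.ne_kr (up := []) hl ?_)
      (fr_normalized (haQ Q List.mem_cons_self)))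
    rw [← fr_nongenerating (S := ⊥) bot_le (le_trans h.ge le_sup_right)]
    exact bot_le
  rw [List.concat_eq_append] at hl
  have hl2 : l = pre ++ P :: Q :: rest := by rw [hl]; simp
  have hlay : Layers (P :: Q :: rest) := hc.layers_suffix hl2
  have hPQ : P.1 ≤ normalizer ((Q.1 : Subgroup Γ) : Set Γ) :=
    (List.pairwise_cons.mp hlay.norm).1 Q List.mem_cons_self
  have hgen : ⁅Q.1, P.1⁆ = Q.1 := by
    have h := hc.tower.generated
    rw [hl2, Generated] at h
    exact (List.isChain_cons_cons.mp (List.isChain_append.mp h).2.1).1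
  have hup : ∀ A ∈ pre ++ [P], ∀ g ∈ A.1, NormAll g (Q :: rest) := fun A hA g hg => hc.normAll_mem hl hA hg
  have hPn : ∀ g ∈ P.1, NormAll g (Q :: rest) := hup P (List.mem_append_right _ List.mem_cons_self)
  have hQn : ∀ g ∈ Q.1, NormAll g (Q :: rest) := fun g hg => hc.normAll_self hl hg
  set K := Kr (Q :: rest)
  set B := Bl Q rest with hB
  have hBQ : B ≤ Q.1 := hc.bl_le hl
  have hQK : Q.1 ≤ normalizer (K : Set Γ) := fun g hg => kr_normalized _ g (hQn g hg)
  have hPK : P.1 ≤ normalizer (K : Set Γ) := fun g hg => kr_normalized _ g (hPn g hg)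
  have hsol : Group.IsSolvable P.1 := by
    haveI := Fact.mk (hc.prime_of hl2)
    haveI := (hc.pgroup_of hl2).isNilpotent
    infer_instance
  have hcop : (Nat.card P.1).Coprime (Nat.card Q.1) :=
    IsPGroup.coprime_card (hc.prime_of hl2) (hc.prime_of hl) (List.isChain_cons_cons.mp hlay.adj).1
      (hc.pgroup_of hl2) (hc.pgroup_of hl)
  have hBne : B ≠ Q.1 := fun h => hc.ne_kr hl (fr_nongenerating (kr_le Q rest) h.ge).ge
  have hBP : ⁅B, P.1⁆ ≤ K := hc.tower.comm_le hl2 hBQ hBne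
    (fun A hA g hg => bl_normalized (hup A hA g hg)) (bl_normalized haQ)
  have hBQ' : ⁅B, Q.1⁆ ≤ K := by
    have hQB : Q.1 ≤ normalizer (B : Set Γ) := fun g hg => bl_normalized (hQn g hg)
    have h := CfsgLib.Stabilizer.commutator_commutator_le_of_rotate (A := Q.1) (B := P.1) (C := B) (N := K)
      hQK hPK (hBQ.trans hQK) ?_ ?_
    · rwa [hgen, Subgroup.commutator_comm] at h
    · refine (Subgroup.commutator_mono ?_ le_rfl).trans (CfsgLib.commutator_le_of_le_normalizer hQK)
      rwa [Subgroup.commutator_comm]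
    · exact (Subgroup.commutator_mono (CfsgLib.commutator_le_of_le_normalizer hQB) le_rfl).trans hBP
  by_cases hab : ⁅Q.1, Q.1⁆ ≤ K
  · refine Or.inl fun x hx => ?_
    exact mem_of_fixed_mod hPQ hcop hsol (kr_le Q rest) hQK hPK
      (fun u hu w hw => hab (Subgroup.commutator_mem_commutator hu hw)) (by rw [hgen]; exact le_sup_left)
      (fr_le Q.1 hx) fun g hg => hBP (Subgroup.commutator_mem_commutator (mem_sup_right hx) hg)
  · refine Or.inr ⟨fun x hx => ?_, hBQ'⟩
    have hZne : Zc Q rest ≠ Q.1 := fun h => hab (Subgroup.commutator_le.mpr fun u hu w hw =>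
      ((show u ∈ Zc Q rest from h ▸ hu) : u ∈ sectKer Q.1 Q.1 K).2.2 w hw)
    have hZP : ⁅Zc Q rest, P.1⁆ ≤ K := hc.tower.comm_le hl2 (fun y hy => hy.1) hZne
      (fun A hA g hg => zc_normalized (hup A hA g hg)) (zc_normalized haQ)
    exact mem_of_fixed_mod hPQ hcop hsol hBQ (fun g hg => bl_normalized (hQn g hg))
      (fun g hg => bl_normalized (hPn g hg)) (fun u hu w hw => mem_sup_right (comm_mem_fr (hc.pgroup_of hl) hu hw))
      (by rw [hgen]; exact le_sup_left) hx.1
      fun g hg => mem_sup_left (hZP (Subgroup.commutator_mem_commutator hx hg))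

end Ctx

variable {a : Γ} {r : ℕ} {X : Subgroup Γ} {l : List (Layer Γ)}

namespace IsFrame

variable {K : Type v} [Field K] {Q : Layer Γ} {rest : List (Layer Γ)} {Ts : Set (Submodule K (Γ → K))}
  {Good : Submodule K (Γ → K) → Prop}

/-- The orbit sum of a member killed by the fixed kernel is fixed by what centralizes the fixed layer modulo
that kernel. -/
theorem fix_orbSum (hF : IsFrame a r Q rest Ts Good) (hpow : a ^ r = 1) (haQ : NormAll a (Q :: rest))
    (hcop : (Nat.card (zpowers a)).Coprime (Nat.card Q.1)) {g : Γ} (hg : NormAll g (Q :: rest))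
    (hga : Commute g a) (hgc : ∀ c ∈ Q.1 ⊓ centralizer ({a} : Set Γ), ⁅g⁻¹, c⁆ ∈ Kr (Cl a (Q :: rest)))
    {T : Submodule K (Γ → K)} (hT : T ∈ Ts) (hgood : Good T) {t : Γ → K} (ht : t ∈ T) :
    conjFun g (orbSum conjFun a r t) = orbSum conjFun a r t := by
  set F := orbSum (conjFun (K := K)) a r t
  have hFW : F ∈ Wl K Q rest := orbSum_mem _ r (wl_stable haQ) (hF.le T hT ht)
  have hFa : conjFun a F = F := rho_orbSum _ hpow t
  have h0 : conjFun g F - F = 0 := by
    refine fixed_eq_zero (haQ Q List.mem_cons_self) hcop (Submodule.sub_mem _ ((wl_stable hg).1 _ hFW) hFW) ?_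
      fun c hc => ?_
    · rw [map_sub, hFa, ← rho_mul, ← hga.eq, rho_mul, hFa]
    · have hk := hgc c hc
      have hkc : ⁅g⁻¹, c⁆ ∈ centralizer ({a} : Set Γ) := by
        have hc2 : Commute c a := mem_centralizer_singleton_iff.mp hc.2
        refine mem_centralizer_singleton_iff.mpr ?_
        exact (((hga.inv_left.mul_left hc2).mul_left hga.inv_left.inv_left).mul_left hc2.inv_left).eq
      rw [Pi.sub_apply, conjFun_sub (hg Q List.mem_cons_self) hc.1 hFW,
        show F ⁅g⁻¹, c⁆ = (r : K) * t ⁅g⁻¹, c⁆ from orbSum_value a r t hkc,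
        hF.kill T hT hgood _ hk t ht, mul_zero, zero_add, sub_self]
  exact sub_eq_zero.mp h0

/-- The orbit sum of a member killed by the fixed kernel vanishes if that kernel is the whole fixed layer. -/
theorem orbSum_eq_zero (hF : IsFrame a r Q rest Ts Good) (hpow : a ^ r = 1) (haQ : NormAll a (Q :: rest))
    (hcop : (Nat.card (zpowers a)).Coprime (Nat.card Q.1))
    (hC : Q.1 ⊓ centralizer ({a} : Set Γ) ≤ Kr (Cl a (Q :: rest))) {T : Submodule K (Γ → K)} (hT : T ∈ Ts)
    (hgood : Good T) {t : Γ → K} (ht : t ∈ T) : orbSum conjFun a r t = 0 := by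
  refine fixed_eq_zero (haQ Q List.mem_cons_self) hcop (orbSum_mem _ r (wl_stable haQ) (hF.le T hT ht))
    (rho_orbSum _ hpow t) fun c hc => ?_
  rw [orbSum_value a r t hc.2, hF.kill T hT hgood c (hC hc) t ht, mul_zero]

/-- The translates by the powers of `a` of an element outside the class leave it. -/
theorem translate_out (hr : r.Prime) (hpow : a ^ r = 1) {p : ℕ} (hp : p.Prime) (hpr : p ≠ r) {E : Subgroup Γ}
    (hEp : IsPGroup p E) (haE : a ∈ normalizer (E : Set Γ)) (hgen : E ≤ ⁅E, zpowers a⁆)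
    {T : Submodule K (Γ → K)} (haT : a ∈ stabW (conjFun (K := K)) T) :
    ∀ g ∈ E, g ∉ (E ⊓ stabW (conjFun (K := K)) T) ⊔ Fr E → ∀ i, 0 < i → i < r →
      g⁻¹ * (a ^ i * g * (a ^ i)⁻¹) ∉ (E ⊓ stabW (conjFun (K := K)) T) ⊔ Fr E := by
  classical
  haveI := Fact.mk hp
  set L := (E ⊓ stabW (conjFun (K := K)) T) ⊔ Fr E
  have hLE : L ≤ E := sup_le inf_le_left (fr_le E)
  have hEL : E ≤ normalizer (L : Set Γ) :=
    le_normalizer_of_comm_mem hLE fun x hx y hy => mem_sup_right (comm_mem_fr hEp hx hy)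
  have haL : a ∈ normalizer (L : Set Γ) :=
    mem_normalizer_sup (mem_normalizer_inf haE (le_normalizer haT)) (fr_normalized haE)
  have hcopE : (Nat.card (zpowers a)).Coprime (Nat.card E) := by
    rw [Nat.card_zpowers]
    refine Nat.Coprime.coprime_dvd_left (orderOf_dvd_of_pow_eq_one hpow) (hr.coprime_iff_not_dvd.mpr fun h => ?_)
    obtain ⟨k, hk⟩ := IsPGroup.iff_card.mp hEp
    rw [hk] at h
    exact hpr ((Nat.prime_dvd_prime_iff_eq hr hp).mp (hr.dvd_of_dvd_pow h)).symm
  intro g hg hgL i hi hir hmem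
  refine hgL (mem_of_fixed_mod (zpowers_le.mpr haE) hcopE (isSolvable_zpowers a) hLE hEL (zpowers_le.mpr haL)
    (fun u hu v hv => mem_sup_right (comm_mem_fr hEp hu hv)) (hgen.trans le_sup_left) hg fun z hz => ?_)
  have hai : a ^ i ∈ normalizer (L : Set Γ) := (normalizer (L : Set Γ)).pow_mem haL i
  have h1 : ⁅a ^ i, g⁆ ∈ L := by
    have h2 := conj_mem_of_mem_normalizer (hEL hg) hmem
    simpa [commutatorElement_def, mul_assoc] using h2
  obtain ⟨j, -, hj⟩ := Nat.exists_mul_mod_eq_one_of_coprime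
    (Nat.Coprime.symm (hr.coprime_iff_not_dvd.mpr fun hd => absurd (Nat.le_of_dvd hi hd) (by omega))) hr.one_lt
  let S : Subgroup Γ :=
    { carrier := {x | x ∈ normalizer (L : Set Γ) ∧ x ∈ normalizer (E : Set Γ) ∧ ⁅x, g⁆ ∈ L}
      one_mem' := ⟨one_mem _, one_mem _, by rw [commutatorElement_one_left]; exact one_mem _⟩
      mul_mem' := fun {x y} hx hy => ⟨mul_mem hx.1 hy.1, mul_mem hx.2.1 hy.2.1, by
        rw [show ⁅x * y, g⁆ = x * ⁅y, g⁆ * x⁻¹ * ⁅x, g⁆ by simp [commutatorElement_def, mul_assoc]]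
        exact L.mul_mem (conj_mem_of_mem_normalizer hx.1 hy.2.2) hx.2.2⟩
      inv_mem' := fun {x} hx => ⟨inv_mem hx.1, inv_mem hx.2.1, by
        rw [show ⁅x⁻¹, g⁆ = x⁻¹ * ⁅x, g⁆⁻¹ * x⁻¹⁻¹ by simp [commutatorElement_def, mul_assoc]]
        exact conj_mem_of_mem_normalizer (inv_mem hx.1) (L.inv_mem hx.2.2)⟩ }
  have haiS : a ^ i ∈ S := ⟨hai, (normalizer (E : Set Γ)).pow_mem haE i, h1⟩
  have haS : a ∈ S := by
    have h3 := S.pow_mem haiS j
    rwa [← pow_mul, pow_eq_pow_mod (i * j) hpow, hj, pow_one] at h3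
  rw [← commutatorElement_inv]
  exact L.inv_mem ((zpowers_le.mpr haS : zpowers a ≤ S) hz).2.2

/-- The translates outside the class are good. -/
theorem translate_good (hF : IsFrame a r Q rest Ts Good) (hr : r.Prime) (hpow : a ^ r = 1) {p : ℕ} (hp : p.Prime)
    (hpr : p ≠ r) {E : Subgroup Γ} (hEp : IsPGroup p E) (hEn : ∀ g ∈ E, NormAll g (Q :: rest))
    (haE : a ∈ normalizer (E : Set Γ)) (hgen : E ≤ ⁅E, zpowers a⁆)
    {T : Submodule K (Γ → K)} (hT : T ∈ Ts) (haT : a ∈ stabW (conjFun (K := K)) T) :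
    ∀ g ∈ E, g ∉ (E ⊓ stabW (conjFun (K := K)) T) ⊔ Fr E → Good (T.map (conjFun g)) := by
  intro g hg hgL
  set σ := conjFun (Γ := Γ) (K := K)
  have hout := translate_out hr hpow hp hpr hEp haE hgen haT
  refine hF.moved _ (hF.inv g (hEn g hg) T hT) fun h => hout g hg hgL 1 one_pos hr.one_lt ?_
  rw [pow_one]
  refine mem_sup_left ⟨E.mul_mem (E.inv_mem hg) (conj_mem_of_mem_normalizer haE hg), ?_⟩
  have h1 : g⁻¹ * a * g ∈ stabW σ T := by
    refine ⟨fun x hx => ?_, fun x hx => ?_⟩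
    · obtain ⟨y, hy, he⟩ := h.1 _ ⟨x, hx, rfl⟩
      rw [rho_mul, rho_mul, ← he, rho_inv_cancel]
      exact hy
    · obtain ⟨y, hy, he⟩ := h.2 _ ⟨x, hx, rfl⟩
      rw [show (g⁻¹ * a * g)⁻¹ = g⁻¹ * a⁻¹ * g by group, rho_mul, rho_mul, ← he, rho_inv_cancel]
      exact hy
  have h2 := (stabW σ T).mul_mem h1 ((stabW σ T).inv_mem haT)
  simpa [mul_assoc] using h2

/-- An operator killing the orbit sums of the good members takes orbit sums into the fixed points of a group
moved by `a`. -/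
theorem master (hF : IsFrame a r Q rest Ts Good) (hr : r.Prime) (hpow : a ^ r = 1) (hrK : (r : K) ≠ 0)
    (haQ : NormAll a (Q :: rest)) {p : ℕ} (hp : p.Prime) (hpQ : p ≠ Q.2) (hpr : p ≠ r) {E : Subgroup Γ}
    (hEp : IsPGroup p E) (hEn : ∀ g ∈ E, NormAll g (Q :: rest)) (haE : a ∈ normalizer (E : Set Γ))
    (hgen : E ≤ ⁅E, zpowers a⁆) (f : Module.End K (Γ → K))
    (hfa : ∀ w ∈ Wl K Q rest, f (conjFun a w) = conjFun a (f w))
    (hfe : ∀ e ∈ E, ∀ w ∈ Wl K Q rest, f (conjFun e w) = conjFun e (f w))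
    (hgood : ∀ T ∈ Ts, Good T → ∀ t ∈ T, f (orbSum conjFun a r t) = 0) :
    ∀ w ∈ Wl K Q rest, ∀ e ∈ E,
      conjFun e (f (orbSum conjFun a r w)) = f (orbSum conjFun a r w) := by
  classical
  haveI := Fact.mk hp
  intro w hw e he
  set σ := conjFun (Γ := Γ) (K := K)
  have haW : a ∈ stabW σ (Wl K Q rest) := wl_stable haQ
  suffices h : ∀ T ∈ Ts, ∀ t ∈ T, σ e (f (orbSum σ a r t)) = f (orbSum σ a r t) by
    have hsum := hF.span hw
    refine Submodule.iSup_induction _ (motive := fun z => σ e (f (orbSum σ a r z)) = f (orbSum σ a r z)) hsum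
      (fun T z hz => ?_) (by simp) (fun x y hx hy => by simp only [map_add]; rw [hx, hy])
    by_cases hT : T ∈ Ts
    · rw [iSup_pos hT] at hz
      exact h T hT z hz
    · rw [iSup_neg hT, Submodule.mem_bot] at hz
      simp [hz]
  intro T hT t ht
  by_cases hTg : Good T
  · rw [hgood T hT hTg t ht, map_zero]
  have haT : a ∈ stabW σ T := by
    by_contra h
    exact hTg (hF.moved T hT h)
  set c := orbSum σ a r t
  have hcT : c ∈ T := orbSum_mem σ r haT ht
  have hca : σ a c = c := rho_orbSum σ hpow t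
  have hcW : c ∈ Wl K Q rest := hF.le T hT hcT
  by_cases hET : E ≤ stabW σ T
  · rw [← hfe e he c hcW, hF.bad T hT hTg p E hp hpQ hpr hEp hEn haE hgen hET c hcT hca e he]
  set L := (E ⊓ stabW σ T) ⊔ Fr E
  have hLE : L ≤ E := sup_le inf_le_left (fr_le E)
  have hLne : L ≠ E := fun h => hET ((fr_nongenerating inf_le_left h.ge).ge.trans inf_le_right)
  obtain ⟨e₀, he₀, he₀L⟩ := SetLike.exists_of_lt (lt_of_le_of_ne hLE hLne)
  have hout := translate_out hr hpow hp hpr hEp haE hgen haT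
  have hgoodmap := translate_good hF hr hpow hp hpr hEp hEn haE hgen hT haT
  have hfcomm : ∀ z ∈ Wl K Q rest, orbSum σ a r (f z) = f (orbSum σ a r z) := by
    intro z hz
    have hpw : ∀ i : ℕ, f (σ (a ^ i) z) = σ (a ^ i) (f z) := by
      intro i
      induction i with
      | zero => simp
      | succ i ih =>
        rw [pow_succ', rho_mul, hfa _ (((stabW σ (Wl K Q rest)).pow_mem haW i).1 z hz), ih, ← rho_mul]
    rw [orbSum_apply, orbSum_apply, map_sum]
    exact Finset.sum_congr rfl fun i _ => (hpw i).symm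
  let g : ℕ → Γ := fun i => e₀⁻¹ * (a ^ i * e₀ * (a ^ i)⁻¹)
  have hgE : ∀ i, g i ∈ E := fun i =>
    E.mul_mem (E.inv_mem he₀) (conj_mem_of_mem_normalizer ((normalizer (E : Set Γ)).pow_mem haE i) he₀)
  have hzero : f (∑ i ∈ range r, σ (g i) c) = 0 := by
    have h1 := hgood _ (hF.inv e₀ (hEn e₀ he₀) T hT) (hgoodmap e₀ he₀ he₀L) _ ⟨c, hcT, rfl⟩
    have h2 : orbSum σ a r (σ e₀ c) = σ e₀ (∑ i ∈ range r, σ (g i) c) := by
      rw [orbSum_apply, map_sum]
      refine Finset.sum_congr rfl fun i _ => ?_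
      have hfixi : σ (a ^ i)⁻¹ c = c := conjFun_fixed_zpowers hca _ (inv_mem (pow_mem (mem_zpowers a) i))
      conv_lhs => rw [← hfixi]
      rw [← rho_mul, ← rho_mul, ← rho_mul]
      congr 2
      simp [g, mul_assoc]
    have hsW : (∑ i ∈ range r, σ (g i) c) ∈ Wl K Q rest :=
      Submodule.sum_mem _ fun i _ => (wl_stable (hEn _ (hgE i))).1 c hcW
    rw [h2, hfe e₀ he₀ _ hsW] at h1
    rw [← rho_inv_cancel σ e₀ (f (∑ i ∈ range r, σ (g i) c)), h1, map_zero]
  have hterms : ∀ i ∈ range r, i ≠ 0 → f (orbSum σ a r (σ (g i) c)) = 0 := fun i hi hi0 =>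
    hgood _ (hF.inv (g i) (hEn _ (hgE i)) T hT)
      (hgoodmap (g i) (hgE i) (hout e₀ he₀ he₀L i (Nat.pos_of_ne_zero hi0) (Finset.mem_range.mp hi))) _
      ⟨c, hcT, rfl⟩
  have h3 : f (orbSum σ a r c) = 0 := by
    have h4 := congrArg (orbSum σ a r) hzero
    rw [hfcomm _ (Submodule.sum_mem _ fun i _ => (wl_stable (hEn _ (hgE i))).1 c hcW), map_zero, map_sum,
      map_sum, Finset.sum_eq_single 0 hterms (fun h => absurd (Finset.mem_range.mpr hr.pos) h)] at h4
    simpa [g] using h4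
  rw [orbSum_fixed σ r hca, map_smul] at h3
  rw [(smul_eq_zero.mp h3).resolve_left hrK, map_zero]

end IsFrame

/-! ### The weights of a layer on the section below -/

section Weights

variable (K : Type v) [Field K] (Q R : Layer Γ) (rest : List (Layer Γ))

/-- The weight spaces of the centre of a layer on the dual of the section below. -/
def Uw (μ : Γ → K) : Submodule K (Γ → K) := Wl K R rest ⊓ wtS conjFun (Zc Q (R :: rest)) μ

open Classical in
/-- The elements trivial on a weight space, or in its radical. -/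
noncomputable def Nw (μ : Γ → K) : Subgroup Γ :=
  if Fr Q.1 ≤ Kr (Q :: R :: rest) then Q.1 ⊓ fixW conjFun (Uw K Q R rest μ)
  else sectKer Q.1 Q.1 (fixW conjFun (Uw K Q R rest μ))

variable {K Q R rest}

theorem nw_le (μ : Γ → K) : Nw K Q R rest μ ≤ Q.1 := by
  unfold Nw
  split_ifs
  · exact inf_le_left
  · exact fun x hx => hx.1

theorem uw_map {μ : Γ → K} {g : Γ} (hg : NormAll g (Q :: R :: rest)) {f : Γ → K} (hf : f ∈ Uw K Q R rest μ) :
    conjFun g f ∈ Uw K Q R rest (conjW g μ) :=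
  ⟨(wl_stable hg.tail).1 f hf.1, rho_mem_wtS (zc_normalized hg) hf.2⟩

theorem conj_fixW_uw {μ : Γ → K} {g : Γ} (hg : NormAll g (Q :: R :: rest)) {x : Γ}
    (hx : x ∈ fixW conjFun (Uw K Q R rest μ)) : g * x * g⁻¹ ∈ fixW conjFun (Uw K Q R rest (conjW g μ)) := by
  intro f hf
  have h1 := uw_map (normAll_inv hg) hf
  rw [← conjW_mul, inv_mul_cancel, conjW_one] at h1
  rw [rho_mul, rho_mul, hx _ h1, rho_cancel_inv]

theorem uw_stable {μ : Γ → K} {g : Γ} (hg : NormAll g (Q :: R :: rest)) (hfix : conjW g μ = μ) :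
    g ∈ stabW conjFun (Uw K Q R rest μ) := by
  refine ⟨fun f hf => ?_, fun f hf => ?_⟩
  · have := uw_map hg hf
    rwa [hfix] at this
  · have := uw_map (normAll_inv hg) hf
    rwa [conjW_inv hfix] at this

theorem uw_ne_bot {μ : Γ → K} {g : Γ} (hg : NormAll g (Q :: R :: rest)) (hne : Uw K Q R rest μ ≠ ⊥) :
    Uw K Q R rest (conjW g μ) ≠ ⊥ := fun h => by
  obtain ⟨f, hf, hf0⟩ := Submodule.exists_mem_ne_zero_of_ne_bot hne
  have := uw_map hg hf
  rw [h, Submodule.mem_bot] at this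
  exact hf0 (by rw [← rho_inv_cancel conjFun g f, this, map_zero])

variable {X : Subgroup Γ} {l up : List (Layer Γ)}

theorem zc_le : Zc Q (R :: rest) ≤ Q.1 := fun _ hx => hx.1

/-- The layer fixes the weights that occur and preserves their spaces. -/
theorem weight_fixed (hc : Ctx a r X l) (hl : l = up ++ Q :: R :: rest) [CharP K R.2] {μ : Γ → K}
    (hμ : IsChar (Zc Q (R :: rest)) μ) (hne : Uw K Q R rest μ ≠ ⊥) {g : Γ} (hg : g ∈ Q.1) :
    conjW g μ = μ ∧ g ∈ stabW conjFun (Uw K Q R rest μ) := by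
  have hgn := hc.normAll_self hl hg
  have hl' : l = (up ++ [Q]) ++ R :: rest := by rw [hl]; simp
  obtain ⟨f, hf, hf0⟩ := Submodule.exists_mem_ne_zero_of_ne_bot hne
  have h1 : conjW g μ = μ := by
    refine conjW_eq_of_central hμ (W := Wl K R rest) (wl_stable hgn.tail) (zc_normalized hgn) (fun z hz => ?_)
      hf.1 hf0 hf.2
    have hk : ⁅z, g⁻¹⁆ ∈ Kr (Q :: R :: rest) := hz.2.2 _ (inv_mem hg)
    exact (hc.mem_kr_iff_fixes hl (kr_le _ _ hk)).mp hk
  exact ⟨h1, uw_stable hgn h1⟩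

theorem mem_nw_of_fixes (hc : Ctx a r X l) (hl : l = up ++ Q :: R :: rest) [CharP K R.2] {μ : Γ → K}
    (hμ : IsChar (Zc Q (R :: rest)) μ) (hne : Uw K Q R rest μ ≠ ⊥) {x : Γ} (hx : x ∈ Q.1)
    (h : x ∈ fixW conjFun (Uw K Q R rest μ)) : x ∈ Nw K Q R rest μ := by
  unfold Nw
  split_ifs
  · exact ⟨hx, h⟩
  · refine ⟨hx, stabW_le_normalizer_fixW _ _ (weight_fixed hc hl hμ hne hx).2, fun y hy => ?_⟩
    rw [show ⁅x, y⁆ = x * (y * x⁻¹ * y⁻¹) by simp [commutatorElement_def, mul_assoc]]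
    exact mul_mem h (conj_mem_of_mem_normalizer
      (stabW_le_normalizer_fixW _ _ (weight_fixed hc hl hμ hne hy).2) (inv_mem h))

theorem bl_le_nw (hc : Ctx a r X l) (hl : l = up ++ Q :: R :: rest) [CharP K R.2] {μ : Γ → K}
    (hμ : IsChar (Zc Q (R :: rest)) μ) (hne : Uw K Q R rest μ ≠ ⊥) : Bl Q (R :: rest) ≤ Nw K Q R rest μ := by
  have hK : Kr (Q :: R :: rest) ≤ Nw K Q R rest μ := fun x hx =>
    mem_nw_of_fixes hc hl hμ hne (kr_le _ _ hx) fun f hf => (hc.mem_kr_iff_fixes hl (kr_le _ _ hx)).mp hx f hf.1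
  by_cases hfr : Fr Q.1 ≤ Kr (Q :: R :: rest)
  · exact sup_le hK (hfr.trans hK)
  intro x hx
  unfold Nw
  rw [if_neg hfr]
  rcases hc.shape hl with h | h
  · exact absurd h hfr
  refine ⟨hc.bl_le hl hx, stabW_le_normalizer_fixW _ _ (weight_fixed hc hl hμ hne (hc.bl_le hl hx)).2,
    fun y hy f hf => ?_⟩
  have hk := h.2 (Subgroup.commutator_mem_commutator hx hy)
  exact (hc.mem_kr_iff_fixes hl (kr_le _ _ hk)).mp hk f hf.1

theorem nw_conj {μ : Γ → K} {g : Γ} (hg : NormAll g (Q :: R :: rest)) {x : Γ}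
    (hx : x ∈ Nw K Q R rest μ) : g * x * g⁻¹ ∈ Nw K Q R rest (conjW g μ) := by
  have hgQ := hg Q List.mem_cons_self
  unfold Nw at hx ⊢
  split_ifs at hx ⊢
  · exact ⟨conj_mem_of_mem_normalizer hgQ hx.1, conj_fixW_uw hg hx.2⟩
  · have key : ∀ g : Γ, NormAll g (Q :: R :: rest) → ∀ ν : Γ → K, ∀ z ∈ fixW conjFun (Uw K Q R rest ν),
        g * z * g⁻¹ ∈ fixW conjFun (Uw K Q R rest (conjW g ν)) := fun g hg ν z hz => conj_fixW_uw hg hz
    refine ⟨conj_mem_of_mem_normalizer hgQ hx.1, mem_normalizer_of_conj (fun z hz => ?_) (fun z hz => ?_),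
      fun y hy => ?_⟩
    · have h1 := key g⁻¹ (normAll_inv hg) _ z hz
      rw [← conjW_mul, inv_mul_cancel, conjW_one] at h1
      have h2 := key g hg μ _ (conj_mem_of_mem_normalizer hx.2.1 h1)
      simpa [mul_assoc] using h2
    · have h1 := key g⁻¹ (normAll_inv hg) _ z hz
      rw [← conjW_mul, inv_mul_cancel, conjW_one] at h1
      have h2 := key g hg μ _ (conj_mem_of_mem_normalizer (inv_mem hx.2.1) h1)
      simpa [mul_assoc] using h2
    · have hy' : g⁻¹ * y * g⁻¹⁻¹ ∈ Q.1 := conj_mem_of_mem_normalizer (inv_mem hgQ) hy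
      rw [show ⁅g * x * g⁻¹, y⁆ = g * ⁅x, g⁻¹ * y * g⁻¹⁻¹⁆ * g⁻¹ by simp [commutatorElement_def, mul_assoc]]
      exact key g hg μ _ (hx.2.2 _ hy')

theorem nw_normalized {μ : Γ → K} {g : Γ} (hg : NormAll g (Q :: R :: rest)) (hfix : conjW g μ = μ) :
    g ∈ normalizer (Nw K Q R rest μ : Set Γ) := by
  refine mem_normalizer_of_conj (fun x hx => ?_) fun x hx => ?_
  · have := nw_conj hg hx
    rwa [hfix] at this
  · have := nw_conj (normAll_inv hg) hx
    rwa [conjW_inv hfix] at this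

/-- The intersection over all weights is the bottom of the section. -/
theorem inter_nw (hc : Ctx a r X l) (hl : l = up ++ Q :: R :: rest) [IsAlgClosed K] [CharP K R.2] {x : Γ}
    (hx : x ∈ Q.1)
    (h : ∀ μ : Γ → K, IsChar (Zc Q (R :: rest)) μ → Uw K Q R rest μ ≠ ⊥ → x ∈ Nw K Q R rest μ) :
    x ∈ Bl Q (R :: rest) := by
  haveI := Fact.mk (hc.prime_of hl)
  have hl' : l = (up ++ [Q]) ++ R :: rest := by rw [hl]; simp
  have hlay : Layers (Q :: R :: rest) := hc.layers_suffix hl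
  have hcard : (Nat.card (Zc Q (R :: rest)) : K) ≠ 0 := fun h0 => by
    obtain ⟨k, hk⟩ := IsPGroup.iff_card.mp ((hc.pgroup_of hl).to_le (zc_le (Q := Q) (R := R) (rest := rest)))
    rw [hk, Nat.cast_pow] at h0
    have h1 := (pow_eq_zero_iff'.mp h0).1
    rw [CharP.cast_eq_zero_iff K R.2] at h1
    exact (List.isChain_cons_cons.mp hlay.adj).1
      ((Nat.prime_dvd_prime_iff_eq (hc.prime_of hl') (hc.prime_of hl)).mp h1).symm
  have hZW : Zc Q (R :: rest) ≤ stabW (conjFun (K := K)) (Wl K R rest) := fun g hg =>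
    wl_stable (hc.normAll_self hl (zc_le hg)).tail
  have hab : ∀ u ∈ Zc Q (R :: rest), ∀ w ∈ Zc Q (R :: rest), ⁅u, w⁆ ∈ fixW conjFun (Wl K R rest) :=
    fun u hu w hw => (hc.mem_kr_iff_fixes hl (kr_le _ _ (hu.2.2 w (zc_le hw)))).mp (hu.2.2 w (zc_le hw))
  have hspan : ∀ g, (∀ μ : Γ → K, IsChar (Zc Q (R :: rest)) μ → Uw K Q R rest μ ≠ ⊥ →
      g ∈ fixW conjFun (Uw K Q R rest μ)) → ∀ f ∈ Wl K R rest, conjFun g f = f := by
    intro g hg f hf
    refine Submodule.iSup_induction _ (motive := fun z => conjFun g z = z) (le_iSup_wtS conjFun hZW hcard hab hf)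
      ?_ (by simp) (fun u w hu hw => by rw [map_add, hu, hw])
    rintro ⟨μ, hμ⟩ z hz
    by_cases hz0 : z = 0
    · rw [hz0, map_zero]
    refine hg μ hμ (fun hb => hz0 ?_) z hz
    have : z ∈ Uw K Q R rest μ := hz
    rwa [hb, Submodule.mem_bot] at this
  by_cases hfr : Fr Q.1 ≤ Kr (Q :: R :: rest)
  · refine mem_sup_left ((hc.mem_kr_iff_fixes hl hx).mpr (hspan x fun μ hμ hne => ?_))
    have := h μ hμ hne
    unfold Nw at this
    rw [if_pos hfr] at this
    exact this.2
  rcases hc.shape hl with hs | hs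
  · exact absurd hs hfr
  refine hs.1 ⟨hx, kr_normalized _ x (hc.normAll_self hl hx), fun y hy => ?_⟩
  refine (hc.mem_kr_iff_fixes hl (comm_mem_of_normalizes (le_normalizer hx) hy)).mpr
    (hspan _ fun μ hμ hne => ?_)
  have := h μ hμ hne
  unfold Nw at this
  rw [if_neg hfr] at this
  exact this.2.2 y hy

end Weights

/-- The frame at the bottom. -/
theorem frame_bottom (hc : Ctx a r X l) {up : List (Layer Γ)} {Q : Layer Γ} (hl : l = up ++ [Q])
    (K : Type v) [Field K] : ∃ Ts Good, IsFrame a r (K := K) Q [] Ts Good := by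
  refine ⟨{Wl K Q []}, fun _ => True, ⟨fun T hT => (Set.mem_singleton_iff.mp hT).le,
    le_iSup₂_of_le (Wl K Q []) rfl le_rfl, fun g hg T hT => ?_, fun _ _ _ => trivial, fun T hT _ k hk t ht => ?_,
    fun T _ h => absurd trivial h⟩⟩
  · rw [Set.mem_singleton_iff] at hT ⊢
    subst hT
    refine le_antisymm ?_ fun f hf => ⟨conjFun g⁻¹ f, (wl_stable hg).2 f hf, rho_cancel_inv _ g f⟩
    rintro _ ⟨f, hf, rfl⟩
    exact (wl_stable hg).1 f hf
  · rw [show Kr (Cl a [Q]) = ⊥ from rfl, Subgroup.mem_bot] at hk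
    subst hk
    rw [Set.mem_singleton_iff] at hT
    subst hT
    exact secDual_one ht

/-- The frame one layer up. -/
theorem frame_step (hc : Ctx a r X l) {up rest : List (Layer Γ)} {Q R : Layer Γ}
    (hl : l = up ++ Q :: R :: rest) (KR : Type) [Field KR] [IsAlgClosed KR] [CharP KR R.2]
    (K : Type v) [Field K] [CharP K Q.2] {TsR : Set (Submodule KR (Γ → KR))}
    {GoodR : Submodule KR (Γ → KR) → Prop} (hF : IsFrame a r R rest TsR GoodR) :
    ∃ Ts Good, IsFrame a r (K := K) Q (R :: rest) Ts Good := by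
  classical
  have hl' : l = (up ++ [Q]) ++ R :: rest := by rw [hl]; simp
  haveI := Fact.mk (hc.prime_of hl)
  haveI := Fact.mk (hc.prime_of hl')
  have hlay : Layers (Q :: R :: rest) := hc.layers_suffix hl
  have hne : Q.2 ≠ R.2 := (List.isChain_cons_cons.mp hlay.adj).1
  have haN : NormAll a (Q :: R :: rest) := hc.normAll_a hl
  have hQn : ∀ g ∈ Q.1, NormAll g (Q :: R :: rest) := fun g hg => hc.normAll_self hl hg
  have hrR : (r : KR) ≠ 0 := hc.castK hl' KR
  have hQp := hc.pgroup_of hl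
  set Z := Zc Q (R :: rest) with hZ
  have hZQ : Z ≤ Q.1 := zc_le
  have hcardQ : ∀ {E : Subgroup Γ}, E ≤ Q.1 → (Nat.card E : KR) ≠ 0 := fun {E} hE h0 => by
    obtain ⟨k, hk⟩ := IsPGroup.iff_card.mp (hQp.to_le hE)
    rw [hk, Nat.cast_pow] at h0
    have h1 := (pow_eq_zero_iff'.mp h0).1
    rw [CharP.cast_eq_zero_iff KR R.2] at h1
    exact hne ((Nat.prime_dvd_prime_iff_eq (hc.prime_of hl') (hc.prime_of hl)).mp h1).symm
  let Valid : (Γ → KR) → Prop := fun μ => IsChar Z μ ∧ Uw KR Q R rest μ ≠ ⊥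
  let Tw : (Γ → KR) → Submodule K (Γ → K) := fun μ => secDual K Q.1 (Nw KR Q R rest μ)
  let Bad : (Γ → KR) → Prop := fun μ => conjW a μ = μ ∧
    (⁅Q.1, zpowers a⁆ ≤ Nw KR Q R rest μ ∨ ∀ w ∈ Uw KR Q R rest μ, conjFun a w = w → w = 0)
  refine ⟨{T | ∃ μ, Valid μ ∧ Tw μ = T}, fun T => ∃ μ, Valid μ ∧ Tw μ = T ∧ ¬ Bad μ, ?_⟩
  have hmap : ∀ g, NormAll g (Q :: R :: rest) → ∀ μ,
      (Tw μ).map (conjFun g) = Tw (conjW g μ) := fun g hg μ => by
    have key : ∀ g, NormAll g (Q :: R :: rest) → ∀ μ, ∀ f ∈ Tw μ, conjFun g f ∈ Tw (conjW g μ) :=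
      fun g hg μ f hf => conjFun_mem (hg Q List.mem_cons_self) (fun b hb => by
        have h1 := nw_conj (normAll_inv hg) hb
        rw [← conjW_mul, inv_mul_cancel, conjW_one, inv_inv] at h1
        exact h1) hf
    refine le_antisymm ?_ fun f hf => ⟨conjFun g⁻¹ f, ?_, rho_cancel_inv _ g f⟩
    · rintro _ ⟨f, hf, rfl⟩
      exact key g hg μ f hf
    · have h1 := key g⁻¹ (normAll_inv hg) _ f hf
      rwa [← conjW_mul, inv_mul_cancel, conjW_one] at h1
  have hvalid : ∀ g, NormAll g (Q :: R :: rest) → ∀ μ, Valid μ → Valid (conjW g μ) := fun g hg μ hμ =>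
    ⟨hμ.1.conj (zc_normalized hg), uw_ne_bot hg hμ.2⟩
  refine ⟨?_, ?_, ?_, ?_, ?_, ?_⟩
  · rintro T ⟨μ, hμ, rfl⟩
    exact secDual_anti (bl_le_nw hc hl hμ.1 hμ.2)
  · let ι := {N : Subgroup Γ // ∃ μ, Valid μ ∧ Nw KR Q R rest μ = N}
    refine (secDual_le_iSup (s := Q.2) (hc.bl_le hl) hQp le_sup_right
      (fun g hg => bl_normalized (hQn g hg)) (fun N : ι => N.1) ?_ ?_ ?_).trans (iSup_le fun N => ?_)
    · rintro ⟨N, μ, hμ, rfl⟩
      exact bl_le_nw hc hl hμ.1 hμ.2
    · rintro ⟨N, μ, hμ, rfl⟩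
      exact nw_le μ
    · intro x hx h
      exact inter_nw (K := KR) hc hl hx fun μ hμ hne => h ⟨_, μ, ⟨hμ, hne⟩, rfl⟩
    · obtain ⟨N, μ, hμ, rfl⟩ := N
      exact le_iSup₂_of_le (Tw μ) ⟨μ, hμ, rfl⟩ le_rfl
  · rintro g hg T ⟨μ, hμ, rfl⟩
    exact ⟨_, hvalid g hg μ hμ, (hmap g hg μ).symm⟩
  · rintro T ⟨μ, hμ, rfl⟩ hmove
    refine ⟨μ, hμ, rfl, fun hbad => hmove ?_⟩
    have hn := nw_normalized haN hbad.1
    exact ⟨fun f hf => conjFun_mem_self (haN Q List.mem_cons_self) hn hf,
      fun f hf => conjFun_mem_self (inv_mem (haN Q List.mem_cons_self)) (inv_mem hn) hf⟩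
  · -- the fixed kernel lies in every good radical
    rintro _ - ⟨μ, ⟨hμ, hne0⟩, rfl, hnbad⟩ k hk t ht
    suffices hkN : k ∈ Nw KR Q R rest μ from ht.2.2 k hkN
    rw [cl_cons, cl_cons] at hk
    have hk1 : k ∈ Q.1 := hk.1.1
    have hka : Commute k a := mem_centralizer_singleton_iff.mp hk.1.2
    have hkn := hQn k hk1
    set σ := conjFun (Γ := Γ) (K := KR)
    set W := Wl KR R rest
    have hfixgood : ∀ T ∈ TsR, GoodR T → ∀ t ∈ T, σ k (orbSum σ a r t) = orbSum σ a r t :=
      fun T hT hg t ht => hF.fix_orbSum hc.pow haN.tail (hc.coprime_of hl') hkn.tail hka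
        (fun c hc' => (inv_mem hk : k⁻¹ ∈ _).2.2 c hc') hT hg ht
    have hkW := wl_stable (K := KR) hkn.tail
    by_cases hmove : conjW a μ = μ
    · -- fixed weights
      obtain ⟨hnA, hWa⟩ : ¬ ⁅Q.1, zpowers a⁆ ≤ Nw KR Q R rest μ ∧
          ¬ ∀ w ∈ Uw KR Q R rest μ, σ a w = w → w = 0 :=
        ⟨fun h => hnbad ⟨hmove, Or.inl h⟩, fun h => hnbad ⟨hmove, Or.inr h⟩⟩
      have hfr : ¬ Fr Q.1 ≤ Kr (Q :: R :: rest) := by
        intro hfr
        refine hnA ?_
        have hZtop : ∀ x ∈ Q.1, x ∈ Z := fun x hx =>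
          ⟨hx, kr_normalized _ x (hQn x hx), fun y hy => hfr (comm_mem_fr hQp hx hy)⟩
        have haU := uw_stable (K := KR) haN hmove
        refine commutator_zpowers_le (nw_normalized haN hmove) fun y hy => ?_
        refine mem_nw_of_fixes hc hl hμ hne0 (comm_mem_of_normalizes (haN Q List.mem_cons_self) hy) fun w hw => ?_
        have hy' : a * y * a⁻¹ ∈ Q.1 := conj_mem_of_mem_normalizer (haN Q List.mem_cons_self) hy
        have e : μ (a * y * a⁻¹) = μ y := by
          conv_lhs => rw [← hmove]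
          simp [conjW, mul_assoc]
        rw [commutatorElement_def, rho_mul (g := a * y * a⁻¹), hw.2 _ (hZtop _ (inv_mem hy)), map_smul,
          hw.2 _ (hZtop _ hy'), e, smul_smul, hμ.mul_inv (hZtop _ hy), one_smul]
      rcases hc.shape hl with hs | ⟨-, hBQ⟩
      · exact absurd hs hfr
      set U := Uw KR Q R rest μ with hU
      have hcomZ : ∀ x ∈ Q.1, ∀ y ∈ Q.1, ⁅x, y⁆ ∈ Z := fun x hx y hy => by
        have h1 : ⁅x, y⁆ ∈ Bl Q (R :: rest) := mem_sup_right (comm_mem_fr hQp hx hy)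
        exact ⟨hc.bl_le hl h1, kr_normalized _ _ (hQn _ (hc.bl_le hl h1)),
          fun z hz => hBQ (Subgroup.commutator_mem_commutator h1 hz)⟩
      have hQU : ∀ g ∈ Q.1, g ∈ stabW σ U := fun g hg => (weight_fixed hc hl hμ hne0 hg).2
      have hsw : ∀ x ∈ Q.1, ∀ y ∈ Q.1, ∀ w ∈ U, σ x (σ y w) = μ ⁅x, y⁆ • σ y (σ x w) := by
        intro x hx y hy w hw
        have h1 : σ y (σ x w) ∈ U := (hQU y hy).1 _ ((hQU x hx).1 w hw)
        rw [← h1.2 _ (hcomZ x hx y hy), ← rho_mul, ← rho_mul, ← rho_mul]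
        congr 2
        simp [commutatorElement_def, mul_assoc]
      let lam : Γ → KR := fun y => μ ⁅k, y⁆
      have hlam : ∀ x ∈ Q.1, ∀ y ∈ Q.1, lam (x * y) = lam x * lam y := by
        intro x hx y hy
        show μ ⁅k, x * y⁆ = μ ⁅k, x⁆ * μ ⁅k, y⁆
        have hky := hcomZ k hk1 y hy
        have hconj : μ (x * ⁅k, y⁆ * x⁻¹) = μ ⁅k, y⁆ := by
          conv_lhs => rw [← (weight_fixed hc hl hμ hne0 hx).1]
          simp [conjW, mul_assoc]
        rw [show ⁅k, x * y⁆ = ⁅k, x⁆ * (x * ⁅k, y⁆ * x⁻¹) by simp [commutatorElement_def, mul_assoc],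
          hμ.mul _ (hcomZ k hk1 x hx) _ (conj_mem_of_mem_normalizer (zc_normalized (hQn x hx)) hky), hconj]
      let Lk : Subgroup Γ :=
        { carrier := {y | y ∈ Q.1 ∧ lam y = 1}
          one_mem' := ⟨Q.1.one_mem, by simp [lam, commutatorElement_one_right, hμ.one]⟩
          mul_mem' := fun {x y} hx hy => ⟨Q.1.mul_mem hx.1 hy.1, by rw [hlam x hx.1 y hy.1, hx.2, hy.2, one_mul]⟩
          inv_mem' := fun {x} hx => ⟨Q.1.inv_mem hx.1, by
            have h1 := hlam x hx.1 x⁻¹ (Q.1.inv_mem hx.1)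
            rw [hx.2, one_mul, mul_inv_cancel] at h1
            rw [← h1]
            simp [lam, commutatorElement_one_right, hμ.one]⟩ }
      set E := ⁅Q.1, zpowers a⁆
      have haz : zpowers a ≤ normalizer ((Q.1 : Subgroup Γ) : Set Γ) := zpowers_le.mpr (haN Q List.mem_cons_self)
      have hEQ : E ≤ Q.1 := CfsgLib.commutator_le_of_le_normalizer haz
      have hELk : E ≤ Lk := by
        rw [Subgroup.commutator_le]
        intro y hy g hg
        obtain ⟨i, rfl⟩ := mem_zpowers_iff.mp hg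
        have hgy : a ^ i * y⁻¹ * (a ^ i)⁻¹ ∈ Q.1 := conj_mem_of_mem_normalizer (haz hg) (inv_mem hy)
        refine ⟨hEQ (Subgroup.commutator_mem_commutator hy hg), ?_⟩
        have hmove' : conjW (a ^ i)⁻¹ μ = μ :=
          (show zpowers a ≤ wtFix μ from zpowers_le.mpr hmove) (inv_mem hg)
        have hcomm : a ^ i * k = k * a ^ i := ((hka.zpow_right i).eq).symm
        have e : ⁅k, a ^ i * y⁻¹ * (a ^ i)⁻¹⁆ = a ^ i * ⁅k, y⁻¹⁆ * (a ^ i)⁻¹ := by
          have h1 : a ^ i * k * (a ^ i)⁻¹ = k := by rw [hcomm, mul_inv_cancel_right]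
          conv_lhs => rw [← h1]
          simp [commutatorElement_def, mul_assoc]
        rw [show ⁅y, a ^ i⁆ = y * (a ^ i * y⁻¹ * (a ^ i)⁻¹) by simp [commutatorElement_def, mul_assoc],
          hlam y hy _ hgy]
        have h2 : lam (a ^ i * y⁻¹ * (a ^ i)⁻¹) = lam y⁻¹ := by
          show μ ⁅k, a ^ i * y⁻¹ * (a ^ i)⁻¹⁆ = μ ⁅k, y⁻¹⁆
          rw [e]
          conv_rhs => rw [← hmove']
          simp [conjW]
        rw [h2, ← hlam y hy y⁻¹ (inv_mem hy), mul_inv_cancel]
        simp [lam, commutatorElement_one_right, hμ.one]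
      set f : Module.End KR (Γ → KR) := (σ k - 1) * wtProj σ Z μ with hfdef
      have hcomU : ∀ e ∈ E, ∀ w ∈ U, σ k (σ e w) = σ e (σ k w) := fun e he w hw => by
        rw [hsw k hk1 e (hEQ he) w hw, show μ ⁅k, e⁆ = 1 from (hELk he).2, one_smul]
      have haU := uw_stable (K := KR) haN hmove
      have hfixU : ∀ w ∈ U, σ a w = w → σ k w = w := by
        have hmain := hF.master hc.prime hc.pow hrR haN.tail (hc.prime_of hl) hne (hc.prime_ne hl)
          (hQp.to_le hEQ) (fun g hg => (hQn g (hEQ hg)).tail)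
          (mem_normalizer_commutator (haN Q List.mem_cons_self) (le_normalizer (mem_zpowers a)))
          (CfsgLib.coprime_commutator_commutator haz (hc.coprime_of hl) (Or.inl (isSolvable_zpowers a))).ge f
          (fun w hw => by
            simp only [f, Module.End.mul_apply, LinearMap.sub_apply, Module.End.one_apply]
            rw [wtProj_comm σ (zc_normalized haN) hmove, map_sub, ← rho_mul, ← rho_mul σ a k, hka.eq])
          (fun e he w hw => by
            simp only [f, Module.End.mul_apply, LinearMap.sub_apply, Module.End.one_apply]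
            rw [wtProj_comm σ (zc_normalized (hQn e (hEQ he))) (weight_fixed hc hl hμ hne0 (hEQ he)).1,
              hcomU e he _ ⟨wtProj_stable σ (fun g hg => wl_stable (hQn g (zc_le hg)).tail) hw,
                wtProj_mem σ hμ w⟩, map_sub])
          (fun T hT hg t ht => by
            have hZW : Z ≤ stabW σ W := fun g hg => wl_stable (hQn g (hZQ hg)).tail
            simp only [f, Module.End.mul_apply, LinearMap.sub_apply, Module.End.one_apply]
            rw [← wtProj_comm σ (zc_normalized hkn) (weight_fixed hc hl hμ hne0 hk1).1, hfixgood T hT hg t ht,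
              sub_self])
        intro w hw hwa
        have h1 := hmain w hw.1
        rw [orbSum_fixed σ r hwa] at h1
        have hfw : f w = σ k w - w := by
          simp only [f, Module.End.mul_apply, LinearMap.sub_apply, Module.End.one_apply]
          rw [wtProj_eq σ hμ (hcardQ hZQ) hw.2]
        have hu : ∀ e ∈ E, σ e (f w) = f w := fun e he => by
          have h2 := h1 e he
          rw [map_smul, map_smul] at h2
          exact (smul_right_injective _ hrR) h2
        by_contra hne1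
        have hu0 : f w ≠ 0 := fun h => hne1 (sub_eq_zero.mp (hfw ▸ h))
        have huU : f w ∈ U := by rw [hfw]; exact Submodule.sub_mem _ ((hQU k hk1).1 w hw) hw
        refine hnA fun e he => ?_
        unfold Nw
        rw [if_neg hfr]
        refine ⟨hEQ he, stabW_le_normalizer_fixW _ _ (hQU e (hEQ he)), fun y hy v hv => ?_⟩
        have hEn : y ∈ normalizer (E : Set Γ) := CfsgLib.left_le_normalizer_commutator _ _ hy
        have h3 : σ e (σ y (f w)) = σ y (f w) := by
          have h4 : y⁻¹ * e * y⁻¹⁻¹ ∈ E := conj_mem_of_mem_normalizer (inv_mem hEn) he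
          conv_rhs => rw [← hu _ h4]
          rw [← rho_mul, ← rho_mul]
          congr 2
          simp [mul_assoc]
        have h5 := hsw e (hEQ he) y hy _ huU
        rw [h3, hu e he] at h5
        have hyu : σ y (f w) ≠ 0 := fun h => hu0 (by rw [← rho_inv_cancel σ y (f w), h, map_zero])
        have h6 : (μ ⁅e, y⁆ - 1) • σ y (f w) = 0 := by rw [sub_smul, one_smul, ← h5, sub_self]
        rw [hv.2 _ (hcomZ e (hEQ he) y hy), sub_eq_zero.mp ((smul_eq_zero.mp h6).resolve_right hyu), one_smul]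
      push Not at hWa
      obtain ⟨v₀, hv₀, hv₀a, hv₀0⟩ := hWa
      have hlam1 : ∀ y ∈ Q.1, lam y = 1 := by
        intro y hy
        obtain ⟨e, he, c, hc', rfl⟩ :=
          CfsgLib.coprime_decomp haz (hc.coprime_of hl) (Or.inl (isSolvable_zpowers a)) hy
        rw [hlam e (hEQ he) c hc'.1, (hELk he).2, one_mul]
        have hca : Commute c a := (mem_centralizer_iff.mp hc'.2 a (mem_zpowers a)).symm
        have hcv : σ c v₀ ∈ U := (hQU c hc'.1).1 _ hv₀
        have hcva : σ a (σ c v₀) = σ c v₀ := by rw [← rho_mul, ← hca.eq, rho_mul, hv₀a]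
        have h1 := hsw k hk1 c hc'.1 v₀ hv₀
        rw [hfixU _ hcv hcva, hfixU _ hv₀ hv₀a] at h1
        have h2 : (lam c - 1) • σ c v₀ = 0 := by rw [sub_smul, one_smul, ← h1, sub_self]
        exact sub_eq_zero.mp ((smul_eq_zero.mp h2).resolve_right fun h =>
          hv₀0 (by rw [← rho_inv_cancel σ c v₀, h, map_zero]))
      unfold Nw
      rw [if_neg hfr]
      refine ⟨hk1, stabW_le_normalizer_fixW _ _ (hQU k hk1), fun y hy v hv => ?_⟩
      rw [hv.2 _ (hcomZ k hk1 y hy), show μ ⁅k, y⁆ = 1 from hlam1 y hy, one_smul]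
    · -- moved weights
      refine mem_nw_of_fixes hc hl hμ hne0 hk1 fun w hw => ?_
      have haz : zpowers a ≤ normalizer (Z : Set Γ) := zpowers_le.mpr (zc_normalized haN)
      set E := ⁅Z, zpowers a⁆
      have hEZ : E ≤ Z := CfsgLib.commutator_le_of_le_normalizer haz
      have hEQ : E ≤ Q.1 := hEZ.trans hZQ
      set f : Module.End KR (Γ → KR) := σ k - 1 with hf
      have hmain := hF.master hc.prime hc.pow hrR haN.tail (hc.prime_of hl) hne (hc.prime_ne hl)
        (hQp.to_le hEQ) (fun g hg => (hQn g (hEQ hg)).tail)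
        (mem_normalizer_commutator (zc_normalized haN) (le_normalizer (mem_zpowers a)))
        (CfsgLib.coprime_commutator_commutator haz (hc.coprime_of_le (hZQ.trans (hc.tower.le Q (hc.mem_list hl))))
          (Or.inl (isSolvable_zpowers a))).ge f
        (fun w hw => by
          simp only [f, LinearMap.sub_apply, Module.End.one_apply, map_sub]
          rw [← rho_mul, ← rho_mul σ a k, hka.eq])
        (fun e he w hw => by
          simp only [f, LinearMap.sub_apply, Module.End.one_apply, map_sub]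
          have hk' : ⁅e, k⁆ ∈ Kr (Q :: R :: rest) := (hEZ he).2.2 k hk1
          have hfx := (hc.mem_kr_iff_fixes (K := KR) hl (kr_le _ _ hk')).mp hk' (σ k (σ e w))
            ((wl_stable hkn.tail).1 _ ((wl_stable (hQn e (hEQ he)).tail).1 w hw))
          rw [← rho_mul, ← rho_mul] at hfx
          rw [← hfx, show ⁅e, k⁆ * k * e = e * k by simp [commutatorElement_def, mul_assoc], rho_mul])
        (fun T hT hg t ht => by
          simp only [f, LinearMap.sub_apply, Module.End.one_apply]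
          rw [hfixgood T hT hg t ht, sub_self])
      obtain ⟨z₀, hz₀, hz₀μ⟩ : ∃ z₀ ∈ Z, μ (a⁻¹ * z₀ * a) ≠ μ z₀ := by
        by_contra h
        push Not at h
        refine hmove (funext fun z => ?_)
        by_cases hz : z ∈ Z
        · exact h z hz
        · rw [hμ.out z hz]
          exact hμ.out _ fun h' => hz (by
            simpa [mul_assoc] using conj_mem_of_mem_normalizer (zc_normalized haN) h')
      set e := ⁅z₀, a⁻¹⁆
      have heE : e ∈ E := Subgroup.commutator_mem_commutator hz₀ (inv_mem (mem_zpowers a))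
      have he1 : μ e ≠ 1 := by
        have hz1 : a⁻¹ * z₀⁻¹ * a ∈ Z := by
          simpa using conj_mem_of_mem_normalizer (inv_mem (zc_normalized haN)) (inv_mem hz₀)
        rw [show e = z₀ * (a⁻¹ * z₀⁻¹ * a) by simp [e, commutatorElement_def, mul_assoc], hμ.mul _ hz₀ _ hz1,
          show a⁻¹ * z₀⁻¹ * a = (a⁻¹ * z₀ * a)⁻¹ by group, hμ.inv (by
            simpa using conj_mem_of_mem_normalizer (inv_mem (zc_normalized haN)) hz₀)]
        intro h
        exact hz₀μ (eq_of_div_eq_one (by rw [div_eq_mul_inv]; exact h)).symm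
      have haW := wl_stable (K := KR) haN.tail
      set u := σ k w - w with hudef
      have hu : u ∈ Uw KR Q R rest μ :=
        Submodule.sub_mem _ ((weight_fixed hc hl hμ hne0 hk1).2.1 w hw) hw
      have hfu : f (orbSum σ a r w) = orbSum σ a r u := by
        simp only [f, u, LinearMap.sub_apply, Module.End.one_apply, map_sub]
        rw [orbSum_rho σ hka]
      have h1 := congrArg (wtProj σ Z μ) (hmain w hw.1 e heE)
      rw [hfu, wtProj_comm σ (zc_normalized (hQn e (hEQ heE))) (weight_fixed hc hl hμ hne0 (hEQ heE)).1,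
        wtProj_orbSum hμ (hcardQ hZQ) hc.prime hc.pow (zc_normalized haN) hmove hu.2, hu.2 e (hEZ heE)] at h1
      have h2 : (μ e - 1) • u = 0 := by rw [sub_smul, one_smul, h1, sub_self]
      exact sub_eq_zero.mp ((smul_eq_zero.mp h2).resolve_left (sub_ne_zero.mpr he1))
  · -- bad members
    rintro T ⟨μ, hμ, rfl⟩ hng p D hp hpQ hpr hDp hDn haD hDgen hDT t ht hta d hd
    have hbad : ∀ ν, Valid ν → Tw ν = Tw μ → Bad ν := fun ν hν he => by
      by_contra h
      exact hng ⟨ν, hν, he, h⟩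
    have hmapT : ∀ g ∈ D, (Tw μ).map (conjFun g) = Tw μ := fun g hg =>
      le_antisymm (by rintro _ ⟨f, hf, rfl⟩; exact (hDT hg).1 f hf)
        fun f hf => ⟨conjFun g⁻¹ f, (hDT hg).2 f hf, rho_cancel_inv _ g f⟩
    obtain ⟨hafix, hcase⟩ := hbad μ hμ rfl
    have hDfix : D ≤ wtFix μ := by
      refine hDgen.trans (commutator_zpowers_le (le_normalizer (mem_wtFix.mpr hafix)) fun g hg => ?_)
      have h1 : conjW a (conjW g⁻¹ μ) = conjW g⁻¹ μ :=
        (hbad _ (hvalid _ (normAll_inv (hDn g hg)) μ hμ)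
          (by rw [← hmap _ (normAll_inv (hDn g hg)), hmapT _ (inv_mem hg)])).1
      show conjW ⁅a, g⁆ μ = μ
      rw [commutatorElement_def, conjW_mul, conjW_mul, conjW_mul]
      have h2 : conjW a⁻¹ (conjW g⁻¹ μ) = conjW g⁻¹ μ := conjW_inv h1
      rw [h2, ← conjW_mul g, mul_inv_cancel, conjW_one, hafix]
    set N := Nw KR Q R rest μ
    set U := Uw KR Q R rest μ
    have hDU : D ≤ stabW (conjFun (K := KR)) U := fun g hg => uw_stable (hDn g hg) (hDfix hg)
    have haU : a ∈ stabW (conjFun (K := KR)) U := uw_stable haN hafix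
    have hQU : Q.1 ≤ stabW (conjFun (K := KR)) U := fun g hg => (weight_fixed hc hl hμ.1 hμ.2 hg).2
    have hDQ : D ≤ normalizer ((Q.1 : Subgroup Γ) : Set Γ) := fun g hg => hDn g hg Q List.mem_cons_self
    have haQ := haN Q List.mem_cons_self
    have hDN : D ≤ normalizer (N : Set Γ) := fun g hg => nw_normalized (hDn g hg) (hDfix hg)
    have haN' : a ∈ normalizer (N : Set Γ) := nw_normalized haN hafix
    have hBN : Bl Q (R :: rest) ≤ N := bl_le_nw hc hl hμ.1 hμ.2
    have hQN : Q.1 ≤ normalizer (N : Set Γ) :=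
      le_normalizer_of_comm_mem (nw_le μ) fun x hx y hy => hBN (mem_sup_right (comm_mem_fr hQp hx hy))
    -- it suffices that the group centralizes the section
    suffices hQD : ⁅Q.1, D⁆ ≤ N by
      refine (fixes_iff (s := Q.2) (nw_le μ) hQp (le_sup_right.trans hBN) hQN (hDQ hd)).mpr (fun y hy => ?_) t ht
      rw [← commutatorElement_inv]
      exact N.inv_mem (hQD (Subgroup.commutator_mem_commutator hy (inv_mem hd)))
    have hcase1 : ⁅Q.1, zpowers a⁆ ≤ N → ⁅Q.1, D⁆ ≤ N := by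
      intro h
      have hA : zpowers a ≤ normalizer (N : Set Γ) := zpowers_le.mpr haN'
      have h1 := CfsgLib.Stabilizer.commutator_commutator_le_of_rotate (A := D) (B := zpowers a) (C := Q.1)
        hDN hA hQN ?_ ?_
      · rw [Subgroup.commutator_comm]
        exact (Subgroup.commutator_mono hDgen le_rfl).trans h1
      · refine (Subgroup.commutator_mono ?_ le_rfl).trans (CfsgLib.commutator_le_of_le_normalizer hDN)
        rwa [Subgroup.commutator_comm]
      · exact (Subgroup.commutator_mono (CfsgLib.commutator_le_of_le_normalizer hDQ) le_rfl).trans h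
    rcases hcase with h | hWa
    · exact hcase1 h
    have hqK : (Q.2 : KR) ≠ 0 := fun h0 => by
      rw [CharP.cast_eq_zero_iff KR R.2] at h0
      exact hne ((Nat.prime_dvd_prime_iff_eq (hc.prime_of hl') (hc.prime_of hl)).mp h0).symm
    by_cases hfr : Fr Q.1 ≤ Kr (Q :: R :: rest)
    · -- abelian sections are fixed by the automorphism
      refine hcase1 (commutator_zpowers_le haN' fun y hy =>
        mem_nw_of_fixes hc hl hμ.1 hμ.2 (comm_mem_of_normalizes haQ hy) fun w hw => ?_)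
      have hZtop : ∀ x ∈ Q.1, x ∈ Z := fun x hx =>
        ⟨hx, kr_normalized _ x (hQn x hx), fun y hy => hfr (comm_mem_fr hQp hx hy)⟩
      have hy' : a * y * a⁻¹ ∈ Q.1 := conj_mem_of_mem_normalizer haQ hy
      have e : μ (a * y * a⁻¹) = μ y := by
        conv_lhs => rw [← hafix]
        simp [conjW, mul_assoc]
      rw [commutatorElement_def, rho_mul (g := a * y * a⁻¹), hw.2 _ (hZtop _ (inv_mem hy)), map_smul,
        hw.2 _ (hZtop _ hy'), e, smul_smul, hμ.1.mul_inv (hZtop _ hy), one_smul]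
    by_cases hq2 : Q.2 = 2
    · rcases hc.shape hl with hs | ⟨-, hBQ⟩
      · exact absurd hs hfr
      have hN : N = sectKer Q.1 Q.1 (fixW conjFun U) := by
        show Nw KR Q R rest μ = _
        unfold Nw
        rw [if_neg hfr]
      rw [hN]
      refine (Subgroup.commutator_mono le_rfl hDgen).trans (two_case (hq2 ▸ hQp) hQU hc.prime
        (fun h => hc.prime_ne hl (by rw [hq2, h])) hc.pow hrR (by rw [hq2] at hqK; exact_mod_cast hqK) haQ haU hWa
        (fun x hx y hy => ⟨μ ⁅x, y⁆, fun v hv => hv.2 _ ?_⟩)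
        (hN ▸ (le_sup_right.trans hBN)) hp (fun h => hpQ (by rw [hq2, h])) hpr D hDp hDU hDQ haD)
      have h1 : ⁅x, y⁆ ∈ Bl Q (R :: rest) := mem_sup_right (comm_mem_fr hQp hx hy)
      exact ⟨hc.bl_le hl h1, kr_normalized _ _ (hQn _ (hc.bl_le hl h1)),
        fun z hz => hBQ (Subgroup.commutator_mem_commutator h1 hz)⟩
    · refine hcase1 (commutator_zpowers_le haN' fun y hy => ?_)
      exact mem_nw_of_fixes hc hl hμ.1 hμ.2 (comm_mem_of_normalizes haQ hy)
        (shult hc.prime hc.pow hrR (hc.prime_of hl) hq2 (hc.prime_ne hl) hqK Q.1 hQp haQ U hQU haU hWa y hy)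

/-- Every layer has a frame. -/
theorem exists_frame (hc : Ctx a r X l) : ∀ (rest up : List (Layer Γ)) (Q : Layer Γ), l = up ++ Q :: rest →
    ∀ (K : Type) [Field K] [CharP K Q.2], ∃ Ts Good, IsFrame a r (K := K) Q rest Ts Good
  | [], up, Q, hl, K, _, _ => frame_bottom hc hl K
  | R :: rest, up, Q, hl, K, _, _ => by
    have hl' : l = (up ++ [Q]) ++ R :: rest := by rw [hl]; simp
    haveI := Fact.mk (hc.prime_of hl')
    haveI : CharP (AlgebraicClosure (ZMod R.2)) R.2 :=
      charP_of_injective_algebraMap (algebraMap (ZMod R.2) _).injective R.2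
    obtain ⟨TsR, GoodR, hF⟩ := exists_frame hc rest (up ++ [Q]) R hl' (AlgebraicClosure (ZMod R.2))
    exact frame_step hc hl (AlgebraicClosure (ZMod R.2)) K hF

end CfsgLib.Turull
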