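import Cfsg.Agent.Lib.Turull.Fixed

/-!
From a tower of least order to a tower in the fixed points that is at most two layers shorter.
-/

set_option autoImplicit false

namespace CfsgLib.Turull

open Subgroup Finset
open scoped commutatorElement

universe u

variable {Γ : Type u} [Group Γ] {a : Γ}

theorem layers_cl {L : List (Layer Γ)} (h : Layers L) : Layers (Cl a L) where
  prime := fun P hP => by
    obtain ⟨Q, hQ, rfl⟩ := List.mem_map.mp hP
    exact h.prime Q hQ
  pgroup := fun P hP => by
    obtain ⟨Q, hQ, rfl⟩ := List.mem_map.mp hP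
    exact (h.pgroup Q hQ).to_le inf_le_left
  norm := List.pairwise_map.mpr (h.norm.imp fun {P Q} hPQ g hg =>
    mem_normalizer_inf (hPQ hg.1) (mem_normalizer_centralizer (mem_centralizer_singleton_iff.mp hg.2)))
  adj := by
    have h2 := h.adj
    exact (List.isChain_map _).mpr h2

theorem cl_le {X : Subgroup Γ} {L : List (Layer Γ)} (h : ∀ P ∈ L, P.1 ≤ X) :
    ∀ P ∈ Cl a L, P.1 ≤ X ⊓ centralizer ({a} : Set Γ) := fun P hP => by
  obtain ⟨Q, hQ, rfl⟩ := List.mem_map.mp hP
  exact inf_le_inf_right _ (h Q hQ)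

variable [Finite Γ] {r : ℕ} {X : Subgroup Γ} {l : List (Layer Γ)}

/-- A tower in the fixed points. -/
def FixedTower (a : Γ) (X : Subgroup Γ) (m : ℕ) : Prop :=
  ∃ l', Layers l' ∧ Alive l' ∧ (∀ P ∈ l', P.1 ≤ X ⊓ centralizer ({a} : Set Γ)) ∧ m ≤ l'.length

/-- A centralised layer acting on the fixed points of a lower one extends their tower. -/
theorem join (hc : Ctx a r X l) {pre mid post : List (Layer Γ)} {Y C : Layer Γ}
    (hl : l = pre ++ Y :: (mid ++ C :: post)) (hcent : ∀ A ∈ pre ++ [Y], A.1 ≤ centralizer ({a} : Set Γ))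
    (h : ∃ y ∈ Y.1, ∃ c ∈ C.1 ⊓ centralizer ({a} : Set Γ), ⁅y, c⁆ ∉ Kr (Cl a (C :: post))) :
    FixedTower a X (pre.length + 1 + post.length) := by
  obtain ⟨y, hy, c, hcc, hyc⟩ := h
  have hL := hc.tower.layers
  have hlpre : l = pre ++ [Y] ++ (mid ++ C :: post) := by rw [hl]; simp
  have hlC : l = (pre ++ Y :: mid) ++ C :: post := by rw [hl]; simp
  have hpreL : Layers (pre ++ [Y]) := (hlpre ▸ hL).of_append.1
  have hlowL : Layers (Cl a (C :: post)) := layers_cl (hc.layers_suffix hlC)
  have hgen : Generated (pre ++ [Y]) := by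
    have h := hc.tower.generated
    rw [hlpre, Generated] at h
    exact (List.isChain_append.mp h).1
  have hpreX : ∀ A ∈ pre ++ [Y], A.1 ≤ X ⊓ centralizer ({a} : Set Γ) := fun A hA =>
    le_inf (hc.tower.le A (by rw [hlpre]; exact List.mem_append_left _ hA)) (hcent A hA)
  have hlowX : ∀ A ∈ Cl a (C :: post), A.1 ≤ X ⊓ centralizer ({a} : Set Γ) :=
    cl_le fun A hA => hc.tower.le A (by rw [hlC]; exact List.mem_append_right _ hA)
  have hcross : ∀ A ∈ pre ++ [Y], ∀ B ∈ Cl a (C :: post), A.1 ≤ normalizer ((B.1 : Subgroup Γ) : Set Γ) := by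
    intro A hA B hB g hg
    obtain ⟨B₀, hB₀, rfl⟩ := List.mem_map.mp hB
    exact mem_normalizer_inf (hc.normAll_mem hlpre hA hg B₀ (List.mem_append_right _ hB₀))
      (mem_normalizer_centralizer (mem_centralizer_singleton_iff.mp (hcent A hA hg)))
  set C' : Layer Γ := (C.1 ⊓ centralizer ({a} : Set Γ), C.2)
  have hC'mem : C' ∈ Cl a (C :: post) := List.mem_cons_self
  by_cases hne : Y.2 = C.2
  swap
  · have hlay : Layers (pre ++ Y :: Cl a (C :: post)) := by
      rw [show pre ++ Y :: Cl a (C :: post) = (pre ++ [Y]) ++ Cl a (C :: post) by simp]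
      refine ⟨fun P hP => ?_, fun P hP => ?_, List.pairwise_append.mpr ⟨hpreL.norm, hlowL.norm, hcross⟩,
        List.isChain_append.mpr ⟨hpreL.adj, hlowL.adj, fun P hP Q hQ => ?_⟩⟩
      · exact (List.mem_append.mp hP).elim (hpreL.prime P) (hlowL.prime P)
      · exact (List.mem_append.mp hP).elim (hpreL.pgroup P) (hlowL.pgroup P)
      · rw [cl_cons] at hQ
        simp only [List.getLast?_append, List.getLast?_singleton, Option.mem_def, Option.some_or,
          Option.some.injEq] at hP
        simp only [List.head?_cons, Option.mem_def, Option.some.injEq] at hQ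
        subst hP; subst hQ
        exact hne
    refine ⟨_, hlay, alive_append pre Y _ hlay hgen fun hle => hyc ((hle hy).2.2 c hcc), fun P hP => ?_, ?_⟩
    · rcases List.mem_append.mp hP with hP | hP
      · exact hpreX P (List.mem_append_left _ hP)
      · rcases List.mem_cons.mp hP with rfl | hP
        · exact hpreX _ (List.mem_append_right _ List.mem_cons_self)
        · exact hlowX P hP
    · simp [Cl]; omega
  cases post with
  | nil =>
    refine ⟨pre ++ [Y], hpreL, alive_append pre Y [] hpreL hgen fun hle => hc.ne_kr hl fun g hg => ?_, hpreX,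
      by simp⟩
    rw [show g = 1 from hle hg]
    exact one_mem _
  | cons R₀ post =>
    rw [cl_cons] at hlowL hlowX hcross hyc
    have hYl : Y ∈ l := hc.mem_list hl
    haveI : Fact Y.2.Prime := Fact.mk (hL.prime Y hYl)
    set M : Layer Γ := (Y.1 ⊔ C'.1, Y.2)
    have hYC : Y.1 ≤ normalizer ((C'.1 : Subgroup Γ) : Set Γ) :=
      hcross Y (List.mem_append_right _ List.mem_cons_self) C' List.mem_cons_self
    have hMp : IsPGroup Y.2 M.1 := IsPGroup.to_sup_of_normal_right' (hL.pgroup Y hYl)
      ((hne ▸ hlowL.pgroup C' List.mem_cons_self : IsPGroup Y.2 C'.1)) hYC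
    have hML : Layers (M :: Cl a (R₀ :: post)) := by
      refine ⟨fun P hP => ?_, fun P hP => ?_, List.pairwise_cons.mpr ⟨fun P hP => ?_, hlowL.tail.norm⟩, ?_⟩
      · rcases List.mem_cons.mp hP with rfl | hP
        · exact hL.prime Y hYl
        · exact hlowL.tail.prime P hP
      · rcases List.mem_cons.mp hP with rfl | hP
        · exact hMp
        · exact hlowL.tail.pgroup P hP
      · exact sup_le (hcross Y (List.mem_append_right _ List.mem_cons_self) P (List.mem_cons_of_mem _ hP))
          ((List.pairwise_cons.mp hlowL.norm).1 P hP)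
      · have h2 := hlowL.adj
        rw [cl_cons] at h2 ⊢
        refine List.isChain_cons_cons.mpr ⟨?_, (List.isChain_cons_cons.mp h2).2⟩
        show Y.2 ≠ R₀.2
        rw [hne]
        exact (List.isChain_cons_cons.mp h2).1
    have hnY : ¬ Y.1 ≤ Kr (M :: Cl a (R₀ :: post)) := fun hle => hyc (by
      have hY' := hle hy
      have hcM : c ∈ M.1 := mem_sup_right hcc
      have hk : ⁅y, c⁆ ∈ Kr (M :: Cl a (R₀ :: post)) := by
        rw [commutatorElement_def, show y * c * y⁻¹ * c⁻¹ = y * (c * y⁻¹ * c⁻¹) by group]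
        exact (Kr _).mul_mem hY' (conj_mem_of_mem_normalizer (hML.kr_le_normalizer hcM) ((Kr _).inv_mem hY'))
      have hyc' : ⁅y, c⁆ ∈ C'.1 := comm_mem_of_normalizes (hYC hy) hcc
      rw [cl_cons] at hk hlowL ⊢
      exact hlowL.mem_kr.mpr ⟨hyc', fun z hz => hk.2.2 z hz⟩)
    have hlay : Layers (pre ++ M :: Cl a (R₀ :: post)) := by
      refine ⟨fun P hP => ?_, fun P hP => ?_, List.pairwise_append.mpr
        ⟨hpreL.of_append.1.norm, hML.norm, fun A hA B hB => ?_⟩,
        List.isChain_append.mpr ⟨hpreL.of_append.1.adj, hML.adj, fun P hP Q hQ => ?_⟩⟩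
      · exact (List.mem_append.mp hP).elim (hpreL.of_append.1.prime P) (hML.prime P)
      · exact (List.mem_append.mp hP).elim (hpreL.of_append.1.pgroup P) (hML.pgroup P)
      · rcases List.mem_cons.mp hB with rfl | hB
        · intro g hg
          exact mem_normalizer_sup ((List.pairwise_append.mp hpreL.norm).2.2 A hA Y List.mem_cons_self hg)
            (hcross A (List.mem_append_left _ hA) C' List.mem_cons_self hg)
        · exact hcross A (List.mem_append_left _ hA) B (List.mem_cons_of_mem _ hB)
      · simp only [List.head?_cons, Option.mem_def, Option.some.injEq] at hQ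
        subst hQ
        exact (List.isChain_append.mp hpreL.adj).2.2 P hP Y (by simp)
    refine ⟨_, hlay, ?_, fun P hP => ?_, by simp [Cl]; omega⟩
    · rcases List.eq_nil_or_concat pre with rfl | ⟨pre', A, rfl⟩
      · exact fun hle => hnY ((le_sup_left : Y.1 ≤ M.1).trans hle)
      · rw [List.concat_eq_append, List.append_assoc] at hlay hgen hpreL ⊢
        refine alive_append pre' A (M :: Cl a (R₀ :: post)) hlay ?_ fun hle => hnY ?_
        · have h2 : Generated ((pre' ++ [A]) ++ [Y]) := by rwa [List.append_assoc]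
          exact (List.isChain_append.mp h2).1
        · have h1 := (hlay.of_mid.le_kr_iff (l := Cl a (R₀ :: post))).mp hle
          have h2 : ⁅Y.1, A.1⁆ = Y.1 := (List.isChain_cons_cons.mp (List.isChain_append.mp hgen).2.1).1
          rw [← h2, Subgroup.commutator_comm]
          exact (Subgroup.commutator_mono le_rfl le_sup_left).trans h1
    · rcases List.mem_append.mp hP with hP | hP
      · exact hpreX P (List.mem_append_left _ hP)
      · rcases List.mem_cons.mp hP with rfl | hP
        · exact sup_le (hpreX Y (List.mem_append_right _ List.mem_cons_self)) (hlowX C' List.mem_cons_self)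
        · exact hlowX P (List.mem_cons_of_mem _ hP)

/-- The first layer moved modulo its kernel. -/
theorem split_first (hc : Ctx a r X l) : ∀ (L pre : List (Layer Γ)), l = pre ++ L →
    (∀ A ∈ pre, A.1 ≤ centralizer ({a} : Set Γ)) →
      (∀ A ∈ l, A.1 ≤ centralizer ({a} : Set Γ)) ∨ ∃ pre' R rest, l = pre' ++ R :: rest ∧
        (∀ A ∈ pre', A.1 ≤ centralizer ({a} : Set Γ)) ∧ ¬ ⁅R.1, zpowers a⁆ ≤ Kr (R :: rest)
  | [], pre, hl, hpre => Or.inl fun A hA => hpre A (by simpa [hl] using hA)
  | P :: L, pre, hl, hpre => by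
    by_cases hP : ⁅P.1, zpowers a⁆ ≤ Kr (P :: L)
    · refine split_first hc L (pre ++ [P]) (by rw [hl]; simp) fun A hA => ?_
      rcases List.mem_append.mp hA with hA | hA
      · exact hpre A hA
      · rw [List.mem_singleton] at hA
        subst hA
        exact hc.tower.centralized (hc.coprime_of_le le_rfl) hl hpre hP
    · exact Or.inr ⟨pre, P, L, hl, hpre, hP⟩

/-- A moved layer under centralised ones is generated by its commutators with `a`. -/
theorem moved_gen (hc : Ctx a r X l) {pre rest : List (Layer Γ)} {R : Layer Γ} (hl : l = pre ++ R :: rest)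
    (hpre : ∀ A ∈ pre, A.1 ≤ centralizer ({a} : Set Γ)) (hR : ¬ ⁅R.1, zpowers a⁆ ≤ Kr (R :: rest)) :
    ⁅R.1, zpowers a⁆ = R.1 := by
  have haR : a ∈ normalizer ((R.1 : Subgroup Γ) : Set Γ) := hc.tower.fix R (hc.mem_list hl)
  have hle : ⁅R.1, zpowers a⁆ ≤ R.1 := CfsgLib.commutator_le_of_le_normalizer (zpowers_le.mpr haR)
  have haA : a ∈ normalizer ((⁅R.1, zpowers a⁆ : Subgroup Γ) : Set Γ) :=
    mem_normalizer_commutator haR (le_normalizer (mem_zpowers a))
  by_contra hne
  rcases List.eq_nil_or_concat pre with rfl | ⟨pre', P, rfl⟩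
  · rw [List.nil_append] at hl
    exact hR (hc.tower.head_le hl hle hne haA)
  rw [List.concat_eq_append] at hl hpre
  have hl2 : l = pre' ++ P :: R :: rest := by rw [hl]; simp
  have hPc : ∀ g ∈ P.1, Commute g a := fun g hg =>
    mem_centralizer_singleton_iff.mp (hpre P (by simp) hg)
  have hcA : ∀ A ∈ pre' ++ [P], ∀ g ∈ A.1, g ∈ normalizer ((zpowers a : Subgroup Γ) : Set Γ) := by
    intro A hA g hg
    have h1 : ∀ z ∈ zpowers a, g * z * g⁻¹ = z := fun z hz => by
      obtain ⟨i, rfl⟩ := mem_zpowers_iff.mp hz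
      rw [((show Commute g a from mem_centralizer_singleton_iff.mp (hpre A hA hg)).zpow_right i).eq,
        mul_inv_cancel_right]
    refine mem_normalizer_of_conj (fun z hz => by rw [h1 z hz]; exact hz) fun z hz => ?_
    have e : g⁻¹ * z * g⁻¹⁻¹ = z := by
      conv_lhs => rw [← h1 z hz]
      simp [mul_assoc]
    rw [e]
    exact hz
  have hcomm := hc.tower.comm_le hl2 hle hne
    (fun A hA g hg => mem_normalizer_commutator (hc.normAll_mem hl hA hg R List.mem_cons_self) (hcA A hA g hg)) haA
  have hgen : ⁅R.1, P.1⁆ = R.1 := by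
    have h := hc.tower.generated
    rw [hl2, Generated] at h
    exact (List.isChain_cons_cons.mp (List.isChain_append.mp h).2.1).1
  have hlay : Layers (P :: R :: rest) := hc.layers_suffix hl2
  refine hR ?_
  have h := CfsgLib.Stabilizer.commutator_commutator_le_of_rotate (A := R.1) (B := P.1) (C := zpowers a)
    (N := Kr (R :: rest)) (fun g hg => kr_normalized _ g (hc.normAll_self hl hg)) hlay.head_le_normalizer_kr
    (zpowers_le.mpr (kr_normalized _ a (hc.normAll_a hl))) ?_ ?_
  · rwa [hgen] at h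
  · have h0 : ⁅P.1, zpowers a⁆ = ⊥ := Subgroup.commutator_eq_bot_iff_le_centralizer.mpr fun g hg =>
      mem_centralizer_iff.mpr fun z hz => by
        obtain ⟨i, rfl⟩ := mem_zpowers_iff.mp hz
        exact ((hPc g hg).zpow_right i).eq.symm
    rw [h0, Subgroup.commutator_bot_left]
    exact bot_le
  · rw [Subgroup.commutator_comm (zpowers a) R.1]
    exact hcomm

/-- A tower of least order gives one in the fixed points at most two layers shorter. -/
theorem exists_fixed_tower (hc : Ctx a r X l) : FixedTower a X (l.length - 2) := by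
  rcases split_first hc l [] rfl (by simp) with hall | ⟨pre, R, rest, hl, hpre, hR⟩
  · exact ⟨l, hc.tower.layers, hc.tower.alive, fun P hP => le_inf (hc.tower.le P hP) (hall P hP), by omega⟩
  have hgenA := moved_gen hc hl hpre hR
  rcases rest with _ | ⟨M, rest⟩
  · -- the moved layer is the lowest
    refine ⟨pre, (hl ▸ hc.tower.layers : Layers (pre ++ [R])).of_append.1, ?_, fun P hP =>
      le_inf (hc.tower.le P (hl ▸ List.mem_append_left _ hP)) (hpre P hP), by simp [hl]⟩
    rcases List.eq_nil_or_concat pre with rfl | ⟨pre', P, rfl⟩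
    · trivial
    rw [List.concat_eq_append] at hl ⊢
    have hL : Layers (pre' ++ [P]) := (hl ▸ hc.tower.layers : Layers (pre' ++ [P] ++ [R])).of_append.1
    refine alive_append pre' P [] hL ?_ fun hle =>
      hc.ne_kr (show l = pre' ++ P :: [R] by rw [hl]; simp) fun g hg => by
        rw [show g = 1 from hle hg]; exact one_mem _
    have h := hc.tower.generated
    rw [hl, Generated] at h
    exact (List.isChain_append.mp h).1
  have hlM : l = (pre ++ [R]) ++ M :: rest := by rw [hl]; simp
  have hlen : l.length = pre.length + 2 + rest.length := by rw [hl]; simp; omega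
  rcases List.eq_nil_or_concat pre with rfl | ⟨pre', P, rfl⟩
  swap
  · rw [List.concat_eq_append] at hl hpre hlen
    have hl2 : l = pre' ++ P :: R :: M :: rest := by rw [hl]; simp
    have hlen' : l.length = pre'.length + 3 + rest.length := by rw [hl]; simp; omega
    by_cases hA : ∃ x ∈ P.1, ∃ c ∈ M.1 ⊓ centralizer ({a} : Set Γ), ⁅x, c⁆ ∉ Kr (Cl a (M :: rest))
    · obtain ⟨l', h1, h2, h3, h4⟩ := join hc (mid := [R]) (show l = pre' ++ P :: ([R] ++ M :: rest) from hl2) hpre hA
      exact ⟨l', h1, h2, h3, by omega⟩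
    push Not at hA
    obtain ⟨hCR, hY⟩ := fixed_layer hc hl2 (fun A hA => hpre A (List.mem_append_left _ hA))
      (hpre P (by simp)) hgenA hA
    rcases List.eq_nil_or_concat pre' with rfl | ⟨pre'', Y, rfl⟩
    · refine ⟨Cl a (R :: M :: rest), layers_cl (hc.layers_suffix hl), hCR, cl_le fun A hA =>
        hc.tower.le A (by rw [hl]; exact List.mem_append_right _ hA), ?_⟩
      simp [Cl, hl]
    · rw [List.concat_eq_append] at hl2 hpre hlen'
      obtain ⟨l', h1, h2, h3, h4⟩ := join hc (pre := pre'') (Y := Y) (mid := [P]) (C := R) (post := M :: rest)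
        (by rw [hl2]; simp) (fun A hA => hpre A (List.mem_append_left _ hA))
        (hY pre'' Y List.concat_eq_append)
      refine ⟨l', h1, h2, h3, ?_⟩
      simp at h4 hlen' ⊢
      omega
  -- the moved layer is the top one
  rw [List.nil_append] at hl hlM
  by_cases hCM : M.1 ⊓ centralizer ({a} : Set Γ) ≤ Kr (Cl a (M :: rest))
  swap
  · refine ⟨Cl a (M :: rest), layers_cl (hc.layers_suffix hlM), hCM,
      cl_le fun A hA => hc.tower.le A (by rw [hlM]; exact List.mem_append_right _ hA), ?_⟩
    simp [Cl, hl]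
  rcases rest with _ | ⟨N, rest⟩
  · exact ⟨[], ⟨by simp, by simp, List.Pairwise.nil, List.isChain_nil⟩, trivial, by simp, by simp [hl]⟩
  have hlR : l = [] ++ R :: M :: N :: rest := hl
  have hlN : l = [R, M] ++ N :: rest := hl
  by_cases hCN : N.1 ⊓ centralizer ({a} : Set Γ) ≤ Kr (Cl a (N :: rest))
  swap
  · refine ⟨Cl a (N :: rest), layers_cl (hc.layers_suffix hlN), hCN,
      cl_le fun A hA => hc.tower.le A (by rw [hlN]; exact List.mem_append_right _ hA), ?_⟩
    simp [Cl, hl]
  exfalso
  haveI := Fact.mk (hc.prime_of hlM)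
  haveI := Fact.mk (hc.prime_of hlN)
  have hlay : Layers (R :: M :: N :: rest) := hc.layers_suffix hlR
  have hRM : R.2 ≠ M.2 := (List.isChain_cons_cons.mp hlay.adj).1
  have hMN : M.2 ≠ N.2 := (List.isChain_cons_cons.mp hlay.tail.adj).1
  have hgen : Generated (R :: M :: N :: rest) := by
    have h := hc.tower.generated
    rwa [hl] at h
  have hgenR : ⁅M.1, R.1⁆ = M.1 := (List.isChain_cons_cons.mp hgen).1
  have hgenM : ⁅N.1, M.1⁆ = N.1 := (List.isChain_cons_cons.mp hgen.tail).1
  have haR := hc.normAll_a hlR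
  let KM := AlgebraicClosure (ZMod M.2)
  haveI : CharP KM M.2 := charP_of_injective_algebraMap (algebraMap (ZMod M.2) KM).injective M.2
  obtain ⟨Ts, Good, hF⟩ := exists_frame hc (N :: rest) [R] M hlM KM
  have hRn : ∀ g ∈ R.1, NormAll g (M :: N :: rest) := fun g hg => (hc.normAll_self hlR hg).tail
  have hWM : ∀ w ∈ Wl KM M (N :: rest), conjFun a w = w → w = 0 := by
    intro w hw hwa
    refine fixed_group_zero (hc.bl_le hlM) (fun g hg => hRn g hg M List.mem_cons_self)
      (by rw [hgenR]; exact le_sup_left) hw fun g hg => ?_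
    have h := hF.master hc.prime hc.pow (hc.castK hlM KM) haR.tail (hc.prime_of hlR) hRM (hc.prime_ne hlR)
      (hc.pgroup_of hlR) hRn (haR R List.mem_cons_self) hgenA.ge 1 (fun w _ => rfl) (fun e _ w _ => rfl)
      (fun T hT hg t ht => hF.orbSum_eq_zero hc.pow haR.tail (hc.coprime_of hlM) hCM hT hg ht) w hw g hg
    rw [Module.End.one_apply, orbSum_fixed _ r hwa, map_smul] at h
    exact smul_right_injective _ (hc.castK hlM KM) h
  have hR2 : R.2 = 2 := by
    by_contra h2
    refine hR (commutator_zpowers_le (kr_normalized _ a haR) fun y hy => ?_)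
    refine (hc.mem_kr_iff_fixes (K := KM) hlR (comm_mem_of_normalizes (haR R List.mem_cons_self) hy)).mpr ?_
    refine shult hc.prime hc.pow (hc.castK hlM KM) (hc.prime_of hlR) h2 (hc.prime_ne hlR) (fun h0 => ?_) R.1
      (hc.pgroup_of hlR) (haR R List.mem_cons_self) _ (fun g hg => wl_stable (hRn g hg)) (wl_stable haR.tail) hWM
      y hy
    rw [CharP.cast_eq_zero_iff KM M.2] at h0
    exact hRM ((Nat.prime_dvd_prime_iff_eq (hc.prime_of hlM) (hc.prime_of hlR)).mp h0).symm
  have hM2 : M.2 ≠ 2 := fun h => hRM (hR2.trans h.symm)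
  have hMp := hc.pgroup_of hlM
  have hMn : ∀ g ∈ M.1, NormAll g (M :: N :: rest) := fun g hg => hc.normAll_self hlM hg
  have haz : zpowers a ≤ normalizer ((M.1 : Subgroup Γ) : Set Γ) :=
    zpowers_le.mpr (haR.tail M List.mem_cons_self)
  set E := ⁅M.1, zpowers a⁆
  have hEM : E ≤ M.1 := CfsgLib.commutator_le_of_le_normalizer haz
  have hME : E ⊔ Kr (M :: N :: rest) = M.1 := by
    refine fr_nongenerating (sup_le hEM (kr_le _ _)) ?_
    rw [sup_assoc]
    by_contra hcon
    set B' := E ⊔ Bl M (N :: rest)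
    have hB'M : B' ≤ M.1 := sup_le hEM (hc.bl_le hlM)
    have hfrB : Fr M.1 ≤ B' := le_sup_right.trans le_sup_right
    obtain ⟨z, hz, hzB⟩ := SetLike.not_le_iff_exists.mp hcon
    obtain ⟨f, hf, hfz⟩ := exists_secDual_ne_zero (K := KM) hB'M hMp hfrB
      (le_normalizer_of_comm_mem hB'M fun x hx y hy => hfrB (comm_mem_fr hMp hx hy)) hz hzB
    refine hfz ?_
    rw [hWM f (secDual_anti le_sup_right hf) ?_]
    · rfl
    funext y
    by_cases hy : y ∈ M.1
    · rw [conjFun_sub (haz (mem_zpowers a)) hy hf, hf.2.2 _ (mem_sup_left (by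
        rw [← commutatorElement_inv]
        exact inv_mem (Subgroup.commutator_mem_commutator hy (inv_mem (mem_zpowers a))))), zero_add]
    · rw [hf.1 y hy]
      refine hf.1 _ fun h' => hy ?_
      simpa [mul_assoc] using conj_mem_of_mem_normalizer (haz (mem_zpowers a)) h'
  let KN := AlgebraicClosure (ZMod N.2)
  haveI : CharP KN N.2 := charP_of_injective_algebraMap (algebraMap (ZMod N.2) KN).injective N.2
  obtain ⟨TsN, GoodN, hFN⟩ := exists_frame hc rest [R, M] N hlN KN
  have hlM' : l = [R] ++ M :: N :: rest := hlM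
  have hWN : ∀ w ∈ Wl KN N rest, conjFun a w = w → w = 0 := by
    intro w hw hwa
    refine fixed_group_zero (hc.bl_le hlN) (fun g hg => (hMn g hg).tail N List.mem_cons_self)
      (by rw [hgenM]; exact le_sup_left) hw fun g hg => ?_
    have hEfix : ∀ e ∈ E, conjFun e w = w := fun e he => by
      have h := hFN.master hc.prime hc.pow (hc.castK hlN KN) haR.tail.tail (hc.prime_of hlM) hMN (hc.prime_ne hlM)
        (hMp.to_le hEM) (fun g hg => (hMn g (hEM hg)).tail)
        (mem_normalizer_commutator (haR.tail M List.mem_cons_self) (le_normalizer (mem_zpowers a)))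
        (CfsgLib.coprime_commutator_commutator haz (hc.coprime_of hlM) (Or.inl (isSolvable_zpowers a))).ge 1
        (fun w _ => rfl) (fun e _ w _ => rfl)
        (fun T hT hg t ht => hFN.orbSum_eq_zero hc.pow haR.tail.tail (hc.coprime_of hlN) hCN hT hg ht) w hw e he
      rw [Module.End.one_apply, orbSum_fixed _ r hwa, map_smul] at h
      exact smul_right_injective _ (hc.castK hlN KN) h
    let S : Subgroup Γ := fixW conjFun (Submodule.span KN {w})
    have hspan : ∀ g, conjFun g w = w → g ∈ S := fun g h v hv => by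
      obtain ⟨c, rfl⟩ := Submodule.mem_span_singleton.mp hv
      rw [map_smul, h]
    have hS : E ⊔ Kr (M :: N :: rest) ≤ S := sup_le (fun e he => hspan e (hEfix e he)) fun k hk =>
      hspan k ((hc.mem_kr_iff_fixes (K := KN) hlM' (kr_le _ _ hk)).mp hk w hw)
    exact hS (hME.ge hg) w (Submodule.mem_span_singleton_self w)
  refine hc.ne_kr hlM' (le_trans hME.ge (sup_le ?_ le_rfl))
  refine commutator_zpowers_le (kr_normalized _ a haR.tail) fun y hy => ?_
  refine (hc.mem_kr_iff_fixes (K := KN) hlM' (comm_mem_of_normalizes (haR.tail M List.mem_cons_self) hy)).mpr ?_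
  refine shult hc.prime hc.pow (hc.castK hlN KN) (hc.prime_of hlM) hM2 (hc.prime_ne hlM) (fun h0 => ?_) M.1
    hMp (haR.tail M List.mem_cons_self) _ (fun g hg => wl_stable (hMn g hg).tail) (wl_stable haR.tail.tail) hWN
    y hy
  rw [CharP.cast_eq_zero_iff KN N.2] at h0
  exact hMN ((Nat.prime_dvd_prime_iff_eq (hc.prime_of hlN) (hc.prime_of hlM)).mp h0).symm

end CfsgLib.Turull
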