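import Cfsg.Agent.Lib.Turull.Exist
import Cfsg.Agent.Lib.Turull.Main

/-!
The Fitting length of a solvable group exceeds that of the fixed points of a coprime automorphism of
prime order by at most two.
-/

set_option autoImplicit false

namespace CfsgLib.Turull

open Subgroup CfsgLib.FFLength

/-- Turull's bound, in terms of iterated residuals. -/
theorem resIter_two_more {G : Type*} [Group G] [Finite G] (hG : Group.IsSolvable G) (σ : MulAut G) (r : ℕ)
    (hr : r.Prime) (hσ : orderOf σ = r) (hcop : ¬ r ∣ Nat.card G) (C : Subgroup G)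
    (hC : ∀ g : G, g ∈ C ↔ σ g = g) (n : ℕ) (hn : resIter n (⊤ : Subgroup C) = ⊥) :
    resIter (n + 2) (⊤ : Subgroup G) = ⊥ := by
  haveI : Finite (MulAut G) := Finite.of_injective (fun e : MulAut G => (e : G → G)) DFunLike.coe_injective
  let φ : zpowers σ →* MulAut G := (zpowers σ).subtype
  haveI : Finite (SemidirectProduct G (zpowers σ) φ) := Finite.of_equiv _ SemidirectProduct.equivProd.symm
  let ι : G →* SemidirectProduct G (zpowers σ) φ := SemidirectProduct.inl
  have hι : Function.Injective ι := SemidirectProduct.inl_injective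
  set X := ι.range with hX
  haveI : X.Normal := by
    rw [hX, SemidirectProduct.range_inl_eq_ker_rightHom]
    infer_instance
  let a : SemidirectProduct G (zpowers σ) φ := SemidirectProduct.inr ⟨σ, mem_zpowers σ⟩
  have har : a ^ r = 1 := by
    rw [← map_pow]
    convert map_one (SemidirectProduct.inr : zpowers σ →* SemidirectProduct G (zpowers σ) φ) using 2
    exact Subtype.ext (by simp [← hσ, pow_orderOf_eq_one])
  have hcardX : Nat.card X = Nat.card G := by
    rw [hX, MonoidHom.range_eq_map, Subgroup.card_map_of_injective hι, Subgroup.card_top]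
  have hcopX : (Nat.card (zpowers a)).Coprime (Nat.card X) := by
    rw [hcardX, Nat.card_zpowers]
    exact Nat.Coprime.coprime_dvd_left (orderOf_dvd_of_pow_eq_one har) ((hr.coprime_iff_not_dvd).mpr hcop)
  -- the fixed points
  have hCX : C.map ι = X ⊓ centralizer ({a} : Set (SemidirectProduct G (zpowers σ) φ)) := by
    have key : ∀ g : G, ι g * a = a * ι g ↔ σ g = g := fun g => by
      have h : ι (σ g) = a * ι g * a⁻¹ := by
        rw [← map_inv]
        exact SemidirectProduct.inl_aut (φ := φ) ⟨σ, mem_zpowers σ⟩ g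
      constructor
      · intro h1
        exact hι (by rw [h, ← h1, mul_inv_cancel_right])
      · intro h1
        rw [h1] at h
        conv_lhs => rw [h, inv_mul_cancel_right]
    refine le_antisymm ?_ fun x hx => ?_
    · rintro _ ⟨g, hg, rfl⟩
      exact Subgroup.mem_inf.mpr ⟨⟨g, rfl⟩, mem_centralizer_singleton_iff.mpr ((key g).mpr ((hC g).mp hg))⟩
    · obtain ⟨g, rfl⟩ := (Subgroup.mem_inf.mp hx).1
      exact ⟨g, (hC g).mpr ((key g).mp (mem_centralizer_singleton_iff.mp (Subgroup.mem_inf.mp hx).2)), rfl⟩
  have hnc : resIter n (X ⊓ centralizer ({a} : Set (SemidirectProduct G (zpowers σ) φ))) = ⊥ := by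
    rw [← hCX, ← resIter_map, resIter_subgroup, hn, Subgroup.map_bot, Subgroup.map_bot]
  have hmain : resIter (n + 2) X = ⊥ := by
    by_contra hne
    obtain ⟨l, hl, hlen, halive, hmem, -⟩ := exists_tower (n + 2) a X
      (Group.isSolvable_of_surjective (f := ι.rangeRestrict) ι.rangeRestrict_surjective) hcopX hne
    obtain ⟨l₁, hl₁, hlen₁⟩ := exists_minTower (a := a)
      ⟨hl, halive, fun P hP => (hmem P hP).1, fun P hP => (hmem P hP).2⟩
    obtain ⟨l', hl', ha', hle', hlen'⟩ :=
      exists_fixed_tower (⟨hl₁, hr, har, by rw [hcardX]; exact hcop⟩ : Ctx a r X l₁)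
    obtain ⟨P, t, rfl⟩ : ∃ P t, l' = P :: t := List.exists_cons_of_length_pos (by omega)
    refine resIter_ne_bot t P 0 hl' (hle' P List.mem_cons_self) (fun Q hQ => hle' Q (List.mem_cons_of_mem _ hQ))
      ha' ?_
    have hanti : ∀ S : Subgroup (SemidirectProduct G (zpowers σ) φ), ∀ d, resIter (n + d) S ≤ resIter n S := by
      intro S d
      induction d with
      | zero => rfl
      | succ d ih => exact (res_le _).trans ih
    obtain ⟨d, hd⟩ : ∃ d, 0 + t.length = n + d := ⟨t.length - n, by simp at hlen' ⊢; omega⟩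
    rw [hd]
    exact le_bot_iff.mp ((hanti _ d).trans hnc.le)
  rw [hX, MonoidHom.range_eq_map, ← resIter_map] at hmain
  exact (Subgroup.map_eq_bot_iff_of_injective _ hι).mp hmain

end CfsgLib.Turull
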