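import Cfsg.Agent.Lib.FittingHeight.Grading
import Cfsg.Agent.Lib.Turull.Tower

/-!
Invariant subspaces of a representation, sums over a cyclic group and weight spaces of a group acting
through an abelian quotient.
-/

set_option autoImplicit false

namespace CfsgLib.Turull

open Subgroup Finset
open scoped commutatorElement

universe u v w

variable {H : Type u} [Group H] {K : Type v} [Field K] {V : Type w} [AddCommGroup V] [Module K V]

theorem rho_inv_cancel (ρ : H →* Module.End K V) (g : H) (v : V) : ρ g⁻¹ (ρ g v) = v := by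
  rw [← Module.End.mul_apply, ← map_mul, inv_mul_cancel, map_one, Module.End.one_apply]

theorem rho_cancel_inv (ρ : H →* Module.End K V) (g : H) (v : V) : ρ g (ρ g⁻¹ v) = v := by
  rw [← Module.End.mul_apply, ← map_mul, mul_inv_cancel, map_one, Module.End.one_apply]

theorem rho_mul (ρ : H →* Module.End K V) (g h : H) (v : V) : ρ (g * h) v = ρ g (ρ h v) := by
  rw [map_mul, Module.End.mul_apply]

/-- The elements preserving a subspace. -/
def stabW (ρ : H →* Module.End K V) (W : Submodule K V) : Subgroup H where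
  carrier := {g | (∀ w ∈ W, ρ g w ∈ W) ∧ ∀ w ∈ W, ρ g⁻¹ w ∈ W}
  one_mem' := ⟨fun w hw => by simpa using hw, fun w hw => by simpa using hw⟩
  mul_mem' := by
    rintro g h ⟨hg, hg'⟩ ⟨hh, hh'⟩
    exact ⟨fun w hw => by rw [rho_mul]; exact hg _ (hh w hw),
      fun w hw => by rw [mul_inv_rev, rho_mul]; exact hh' _ (hg' w hw)⟩
  inv_mem' := by
    rintro g ⟨hg, hg'⟩
    exact ⟨hg', fun w hw => by rw [inv_inv]; exact hg w hw⟩

/-- The elements fixing a subspace pointwise. -/
def fixW (ρ : H →* Module.End K V) (W : Submodule K V) : Subgroup H where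
  carrier := {g | ∀ w ∈ W, ρ g w = w}
  one_mem' := fun w _ => by simp
  mul_mem' := fun {g h} hg hh w hw => by rw [rho_mul, hh w hw, hg w hw]
  inv_mem' := fun {g} hg w hw => by
    conv_lhs => rw [← hg w hw]
    exact rho_inv_cancel ρ g w

theorem mem_fixW {ρ : H →* Module.End K V} {W : Submodule K V} {g : H} : g ∈ fixW ρ W ↔ ∀ w ∈ W, ρ g w = w :=
  Iff.rfl

theorem stabW_le_normalizer_fixW (ρ : H →* Module.End K V) (W : Submodule K V) :
    stabW ρ W ≤ normalizer (fixW ρ W : Set H) := fun g hg => by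
  refine mem_normalizer_of_conj (fun x hx w hw => ?_) fun x hx w hw => ?_
  · rw [rho_mul, rho_mul, hx _ (hg.2 w hw), rho_cancel_inv]
  · rw [inv_inv, rho_mul, rho_mul, hx _ (hg.1 w hw), rho_inv_cancel]

/-- The representation on an invariant subspace. -/
def restrW (ρ : H →* Module.End K V) (W : Submodule K V) : stabW ρ W →* Module.End K W where
  toFun g := (ρ g).restrict g.2.1
  map_one' := LinearMap.ext fun w => Subtype.ext (by simp)
  map_mul' g h := LinearMap.ext fun w => Subtype.ext (rho_mul ρ g h w)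

theorem restrW_apply (ρ : H →* Module.End K V) (W : Submodule K V) (g : stabW ρ W) (w : W) :
    (restrW ρ W g w : V) = ρ g w := rfl

/-- The sum over the powers of an element. -/
noncomputable def orbSum (ρ : H →* Module.End K V) (a : H) (r : ℕ) : Module.End K V :=
  ∑ i ∈ range r, ρ (a ^ i)

theorem orbSum_apply (ρ : H →* Module.End K V) (a : H) (r : ℕ) (v : V) :
    orbSum ρ a r v = ∑ i ∈ range r, ρ (a ^ i) v := by
  simp [orbSum]

theorem orbSum_fixed (ρ : H →* Module.End K V) {a : H} (r : ℕ) {v : V} (hv : ρ a v = v) :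
    orbSum ρ a r v = (r : K) • v := by
  have h : ∀ i : ℕ, ρ (a ^ i) v = v := by
    intro i
    induction i with
    | zero => simp
    | succ i ih => rw [pow_succ, rho_mul, hv, ih]
  rw [orbSum_apply, Finset.sum_congr rfl fun i _ => h i, Finset.sum_const, card_range, Nat.cast_smul_eq_nsmul]

theorem rho_orbSum (ρ : H →* Module.End K V) {a : H} {r : ℕ} (ha : a ^ r = 1) (v : V) :
    ρ a (orbSum ρ a r v) = orbSum ρ a r v := by
  have h1 := sum_range_succ' (fun i => ρ (a ^ i) v) r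
  rw [sum_range_succ, ha, pow_zero, add_left_inj] at h1
  rw [orbSum_apply, map_sum, Finset.sum_congr rfl fun i _ => (rho_mul ρ a (a ^ i) v).symm]
  simp only [← pow_succ']
  exact h1.symm

theorem orbSum_rho (ρ : H →* Module.End K V) {a g : H} (hg : Commute g a) (r : ℕ) (v : V) :
    orbSum ρ a r (ρ g v) = ρ g (orbSum ρ a r v) := by
  rw [orbSum_apply, orbSum_apply, map_sum]
  refine Finset.sum_congr rfl fun i _ => ?_
  rw [← rho_mul, ← rho_mul, (hg.pow_right i).eq]

theorem orbSum_mem (ρ : H →* Module.End K V) {a : H} (r : ℕ) {W : Submodule K V} (ha : a ∈ stabW ρ W) {v : V}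
    (hv : v ∈ W) : orbSum ρ a r v ∈ W := by
  rw [orbSum_apply]
  exact W.sum_mem fun i _ => ((stabW ρ W).pow_mem ha i).1 v hv

/-- A function that is a character of `Z` and vanishes outside. -/
structure IsChar (Z : Subgroup H) (μ : H → K) : Prop where
  one : μ 1 = 1
  mul : ∀ x ∈ Z, ∀ y ∈ Z, μ (x * y) = μ x * μ y
  out : ∀ x ∉ Z, μ x = 0

theorem IsChar.mul_inv {Z : Subgroup H} {μ : H → K} (h : IsChar Z μ) {x : H} (hx : x ∈ Z) : μ x⁻¹ * μ x = 1 := by
  rw [← h.mul _ (Z.inv_mem hx) x hx, inv_mul_cancel, h.one]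

theorem IsChar.ne_zero {Z : Subgroup H} {μ : H → K} (h : IsChar Z μ) {x : H} (hx : x ∈ Z) : μ x ≠ 0 := fun h0 => by
  have := h.mul_inv hx
  rw [h0, mul_zero] at this
  exact zero_ne_one this

theorem IsChar.inv {Z : Subgroup H} {μ : H → K} (h : IsChar Z μ) {x : H} (hx : x ∈ Z) : μ x⁻¹ = (μ x)⁻¹ :=
  eq_inv_of_mul_eq_one_left (h.mul_inv hx)

/-- The conjugate of a function. -/
def conjW (g : H) (μ : H → K) : H → K := fun z => μ (g⁻¹ * z * g)

theorem conjW_mul (g h : H) (μ : H → K) : conjW (g * h) μ = conjW g (conjW h μ) := by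
  funext z
  simp [conjW, mul_assoc]

theorem conjW_one (μ : H → K) : conjW 1 μ = μ := by
  funext z
  simp [conjW]

theorem conjW_inv {g : H} {μ : H → K} (h : conjW g μ = μ) : conjW g⁻¹ μ = μ := by
  conv_lhs => rw [← h, ← conjW_mul, inv_mul_cancel, conjW_one]

theorem conjW_pow {g : H} {μ : H → K} (h : conjW g μ = μ) : ∀ i : ℕ, conjW (g ^ i) μ = μ
  | 0 => by rw [pow_zero, conjW_one]
  | i + 1 => by rw [pow_succ, conjW_mul, h, conjW_pow h i]

theorem IsChar.conj {Z : Subgroup H} {μ : H → K} (h : IsChar Z μ) {g : H} (hg : g ∈ normalizer (Z : Set H)) :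
    IsChar Z (conjW g μ) where
  one := by simp [conjW, h.one]
  mul x hx y hy := by
    have hx' : g⁻¹ * x * g ∈ Z := by simpa using conj_mem_of_mem_normalizer (inv_mem hg) hx
    have hy' : g⁻¹ * y * g ∈ Z := by simpa using conj_mem_of_mem_normalizer (inv_mem hg) hy
    show μ (g⁻¹ * (x * y) * g) = μ (g⁻¹ * x * g) * μ (g⁻¹ * y * g)
    rw [← h.mul _ hx' _ hy']
    congr 1
    group
  out x hx := h.out _ fun h' => hx (by
    have := conj_mem_of_mem_normalizer hg h'
    simpa [mul_assoc] using this)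

/-- The vectors on which `Z` acts by a given function. -/
def wtS (ρ : H →* Module.End K V) (Z : Subgroup H) (μ : H → K) : Submodule K V where
  carrier := {w | ∀ z ∈ Z, ρ z w = μ z • w}
  zero_mem' := fun z _ => by simp
  add_mem' := fun {u v} hu hv z hz => by rw [map_add, hu z hz, hv z hz, smul_add]
  smul_mem' := fun c w hw z hz => by rw [map_smul, hw z hz, smul_comm]

theorem rho_mem_wtS {ρ : H →* Module.End K V} {Z : Subgroup H} {μ : H → K} {g : H}
    (hg : g ∈ normalizer (Z : Set H)) {w : V} (hw : w ∈ wtS ρ Z μ) : ρ g w ∈ wtS ρ Z (conjW g μ) := by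
  intro z hz
  have hz' : g⁻¹ * z * g ∈ Z := by simpa using conj_mem_of_mem_normalizer (inv_mem hg) hz
  rw [← rho_mul, show z * g = g * (g⁻¹ * z * g) by group, rho_mul, hw _ hz', map_smul]
  rfl

variable [Finite H]

/-- The projection to a weight space. -/
noncomputable def wtProj (ρ : H →* Module.End K V) (Z : Subgroup H) (μ : H → K) : Module.End K V :=
  letI := Fintype.ofFinite Z
  (Nat.card Z : K)⁻¹ • ∑ z : Z, (μ z)⁻¹ • ρ z

theorem wtProj_apply (ρ : H →* Module.End K V) (Z : Subgroup H) [Fintype Z] (μ : H → K) (w : V) :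
    wtProj ρ Z μ w = (Nat.card Z : K)⁻¹ • ∑ z : Z, (μ z)⁻¹ • ρ z w := by
  have h : wtProj ρ Z μ = (Nat.card Z : K)⁻¹ • ∑ z : Z, (μ z)⁻¹ • ρ z := by
    unfold wtProj
    congr
    exact Subsingleton.elim _ _
  rw [h, LinearMap.smul_apply, LinearMap.sum_apply]
  simp only [LinearMap.smul_apply]

theorem wtProj_mem (ρ : H →* Module.End K V) {Z : Subgroup H} {μ : H → K} (hμ : IsChar Z μ) (w : V) :
    wtProj ρ Z μ w ∈ wtS ρ Z μ := by
  haveI := Fintype.ofFinite Z
  intro y hy
  rw [wtProj_apply, map_smul, map_sum, smul_comm (μ y)]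
  congr 1
  rw [Finset.smul_sum]
  refine Fintype.sum_equiv (Equiv.mulLeft ⟨y, hy⟩) _ _ fun z => ?_
  simp only [Equiv.coe_mulLeft, map_smul, Subgroup.coe_mul, smul_smul]
  rw [rho_mul, hμ.mul y hy z z.2, mul_inv, ← mul_assoc, mul_inv_cancel₀ (hμ.ne_zero hy), one_mul]

theorem wtProj_stable (ρ : H →* Module.End K V) {Z : Subgroup H} {μ : H → K} {W : Submodule K V}
    (hZ : Z ≤ stabW ρ W) {w : V} (hw : w ∈ W) : wtProj ρ Z μ w ∈ W := by
  haveI := Fintype.ofFinite Z
  rw [wtProj_apply]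
  exact W.smul_mem _ (W.sum_mem fun z _ => W.smul_mem _ ((hZ z.2).1 w hw))

theorem wtProj_eq (ρ : H →* Module.End K V) {Z : Subgroup H} {μ : H → K} (hμ : IsChar Z μ)
    (hK : (Nat.card Z : K) ≠ 0) {w : V} (hw : w ∈ wtS ρ Z μ) : wtProj ρ Z μ w = w := by
  haveI := Fintype.ofFinite Z
  rw [wtProj_apply, Finset.sum_congr rfl (fun (z : Z) _ => show (μ z)⁻¹ • ρ z w = w by
    rw [hw z z.2, smul_smul, inv_mul_cancel₀ (hμ.ne_zero z.2), one_smul]), Finset.sum_const, Finset.card_univ,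
    ← Nat.card_eq_fintype_card, ← Nat.cast_smul_eq_nsmul K, smul_smul, inv_mul_cancel₀ hK, one_smul]

theorem wtProj_eq_zero (ρ : H →* Module.End K V) {Z : Subgroup H} {μ ν : H → K} (hμ : IsChar Z μ) (hν : IsChar Z ν)
    (hne : μ ≠ ν) {w : V} (hw : w ∈ wtS ρ Z ν) : wtProj ρ Z μ w = 0 := by
  haveI := Fintype.ofFinite Z
  rw [wtProj_apply, Finset.sum_congr rfl (fun (z : Z) _ => show (μ z)⁻¹ • ρ z w = ((μ z)⁻¹ * ν z) • w by
    rw [hw z z.2, smul_smul]), ← Finset.sum_smul]
  let f : Z →* K :=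
    { toFun := fun z => (μ z)⁻¹ * ν z
      map_one' := by simp [hμ.one, hν.one]
      map_mul' := fun x y => by
        rw [Subgroup.coe_mul, hμ.mul _ x.2 _ y.2, hν.mul _ x.2 _ y.2, mul_inv]
        ring }
  have hf : f ≠ 1 := fun h => hne (funext fun x => by
    by_cases hx : x ∈ Z
    · have h1 : (μ x)⁻¹ * ν x = 1 := DFunLike.congr_fun h ⟨x, hx⟩
      have h2 := mul_inv_cancel₀ (hμ.ne_zero hx)
      calc μ x = μ x * ((μ x)⁻¹ * ν x) := by rw [h1, mul_one]
        _ = ν x := by rw [← mul_assoc, h2, one_mul]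
    · rw [hμ.out x hx, hν.out x hx])
  rw [show ∑ z : Z, (μ z)⁻¹ * ν z = 0 from sum_hom_units_eq_zero f hf, zero_smul, smul_zero]

theorem wtProj_comm (ρ : H →* Module.End K V) {Z : Subgroup H} {μ : H → K} {g : H}
    (hg : g ∈ normalizer (Z : Set H)) (hfix : conjW g μ = μ) (w : V) :
    wtProj ρ Z μ (ρ g w) = ρ g (wtProj ρ Z μ w) := by
  haveI := Fintype.ofFinite Z
  rw [wtProj_apply, wtProj_apply, map_smul, map_sum]
  congr 1
  refine (Fintype.sum_equiv
    { toFun := fun z : Z => (⟨g * z * g⁻¹, conj_mem_of_mem_normalizer hg z.2⟩ : Z)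
      invFun := fun z => ⟨g⁻¹ * z * g, by simpa using conj_mem_of_mem_normalizer (inv_mem hg) z.2⟩
      left_inv := fun z => Subtype.ext (by simp [mul_assoc])
      right_inv := fun z => Subtype.ext (by simp [mul_assoc]) } _ _ fun z => ?_).symm
  simp only [Equiv.coe_fn_mk, map_smul]
  have h1 : μ (g * (z : H) * g⁻¹) = μ z := by
    conv_lhs => rw [← hfix]
    simp [conjW, mul_assoc]
  rw [h1, ← rho_mul, ← rho_mul]
  congr 2
  group

variable [IsAlgClosed K] [FiniteDimensional K V]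

/-- An invariant subspace on which `Z` acts through an abelian quotient is the sum of its weight spaces. -/
theorem le_iSup_wtS (ρ : H →* Module.End K V) {Z : Subgroup H} {W : Submodule K V} (hZ : Z ≤ stabW ρ W)
    (hK : (Nat.card Z : K) ≠ 0) (hab : ∀ x ∈ Z, ∀ y ∈ Z, ⁅x, y⁆ ∈ fixW ρ W) :
    W ≤ ⨆ μ : {μ : H → K // IsChar Z μ}, W ⊓ wtS ρ Z μ := by
  classical
  let σ : Z →* (Module.End K W)ˣ := ((restrW ρ W).comp (Subgroup.inclusion hZ)).toHomUnits
  have hker : commutator Z ≤ σ.ker := by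
    rw [commutator_def, Subgroup.commutator_le]
    intro x _ y _
    rw [MonoidHom.mem_ker]
    exact Units.ext (LinearMap.ext fun w => Subtype.ext (hab x x.2 y y.2 w w.2))
  let φ : Abelianization Z →* Module.End K W := (Units.coeHom _).comp (QuotientGroup.lift (commutator Z) σ hker)
  have hφ : ∀ (z : Z) (w : W), (φ (Abelianization.of z) w : V) = ρ z w := fun z w => rfl
  haveI := Fintype.ofFinite (Abelianization Z)
  have hX : ((Fintype.card (Abelianization Z) : ℕ) : K) ≠ 0 := fun h => hK (by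
    obtain ⟨k, hk⟩ : Fintype.card (Abelianization Z) ∣ Nat.card Z := by
      rw [← Nat.card_eq_fintype_card]; exact Subgroup.card_quotient_dvd_card _
    rw [hk, Nat.cast_mul, h, zero_mul])
  haveI : NeZero ((Monoid.exponent (Abelianization Z) : ℕ) : K) := ⟨fun h => hX (by
    obtain ⟨k, hk⟩ : Monoid.exponent (Abelianization Z) ∣ Fintype.card (Abelianization Z) :=
      Monoid.exponent_dvd_of_forall_pow_eq_one fun g => pow_card_eq_one
    rw [hk, Nat.cast_mul, h, zero_mul])⟩
  haveI := Fintype.ofFinite (Abelianization Z →* Kˣ)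
  intro w hw
  have h1 := congrArg (fun x : W => (x : V)) (CfsgLib.FittingHeight.Grading.sum_proj hX φ ⟨w, hw⟩)
  simp only [Submodule.coe_sum] at h1
  rw [← h1]
  refine Submodule.sum_mem _ fun χ _ => ?_
  let μ : H → K := fun z => if hz : z ∈ Z then ((χ (Abelianization.of ⟨z, hz⟩) : Kˣ) : K) else 0
  have hμ : IsChar Z μ := by
    refine ⟨?_, fun x hx y hy => ?_, fun x hx => dif_neg hx⟩
    · simp only [μ, dif_pos Z.one_mem]
      rw [show (⟨1, Z.one_mem⟩ : Z) = 1 from rfl, map_one, map_one, Units.val_one]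
    · simp only [μ, dif_pos hx, dif_pos hy, dif_pos (Z.mul_mem hx hy)]
      rw [show (⟨x * y, Z.mul_mem hx hy⟩ : Z) = ⟨x, hx⟩ * ⟨y, hy⟩ from rfl, map_mul, map_mul, Units.val_mul]
  refine Submodule.mem_iSup_of_mem ⟨μ, hμ⟩ ⟨(CfsgLib.FittingHeight.Grading.proj φ χ ⟨w, hw⟩).2, fun z hz => ?_⟩
  have h2 := CfsgLib.FittingHeight.Grading.proj_mem φ χ ⟨w, hw⟩ (Abelianization.of ⟨z, hz⟩)
  show _ = μ z • _
  simp only [μ, dif_pos hz]
  exact congrArg (fun x : W => (x : V)) h2

/-- A nonzero invariant subspace has a weight. -/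
theorem exists_weight (ρ : H →* Module.End K V) {Z : Subgroup H} {W : Submodule K V} (hZ : Z ≤ stabW ρ W)
    (hK : (Nat.card Z : K) ≠ 0) (hab : ∀ x ∈ Z, ∀ y ∈ Z, ⁅x, y⁆ ∈ fixW ρ W) (hW : W ≠ ⊥) :
    ∃ μ : H → K, IsChar Z μ ∧ W ⊓ wtS ρ Z μ ≠ ⊥ := by
  by_contra h
  push Not at h
  exact hW (le_bot_iff.mp ((le_iSup_wtS ρ hZ hK hab).trans (iSup_le fun μ => (h μ.1 μ.2).le)))

end CfsgLib.Turull
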