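import Cfsg.Agent.Lib.Blocks.SemisimplePieces
import Cfsg.Agent.Lib.Turull.Weights
import Cfsg.Agent.Lib.Turull.Count

/-!
A group acting with scalar commutators and with nondegenerate commutator pairing modulo scalars: the elements
of the quotient give independent operators on every invariant subspace, and form a basis on an irreducible one.
-/

set_option autoImplicit false

namespace CfsgLib.Turull

open Subgroup Finset
open scoped commutatorElement

universe u v w

variable {H : Type u} [Group H] {K : Type v} [Field K] {V : Type w} [AddCommGroup V] [Module K V]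

theorem rho_ne_zero (ρ : H →* Module.End K V) [Nontrivial V] (g : H) : ρ g ≠ 0 := fun h => by
  have h1 : ρ g * ρ g⁻¹ = 1 := by rw [← map_mul, mul_inv_cancel, map_one]
  rw [h, zero_mul] at h1
  exact zero_ne_one h1

/-- The elements of `R` acting as scalars. -/
def Scal (ρ : H →* Module.End K V) (R : Subgroup H) : Subgroup H where
  carrier := {u | u ∈ R ∧ ∃ c : K, ρ u = c • 1}
  one_mem' := ⟨R.one_mem, 1, by rw [map_one, one_smul]⟩
  mul_mem' := by
    rintro u w ⟨hu, c, hc⟩ ⟨hw, d, hd⟩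
    exact ⟨R.mul_mem hu hw, c * d, by rw [map_mul, hc, hd, smul_mul_smul_comm, one_mul]⟩
  inv_mem' := by
    rintro u ⟨hu, c, hc⟩
    refine ⟨R.inv_mem hu, c⁻¹, ?_⟩
    have h1 : ρ u⁻¹ * ρ u = 1 := by rw [← map_mul, inv_mul_cancel, map_one]
    rw [hc, mul_smul_comm, mul_one] at h1
    rcases eq_or_ne c 0 with rfl | h0
    · rw [zero_smul] at h1
      rw [inv_zero, zero_smul, ← mul_one (ρ u⁻¹), ← h1, mul_zero]
    · rw [← h1, smul_smul, inv_mul_cancel₀ h0, one_smul]

theorem scal_le (ρ : H →* Module.End K V) (R : Subgroup H) : Scal ρ R ≤ R := fun _ h => h.1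

theorem mem_scal {ρ : H →* Module.End K V} {R : Subgroup H} {u : H} :
    u ∈ Scal ρ R ↔ u ∈ R ∧ ∃ c : K, ρ u = c • 1 := Iff.rfl

theorem conj_mem_scal {ρ : H →* Module.End K V} {R : Subgroup H} {g u : H} (hg : g ∈ normalizer (R : Set H))
    (hu : u ∈ Scal ρ R) : g * u * g⁻¹ ∈ Scal ρ R := by
  obtain ⟨hu, c, hc⟩ := hu
  refine ⟨conj_mem_of_mem_normalizer hg hu, c, ?_⟩
  rw [map_mul, map_mul, hc, mul_smul_comm, mul_one, smul_mul_assoc, ← map_mul, mul_inv_cancel, map_one]

theorem normalizer_le_scal (ρ : H →* Module.End K V) (R : Subgroup H) :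
    normalizer (R : Set H) ≤ normalizer (Scal ρ R : Set H) := fun _ hg =>
  mem_normalizer_of_conj (fun _ hx => conj_mem_scal hg hx) fun _ hx => conj_mem_scal (inv_mem hg) hx

/-- An element commutes with the scalars of `R` as far as the representation can see. -/
theorem rho_comm_scal {ρ : H →* Module.End K V} {R : Subgroup H} {u : H} (hu : u ∈ Scal ρ R) (g : H) :
    ρ ⁅g, u⁆ = 1 := by
  obtain ⟨-, c, hc⟩ := hu
  rw [commutatorElement_def, map_mul, map_mul, map_mul, hc, mul_smul_comm, mul_one, smul_mul_assoc, ← map_mul,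
    mul_inv_cancel, map_one, ← hc, ← map_mul, mul_inv_cancel, map_one]

/-- Scalar commutators with a nondegenerate pairing modulo scalars. -/
structure Heis (ρ : H →* Module.End K V) (R : Subgroup H) : Prop where
  cardK : (Nat.card R : K) ≠ 0
  comm : ∀ u ∈ R, ∀ w ∈ R, ∃ c : K, ρ ⁅u, w⁆ = c • 1
  nondeg : ∀ u ∈ R, (∀ w ∈ R, ρ ⁅u, w⁆ = 1) → u ∈ Scal ρ R

/-- The classes modulo scalars. -/
abbrev Cls (ρ : H →* Module.End K V) (R : Subgroup H) : Type u := ↥R ⧸ (Scal ρ R).subgroupOf R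

variable {ρ : H →* Module.End K V} {R : Subgroup H}

/-- A representative of a class. -/
noncomputable def rep (b : Cls ρ R) : H := ((b.out : R) : H)

/-- The class of an element. -/
def cl (ρ : H →* Module.End K V) {R : Subgroup H} {u : H} (hu : u ∈ R) : Cls ρ R :=
  QuotientGroup.mk (⟨u, hu⟩ : R)

theorem rep_mem (b : Cls ρ R) : rep b ∈ R := (b.out : R).2

theorem cl_rep (b : Cls ρ R) : cl ρ (rep_mem b) = b := QuotientGroup.out_eq' b

theorem cl_eq_cl_iff {u w : H} (hu : u ∈ R) (hw : w ∈ R) : cl ρ hu = cl ρ hw ↔ u⁻¹ * w ∈ Scal ρ R :=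
  (QuotientGroup.eq (s := (Scal ρ R).subgroupOf R)).trans Subgroup.mem_subgroupOf

theorem rep_cl {u : H} (hu : u ∈ R) : (rep (cl ρ hu))⁻¹ * u ∈ Scal ρ R :=
  (cl_eq_cl_iff (rep_mem _) hu).mp (cl_rep _)

theorem exists_smul_rep {u : H} (hu : u ∈ R) : ∃ c : K, ρ u = c • ρ (rep (cl ρ hu)) := by
  obtain ⟨-, c, hc⟩ := rep_cl (ρ := ρ) hu
  refine ⟨c, ?_⟩
  conv_lhs => rw [← mul_inv_cancel_left (rep (cl ρ hu)) u]
  rw [map_mul, hc, mul_smul_comm, mul_one]

/-- The span of the operators of `R`. -/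
def spanR (ρ : H →* Module.End K V) (R : Subgroup H) : Submodule K (Module.End K V) :=
  Submodule.span K (ρ '' R)

theorem rho_mem_spanR {u : H} (hu : u ∈ R) : ρ u ∈ spanR ρ R := Submodule.subset_span ⟨u, hu, rfl⟩

theorem one_mem_spanR : (1 : Module.End K V) ∈ spanR ρ R := by
  rw [← map_one ρ]
  exact rho_mem_spanR R.one_mem

theorem mul_mem_spanR {f g : Module.End K V} (hf : f ∈ spanR ρ R) (hg : g ∈ spanR ρ R) : f * g ∈ spanR ρ R := by
  induction hf using Submodule.span_induction with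
  | mem x hx =>
    obtain ⟨u, hu, rfl⟩ := hx
    induction hg using Submodule.span_induction with
    | mem y hy =>
      obtain ⟨w, hw, rfl⟩ := hy
      rw [← map_mul]
      exact rho_mem_spanR (R.mul_mem hu hw)
    | zero => rw [mul_zero]; exact zero_mem _
    | add y z _ _ hy hz => rw [mul_add]; exact add_mem hy hz
    | smul c y _ hy => rw [mul_smul_comm]; exact Submodule.smul_mem _ c hy
  | zero => rw [zero_mul]; exact zero_mem _
  | add y z _ _ hy hz => rw [add_mul]; exact add_mem hy hz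
  | smul c y _ hy => rw [smul_mul_assoc]; exact Submodule.smul_mem _ c hy

theorem pow_mem_spanR {f : Module.End K V} (hf : f ∈ spanR ρ R) : ∀ i : ℕ, f ^ i ∈ spanR ρ R
  | 0 => by rw [pow_zero]; exact one_mem_spanR
  | i + 1 => by rw [pow_succ]; exact mul_mem_spanR (pow_mem_spanR hf i) hf

theorem spanR_stable {W : Submodule K V} (hW : R ≤ stabW ρ W) {f : Module.End K V} (hf : f ∈ spanR ρ R) :
    ∀ w ∈ W, f w ∈ W := by
  induction hf using Submodule.span_induction with
  | mem x hx =>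
    obtain ⟨u, hu, rfl⟩ := hx
    exact (hW hu).1
  | zero => exact fun w _ => W.zero_mem
  | add y z _ _ hy hz => exact fun w hw => W.add_mem (hy w hw) (hz w hw)
  | smul c y _ hy => exact fun w hw => W.smul_mem c (hy w hw)

section

variable [Finite H]

theorem spanR_le : spanR ρ R ≤ Submodule.span K (Set.range fun b : Cls ρ R => ρ (rep b)) := by
  rw [spanR, Submodule.span_le]
  rintro _ ⟨u, hu, rfl⟩
  obtain ⟨c, hc⟩ := exists_smul_rep (ρ := ρ) hu
  rw [hc]
  exact Submodule.smul_mem _ _ (Submodule.subset_span ⟨_, rfl⟩)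

namespace Heis

variable (hH : Heis ρ R)
include hH

theorem conj_rho {w u : H} (hw : w ∈ R) (hu : u ∈ R) :
    ∃ c : K, ρ w * ρ u * ρ w⁻¹ = c • ρ u := by
  obtain ⟨c, hc⟩ := hH.comm w hw u hu
  refine ⟨c, ?_⟩
  rw [← map_mul, ← map_mul, show w * u * w⁻¹ = ⁅w, u⁆ * u by simp [commutatorElement_def], map_mul, hc,
    smul_mul_assoc, one_mul]

/-- Different classes are separated by the commutator pairing. -/
theorem separated [Nontrivial V] {b b' : Cls ρ R} (hne : b ≠ b') :
    ∃ w ∈ R, ∀ c c' : K, ρ w * ρ (rep b) * ρ w⁻¹ = c • ρ (rep b) →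
      ρ w * ρ (rep b') * ρ w⁻¹ = c' • ρ (rep b') → c ≠ c' := by
  set v := (rep b)⁻¹ * rep b'
  have hv : v ∈ R := R.mul_mem (R.inv_mem (rep_mem b)) (rep_mem b')
  have hvs : v ∉ Scal ρ R := fun h => hne (by rw [← cl_rep b, ← cl_rep b', cl_eq_cl_iff]; exact h)
  by_contra hcon
  push Not at hcon
  refine hvs (hH.nondeg v hv fun w hw => ?_)
  obtain ⟨c, c', h1, h2, rfl⟩ := hcon w hw
  have h3 : ρ w * ρ (rep b)⁻¹ * ρ w⁻¹ * (c • ρ (rep b)) = 1 := by
    rw [← h1, ← map_mul, ← map_mul, ← map_mul, ← map_mul, ← map_mul, ← map_one ρ]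
    congr 1
    group
  have h4 : c • (ρ w * ρ (rep b)⁻¹ * ρ w⁻¹) = ρ (rep b)⁻¹ := by
    have := congrArg (· * ρ (rep b)⁻¹) h3
    simp only [mul_smul_comm, smul_mul_assoc, mul_assoc, one_mul, ← map_mul, mul_inv_cancel] at this
    simpa only [map_mul, mul_one, map_one, mul_assoc] using this
  have h5 : ρ w * ρ v * ρ w⁻¹ = ρ v := by
    have e : ρ w * ρ v * ρ w⁻¹ = ρ w * ρ (rep b)⁻¹ * ρ w⁻¹ * (ρ w * ρ (rep b') * ρ w⁻¹) := by
      simp only [← map_mul, v]
      congr 1
      group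
    rw [e, h2, mul_smul_comm, ← smul_mul_assoc, h4, map_mul]
  have h6 : ρ ⁅v, w⁆ = ρ v * ρ (w * v⁻¹ * w⁻¹) := by
    rw [← map_mul]; congr 1; simp [commutatorElement_def, mul_assoc]
  rw [h6]
  conv_lhs => rw [← h5]
  rw [← map_mul, ← map_mul, ← map_mul, show w * v * w⁻¹ * (w * v⁻¹ * w⁻¹) = 1 by group, map_one]

/-- The classes give independent operators on a nonzero invariant subspace. -/
theorem coeff_eq_zero {W : Submodule K V} (hW : R ≤ stabW ρ W) (hW0 : W ≠ ⊥) {g : Cls ρ R → K}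
    (s : Finset (Cls ρ R)) (h : ∀ x ∈ W, (∑ b ∈ s, g b • ρ (rep b)) x = 0) : ∀ b ∈ s, g b = 0 := by
  classical
  haveI : Nontrivial V := by
    obtain ⟨x, hx, hx0⟩ := W.exists_mem_ne_zero_of_ne_bot hW0
    exact nontrivial_of_ne x 0 hx0
  induction s using Finset.induction_on generalizing g with
  | empty => simp
  | insert b₂ s hb₂ ih =>
    have hrest : ∀ b ∈ s, g b = 0 := fun b hb => by
      obtain ⟨w, hw, hne⟩ := hH.separated (b := b) (b' := b₂) (ne_of_mem_of_not_mem hb hb₂)
      choose c hc using fun d : Cls ρ R => hH.conj_rho hw (rep_mem d)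
      have h' := ih (g := fun d => g d * (c d - c b₂)) (fun x hx => ?_) b hb
      · exact (mul_eq_zero.mp h').resolve_right (sub_ne_zero.mpr (hne _ _ (hc b) (hc b₂)))
      have e : ∑ d ∈ s, (g d * (c d - c b₂)) • ρ (rep d) =
          ρ w * (∑ d ∈ insert b₂ s, g d • ρ (rep d)) * ρ w⁻¹ - c b₂ • ∑ d ∈ insert b₂ s, g d • ρ (rep d) := by
        rw [Finset.mul_sum, Finset.sum_mul, Finset.smul_sum, ← Finset.sum_sub_distrib, Finset.sum_insert hb₂]
        simp only [mul_smul_comm, smul_mul_assoc, hc, smul_smul, ← sub_smul]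
        rw [show g b₂ * c b₂ - c b₂ * g b₂ = 0 by ring, zero_smul, zero_add]
        refine Finset.sum_congr rfl fun d _ => ?_
        rw [mul_comm (c b₂), mul_sub]
      rw [e, LinearMap.sub_apply, LinearMap.smul_apply, h x hx, smul_zero, sub_zero, Module.End.mul_apply,
        Module.End.mul_apply, h _ ((hW hw).2 x hx), map_zero]
    intro b hb
    rcases Finset.mem_insert.mp hb with rfl | hb
    · obtain ⟨x, hx, hx0⟩ := W.exists_mem_ne_zero_of_ne_bot hW0
      have h1 := h x hx
      rw [Finset.sum_insert hb₂, Finset.sum_eq_zero (fun d hd => by rw [hrest d hd, zero_smul]), add_zero,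
        LinearMap.smul_apply] at h1
      refine (smul_eq_zero.mp h1).resolve_right fun h2 => hx0 ?_
      rw [← rho_inv_cancel ρ (rep b) x, h2, map_zero]
    · exact hrest b hb

/-- An operator from `R` vanishing on a nonzero invariant subspace vanishes. -/
theorem spanR_eq_zero {W : Submodule K V} (hW : R ≤ stabW ρ W) (hW0 : W ≠ ⊥) {f : Module.End K V}
    (hf : f ∈ spanR ρ R) (h : ∀ x ∈ W, f x = 0) : f = 0 := by
  haveI := Fintype.ofFinite (Cls ρ R)
  obtain ⟨g, rfl⟩ := (Submodule.mem_span_range_iff_exists_fun K).mp (spanR_le hf)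
  exact Finset.sum_eq_zero fun b hb => by rw [hH.coeff_eq_zero hW hW0 Finset.univ h b hb, zero_smul]

/-- The classes form a basis of the operators of an irreducible invariant subspace. -/
theorem exists_basis [IsAlgClosed K] [FiniteDimensional K V] {S : Submodule K V} (hS : R ≤ stabW ρ S)
    (hS0 : S ≠ ⊥) (hirr : ∀ W : Submodule K V, W ≤ S → W ≠ ⊥ → R ≤ stabW ρ W → W = S) :
    ∃ β : Module.Basis (Cls ρ R) K (Module.End K S),
      ∀ b, β b = restrW ρ S ⟨rep b, hS (rep_mem b)⟩ := by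
  haveI := Fintype.ofFinite (Cls ρ R)
  haveI : Nontrivial S := Submodule.nontrivial_iff_ne_bot.mpr hS0
  haveI := Fintype.ofFinite R
  let e₀ : Cls ρ R → Module.End K S := fun b => restrW ρ S ⟨rep b, hS (rep_mem b)⟩
  have hli : LinearIndependent K e₀ := by
    rw [Fintype.linearIndependent_iff]
    intro g hg b
    refine hH.coeff_eq_zero hS hS0 Finset.univ (fun x hx => ?_) b (Finset.mem_univ b)
    have h1 := congrArg Subtype.val (LinearMap.congr_fun hg ⟨x, hx⟩)
    simpa [e₀, restrW_apply, LinearMap.sum_apply] using h1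
  have hirr' : ∀ U : Submodule K S,
      (∀ g : R, ∀ u ∈ U, ((restrW ρ S).comp (Subgroup.inclusion hS)) g u ∈ U) → U = ⊥ ∨ U = ⊤ := by
    intro U hU
    by_cases hU0 : U = ⊥
    · exact Or.inl hU0
    refine Or.inr ?_
    have hmap : U.map S.subtype = S := by
      refine hirr _ (Submodule.map_subtype_le S U) ?_ fun g hg => ⟨?_, ?_⟩
      · intro h
        exact hU0 (Submodule.map_injective_of_injective S.injective_subtype (h.trans (Submodule.map_bot _).symm))
      · rintro _ ⟨u, hu, rfl⟩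
        exact ⟨_, hU ⟨g, hg⟩ u hu, rfl⟩
      · rintro _ ⟨u, hu, rfl⟩
        exact ⟨_, hU ⟨g⁻¹, R.inv_mem hg⟩ u hu, rfl⟩
    exact Submodule.map_injective_of_injective S.injective_subtype (hmap.trans (Submodule.map_subtype_top S).symm)
  have hspan : ⊤ ≤ Submodule.span K (Set.range e₀) := by
    rw [← Blocks.SemisimplePieces.span_range_eq_top ((restrW ρ S).comp (Subgroup.inclusion hS)) hirr',
      Submodule.span_le]
    rintro _ ⟨u, rfl⟩
    obtain ⟨c, hc⟩ := exists_smul_rep (ρ := ρ) u.2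
    rw [show (restrW ρ S).comp (Subgroup.inclusion hS) u = c • e₀ (cl ρ u.2) from
      LinearMap.ext fun x => Subtype.ext (LinearMap.congr_fun hc x)]
    exact Submodule.smul_mem _ _ (Submodule.subset_span ⟨_, rfl⟩)
  exact ⟨Module.Basis.mk hli hspan, fun b => Module.Basis.mk_apply hli hspan b⟩

theorem card_cls [IsAlgClosed K] [FiniteDimensional K V] {S : Submodule K V} (hS : R ≤ stabW ρ S)
    (hS0 : S ≠ ⊥) (hirr : ∀ W : Submodule K V, W ≤ S → W ≠ ⊥ → R ≤ stabW ρ W → W = S) :
    Nat.card (Cls ρ R) = Module.finrank K S ^ 2 := by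
  haveI := Fintype.ofFinite (Cls ρ R)
  obtain ⟨β, -⟩ := hH.exists_basis hS hS0 hirr
  rw [Nat.card_eq_fintype_card, ← Module.finrank_eq_card_basis β, Module.finrank_linearMap, sq]

end Heis

/-- The intertwiner of an element normalising `R`. -/
noncomputable def inter (ρ : H →* Module.End K V) (R : Subgroup H) (a : H) : Module.End K V :=
  letI := Fintype.ofFinite R
  ∑ u : R, ρ ⁅a, (u : H)⁆

theorem inter_eq (a : H) [Fintype R] : inter ρ R a = ∑ u : R, ρ ⁅a, (u : H)⁆ := by
  unfold inter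
  congr
  exact Subsingleton.elim _ _

theorem comm_mem_of_normalizes {a u : H} (ha : a ∈ normalizer (R : Set H)) (hu : u ∈ R) : ⁅a, u⁆ ∈ R := by
  rw [commutatorElement_def]
  exact R.mul_mem (conj_mem_of_mem_normalizer ha hu) (R.inv_mem hu)

theorem inter_mem_spanR {a : H} (ha : a ∈ normalizer (R : Set H)) : inter ρ R a ∈ spanR ρ R := by
  haveI := Fintype.ofFinite R
  rw [inter_eq]
  exact Submodule.sum_mem _ fun u _ => rho_mem_spanR (comm_mem_of_normalizes ha u.2)

theorem inter_mul_rho (a : H) {w : H} (hw : w ∈ R) :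
    inter ρ R a * ρ w = ρ (a * w * a⁻¹) * inter ρ R a := by
  haveI := Fintype.ofFinite R
  rw [inter_eq, Finset.sum_mul, Finset.mul_sum]
  refine (Fintype.sum_equiv (Equiv.mulLeft (⟨w, hw⟩ : R)) _ _ fun u => ?_).symm
  rw [Equiv.coe_mulLeft, Subgroup.coe_mul, ← map_mul, ← map_mul]
  congr 1
  simp [commutatorElement_def, mul_assoc]

theorem inter_comm {a x : H} (hx : x ∈ normalizer (R : Set H)) (hxa : Commute x a) :
    ρ x * inter ρ R a = inter ρ R a * ρ x := by
  haveI := Fintype.ofFinite R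
  rw [inter_eq, Finset.sum_mul, Finset.mul_sum]
  refine Fintype.sum_equiv
    { toFun := fun u : R => (⟨x * u * x⁻¹, conj_mem_of_mem_normalizer hx u.2⟩ : R)
      invFun := fun u => ⟨x⁻¹ * u * x, by simpa using conj_mem_of_mem_normalizer (inv_mem hx) u.2⟩
      left_inv := fun u => Subtype.ext (by simp [mul_assoc])
      right_inv := fun u => Subtype.ext (by simp [mul_assoc]) } _ _ fun u => ?_
  simp only [Equiv.coe_fn_mk]
  rw [← map_mul, ← map_mul]
  congr 1
  have ea : x⁻¹ * a = a * x⁻¹ := hxa.inv_left.eq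
  have ea' : x⁻¹ * a⁻¹ = a⁻¹ * x⁻¹ := hxa.inv_left.inv_right.eq
  have h1 : x * a * x⁻¹ = a := by rw [hxa.eq, mul_inv_cancel_right]
  have h2 : x * a⁻¹ * x⁻¹ = a⁻¹ := by rw [hxa.inv_right.eq, mul_inv_cancel_right]
  calc x * ⁅a, (u : H)⁆ = x * a * x⁻¹ * (x * u * x⁻¹) * (x * a⁻¹ * x⁻¹) * (x * u * x⁻¹)⁻¹ * x := by
        simp [commutatorElement_def, mul_assoc]
    _ = ⁅a, x * u * x⁻¹⁆ * x := by rw [h1, h2]; simp [commutatorElement_def]

theorem inter_injective (hH : Heis ρ R) [Nontrivial V] {a : H} (ha : a ∈ normalizer (R : Set H))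
    (hfpf : ∀ u ∈ R, ⁅a, u⁆ ∈ Scal ρ R → u ∈ Scal ρ R) : Function.Injective (inter ρ R a) := by
  classical
  haveI := Fintype.ofFinite R
  haveI := Fintype.ofFinite (Cls ρ R)
  rw [← LinearMap.ker_eq_bot]
  by_contra hne
  have hinv : R ≤ stabW ρ (LinearMap.ker (inter ρ R a)) := by
    have key : ∀ w ∈ R, ∀ x ∈ LinearMap.ker (inter ρ R a), ρ w x ∈ LinearMap.ker (inter ρ R a) := fun w hw x hx => by
      rw [LinearMap.mem_ker] at hx ⊢
      rw [← Module.End.mul_apply, inter_mul_rho a hw, Module.End.mul_apply, hx, map_zero]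
    exact fun w hw => ⟨key w hw, key _ (R.inv_mem hw)⟩
  have hT := hH.spanR_eq_zero hinv hne (inter_mem_spanR ha) fun x hx => hx
  choose c hc using fun u : R => exists_smul_rep (ρ := ρ) (comm_mem_of_normalizes ha u.2)
  let f : R → Cls ρ R := fun u => cl ρ (comm_mem_of_normalizes ha u.2)
  let g : Cls ρ R → K := fun b => ∑ u ∈ univ.filter (fun u => f u = b), c u
  have hsum : ∑ b, g b • ρ (rep b) = inter ρ R a := by
    rw [inter_eq, ← Finset.sum_fiberwise univ f (fun u => ρ ⁅a, (u : H)⁆)]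
    refine Finset.sum_congr rfl fun b _ => ?_
    rw [Finset.sum_smul]
    refine Finset.sum_congr rfl fun u hu => ?_
    rw [hc u, show cl ρ (comm_mem_of_normalizes ha u.2) = b from (Finset.mem_filter.mp hu).2]
  have hg := hH.coeff_eq_zero (W := ⊤) (fun u _ => ⟨fun _ _ => trivial, fun _ _ => trivial⟩) top_ne_bot
    Finset.univ (g := g) (fun x _ => by rw [hsum, hT]; rfl) (cl ρ R.one_mem) (Finset.mem_univ _)
  -- on the trivial class all coefficients are equal
  set b₀ := cl ρ R.one_mem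
  have hb₀ : rep b₀ ∈ Scal ρ R := by
    simpa using (Scal ρ R).inv_mem (rep_cl (ρ := ρ) R.one_mem)
  obtain ⟨-, c₀, hc₀⟩ := hb₀
  have hfib : ∀ u : R, f u = b₀ ↔ (u : H) ∈ Scal ρ R := fun u => by
    rw [show f u = b₀ ↔ _ from cl_eq_cl_iff (comm_mem_of_normalizes ha u.2) R.one_mem, mul_one, inv_mem_iff]
    refine ⟨hfpf u u.2, fun hu => ⟨comm_mem_of_normalizes ha u.2, 1, by rw [rho_comm_scal hu, one_smul]⟩⟩
  have hval : ∀ u ∈ univ.filter (fun u => f u = b₀), c u * c₀ = 1 := fun u hu => by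
    have h1 := hc u
    rw [show cl ρ (comm_mem_of_normalizes ha u.2) = b₀ from (Finset.mem_filter.mp hu).2, hc₀,
      rho_comm_scal ((hfib u).mp (Finset.mem_filter.mp hu).2), smul_smul] at h1
    have h2 : (c u * c₀ - 1) • (1 : Module.End K V) = 0 := by rw [sub_smul, one_smul, ← h1, sub_self]
    exact sub_eq_zero.mp ((smul_eq_zero.mp h2).resolve_right one_ne_zero)
  have h2 : g b₀ * c₀ = ((univ.filter fun u => f u = b₀).card : K) := by
    rw [Finset.sum_mul, Finset.sum_congr rfl hval, Finset.sum_const, nsmul_eq_mul, mul_one]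
  rw [hg, zero_mul] at h2
  have hcard : (univ.filter fun u => f u = b₀).card = Nat.card (Scal ρ R) := by
    rw [← Nat.card_congr (Subgroup.subgroupOfEquivOfLe (scal_le ρ R)).toEquiv, Nat.card_eq_fintype_card,
      Finset.filter_congr fun u _ => hfib u]
    exact (Fintype.card_subtype _).symm
  obtain ⟨k, hk⟩ := Subgroup.card_dvd_of_le (scal_le ρ R)
  exact hH.cardK (by rw [hk, Nat.cast_mul, ← hcard, ← h2, zero_mul])

/-- Conjugation on the classes. -/
noncomputable def conjC (ρ : H →* Module.End K V) (R : Subgroup H) (g : normalizer (R : Set H)) :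
    Equiv.Perm (Cls ρ R) :=
  Equiv.ofBijective (fun b => cl ρ (conj_mem_of_mem_normalizer g.2 (rep_mem b))) (by
    refine Finite.injective_iff_bijective.mp fun b b' h => ?_
    rw [cl_eq_cl_iff] at h
    have h1 := conj_mem_scal (inv_mem g.2) h
    rw [← cl_rep b, ← cl_rep b', cl_eq_cl_iff]
    simpa [mul_assoc] using h1)

theorem conjC_cl (g : normalizer (R : Set H)) {u : H} (hu : u ∈ R) :
    conjC ρ R g (cl ρ hu) = cl ρ (conj_mem_of_mem_normalizer g.2 hu) := by
  show cl ρ _ = _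
  rw [cl_eq_cl_iff]
  have h1 := conj_mem_scal g.2 (rep_cl (ρ := ρ) hu)
  simpa [mul_assoc] using h1

theorem conjC_pow (g : normalizer (R : Set H)) {u : H} (hu : u ∈ R) :
    ∀ i : ℕ, (conjC ρ R g ^ i) (cl ρ hu) =
      cl ρ (conj_mem_of_mem_normalizer ((normalizer (R : Set H)).pow_mem g.2 i) hu)
  | 0 => by simp
  | i + 1 => by
    rw [pow_succ', Equiv.Perm.mul_apply, conjC_pow g hu i, conjC_cl]
    rw [cl_eq_cl_iff]
    convert (Scal ρ R).one_mem using 1
    simp [pow_succ', mul_assoc]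

/-- The iterates of a class are different as long as none returns. -/
theorem iterates_injOn {ι : Type*} (π : Equiv.Perm ι) (b : ι) {m : ℕ}
    (h : ∀ i, 0 < i → i < m → (π ^ i) b ≠ b) : ∀ i < m, ∀ j < m, (π ^ i) b = (π ^ j) b → i = j := by
  have key : ∀ i j, i < j → j < m → (π ^ i) b = (π ^ j) b → False := fun i j hij hj e => by
    refine h (j - i) (by omega) (by omega) ((π ^ i).injective ?_)
    rw [← Equiv.Perm.mul_apply, ← pow_add, show i + (j - i) = j by omega, e]
  intro i hi j hj e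
  rcases lt_trichotomy i j with hij | hij | hij
  · exact (key i j hij hj e).elim
  · exact hij
  · exact (key j i hij hi e.symm).elim

end

end CfsgLib.Turull
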