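import Cfsg.Agent.Lib.Turull.Util

/-!
Towers of least order among the invariant ones: they are irreducible.
-/

set_option autoImplicit false

namespace CfsgLib.Turull

open Subgroup
open scoped commutatorElement

universe u

variable {Γ : Type u} [Group Γ]

/-- An invariant tower in `X`. -/
structure ATower (a : Γ) (X : Subgroup Γ) (l : List (Layer Γ)) : Prop where
  layers : Layers l
  alive : Alive l
  le : ∀ P ∈ l, P.1 ≤ X
  fix : ∀ P ∈ l, a ∈ normalizer ((P.1 : Subgroup Γ) : Set Γ)

/-- The total order of the layers. -/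
noncomputable def weightL (l : List (Layer Γ)) : ℕ := (l.map fun P => Nat.card P.1).sum

/-- An invariant tower of least total order among those of its length. -/
structure MinTower (a : Γ) (X : Subgroup Γ) (l : List (Layer Γ)) : Prop extends ATower a X l where
  minimal : ∀ l', ATower a X l' → l'.length = l.length → weightL l ≤ weightL l'

theorem exists_minTower {a : Γ} {X : Subgroup Γ} {l : List (Layer Γ)} (h : ATower a X l) :
    ∃ l', MinTower a X l' ∧ l'.length = l.length := by
  classical
  obtain ⟨m, ⟨l', hl', hlen, rfl⟩, hmin⟩ : ∃ m, (∃ l', ATower a X l' ∧ l'.length = l.length ∧ weightL l' = m) ∧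
      ∀ l'', ATower a X l'' → l''.length = l.length → m ≤ weightL l'' := by
    have hex : ∃ m, ∃ l', ATower a X l' ∧ l'.length = l.length ∧ weightL l' = m := ⟨_, l, h, rfl, rfl⟩
    exact ⟨Nat.find hex, Nat.find_spec hex, fun l'' h1 h2 => Nat.find_min' hex ⟨l'', h1, h2, rfl⟩⟩
  exact ⟨l', ⟨hl', fun l'' h1 h2 => hmin l'' h1 (h2.trans hlen)⟩, hlen⟩

theorem mem_normalizer_inf {H K : Subgroup Γ} {g : Γ} (h1 : g ∈ normalizer (H : Set Γ))
    (h2 : g ∈ normalizer (K : Set Γ)) : g ∈ normalizer ((H ⊓ K : Subgroup Γ) : Set Γ) :=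
  mem_normalizer_of_conj
    (fun x hx => Subgroup.mem_inf.mpr ⟨conj_mem_of_mem_normalizer h1 hx.1, conj_mem_of_mem_normalizer h2 hx.2⟩)
    (fun x hx => Subgroup.mem_inf.mpr
      ⟨conj_mem_of_mem_normalizer (inv_mem h1) hx.1, conj_mem_of_mem_normalizer (inv_mem h2) hx.2⟩)

theorem mem_normalizer_commutator {H K : Subgroup Γ} {g : Γ} (h1 : g ∈ normalizer (H : Set Γ))
    (h2 : g ∈ normalizer (K : Set Γ)) : g ∈ normalizer ((⁅H, K⁆ : Subgroup Γ) : Set Γ) := by
  have key : ∀ g : Γ, g ∈ normalizer (H : Set Γ) → g ∈ normalizer (K : Set Γ) → ∀ x ∈ ⁅H, K⁆,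
      g * x * g⁻¹ ∈ ⁅H, K⁆ := fun g h1 h2 x hx => by
    have h : ⁅H, K⁆ ≤ (⁅H, K⁆ : Subgroup Γ).comap (MulAut.conj g).toMonoidHom := by
      rw [Subgroup.commutator_le]
      intro y hy z hz
      rw [Subgroup.mem_comap, map_commutatorElement]
      exact Subgroup.commutator_mem_commutator (conj_mem_of_mem_normalizer h1 hy) (conj_mem_of_mem_normalizer h2 hz)
    exact h hx
  exact mem_normalizer_of_conj (key g h1 h2) (key g⁻¹ (inv_mem h1) (inv_mem h2))

theorem mem_normalizer_centralizer {a g : Γ} (h : Commute g a) :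
    g ∈ normalizer ((centralizer ({a} : Set Γ) : Subgroup Γ) : Set Γ) :=
  le_normalizer (mem_centralizer_singleton_iff.mpr h.eq)

theorem isChain_of_split {α : Type*} {R : α → α → Prop} : ∀ {l : List α},
    (∀ pre x y post, l = pre ++ x :: y :: post → R x y) → l.IsChain R
  | [], _ => List.isChain_nil
  | [_], _ => List.isChain_singleton _
  | x :: y :: l, h => List.isChain_cons_cons.mpr
      ⟨h [] x y l rfl, isChain_of_split fun pre u v post e => h (x :: pre) u v post (by rw [e]; rfl)⟩

theorem Layers.replace {pre post : List (Layer Γ)} {Q : Layer Γ} (h : Layers (pre ++ Q :: post)) {Q' : Subgroup Γ}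
    (hQ' : Q' ≤ Q.1) (hn : ∀ P ∈ pre, P.1 ≤ normalizer (Q' : Set Γ)) : Layers (pre ++ (Q', Q.2) :: post) := by
  obtain ⟨h1, h2, h3⟩ := List.pairwise_append.mp h.norm
  obtain ⟨c1, c2, c3⟩ := List.isChain_append.mp h.adj
  refine ⟨?_, ?_, List.pairwise_append.mpr ⟨h1, List.pairwise_cons.mpr
    ⟨fun R hR => hQ'.trans ((List.pairwise_cons.mp h2).1 R hR), (List.pairwise_cons.mp h2).2⟩, ?_⟩,
    List.isChain_append.mpr ⟨c1, ?_, ?_⟩⟩
  · intro P hP
    rcases List.mem_append.mp hP with hP | hP
    · exact h.prime P (List.mem_append_left _ hP)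
    · rcases List.mem_cons.mp hP with rfl | hP
      · exact h.prime Q (List.mem_append_right _ List.mem_cons_self)
      · exact h.prime P (List.mem_append_right _ (List.mem_cons_of_mem _ hP))
  · intro P hP
    rcases List.mem_append.mp hP with hP | hP
    · exact h.pgroup P (List.mem_append_left _ hP)
    · rcases List.mem_cons.mp hP with rfl | hP
      · exact (h.pgroup Q (List.mem_append_right _ List.mem_cons_self)).to_le hQ'
      · exact h.pgroup P (List.mem_append_right _ (List.mem_cons_of_mem _ hP))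
  · intro P hP R hR
    rcases List.mem_cons.mp hR with rfl | hR
    · exact hn P hP
    · exact h3 P hP R (List.mem_cons_of_mem _ hR)
  · cases post with
    | nil => exact List.isChain_singleton _
    | cons R post => exact List.isChain_cons_cons.mpr ⟨(List.isChain_cons_cons.mp c2).1, c2.tail⟩
  · intro P hP R hR
    simp only [List.head?_cons, Option.mem_def, Option.some.injEq] at hR
    subst hR
    exact c3 P hP Q (by simp)

theorem Layers.kr_sub {Q : Layer Γ} {post : List (Layer Γ)} (h : Layers (Q :: post)) {Q' : Subgroup Γ}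
    (hQ' : Q' ≤ Q.1) : Kr ((Q', Q.2) :: post) = Q' ⊓ Kr (Q :: post) := by
  cases post with
  | nil => simp [Kr]
  | cons R post =>
    have h' : Layers ((Q', Q.2) :: R :: post) := h.replace (pre := []) hQ' (by simp)
    ext z
    rw [h'.mem_kr, Subgroup.mem_inf, h.mem_kr]
    exact ⟨fun hz => ⟨hz.1, hQ' hz.1, hz.2⟩, fun hz => ⟨hz.1, hz.2.2⟩⟩

/-- In a living tower every layer acts nontrivially. -/
theorem alive_mem : ∀ (pre : List (Layer Γ)) (P : Layer Γ) (post : List (Layer Γ)),
    Layers (pre ++ P :: post) → Alive (pre ++ P :: post) → ¬ P.1 ≤ Kr (P :: post)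
  | [], _, _, _, h => h
  | A :: pre, P, post, hl, h => fun hle => by
    rcases eq_or_ne pre [] with rfl | hpre
    · refine h ?_
      show A.1 ≤ Kr (A :: P :: post)
      rw [Layers.le_kr_iff (l := post) hl]
      refine le_trans ?_ hle
      rw [Subgroup.commutator_comm]
      exact CfsgLib.commutator_le_of_le_normalizer ((List.pairwise_cons.mp hl.norm).1 P List.mem_cons_self)
    · obtain ⟨B, pre, rfl⟩ := List.exists_cons_of_ne_nil hpre
      have hl' : Layers ((B :: pre) ++ P :: post) := hl.tail
      refine alive_mem (B :: pre) P post hl' ?_ hle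
      intro hB
      refine h ?_
      show A.1 ≤ Kr (A :: B :: (pre ++ P :: post))
      rw [Layers.le_kr_iff (l := pre ++ P :: post) hl]
      refine le_trans ?_ hB
      rw [Subgroup.commutator_comm]
      exact CfsgLib.commutator_le_of_le_normalizer ((List.pairwise_cons.mp hl.norm).1 B List.mem_cons_self)

theorem Layers.of_mid {pre post : List (Layer Γ)} {P : Layer Γ} (h : Layers (pre ++ P :: post)) :
    Layers (P :: post) := h.of_append.2

variable [Finite Γ] {a : Γ} {X : Subgroup Γ} {l : List (Layer Γ)}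

theorem MinTower.not_alive (h : MinTower a X l) {pre post : List (Layer Γ)} {Q : Layer Γ} (hl : l = pre ++ Q :: post)
    {Q' : Subgroup Γ} (hQ' : Q' ≤ Q.1) (hne : Q' ≠ Q.1) (hn : ∀ P ∈ pre, P.1 ≤ normalizer (Q' : Set Γ))
    (ha : a ∈ normalizer (Q' : Set Γ)) : ¬ Alive (pre ++ (Q', Q.2) :: post) := by
  subst hl
  intro hal
  have hA : ATower a X (pre ++ (Q', Q.2) :: post) := by
    refine ⟨h.layers.replace hQ' hn, hal, ?_, ?_⟩
    · intro P hP
      rcases List.mem_append.mp hP with hP | hP
      · exact h.le P (List.mem_append_left _ hP)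
      · rcases List.mem_cons.mp hP with rfl | hP
        · exact hQ'.trans (h.le Q (List.mem_append_right _ List.mem_cons_self))
        · exact h.le P (List.mem_append_right _ (List.mem_cons_of_mem _ hP))
    · intro P hP
      rcases List.mem_append.mp hP with hP | hP
      · exact h.fix P (List.mem_append_left _ hP)
      · rcases List.mem_cons.mp hP with rfl | hP
        · exact ha
        · exact h.fix P (List.mem_append_right _ (List.mem_cons_of_mem _ hP))
  have h1 := h.minimal _ hA (by simp)
  simp only [weightL, List.map_append, List.map_cons, List.sum_append, List.sum_cons] at h1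
  have h2 : Nat.card Q.1 ≤ Nat.card Q' := by omega
  exact hne (Subgroup.eq_of_le_of_card_ge hQ' h2)

theorem MinTower.generated (h : MinTower a X l) : Generated l := by
  refine isChain_of_split fun pre P Q post hl => ?_
  subst hl
  by_contra hne
  have hm : Layers (P :: Q :: post) := h.layers.of_mid
  have hPQ : P.1 ≤ normalizer ((Q.1 : Subgroup Γ) : Set Γ) :=
    (List.pairwise_cons.mp hm.norm).1 Q List.mem_cons_self
  have hle : ⁅Q.1, P.1⁆ ≤ Q.1 := CfsgLib.commutator_le_of_le_normalizer hPQ
  have hpn : ∀ A ∈ pre ++ [P], A.1 ≤ normalizer ((⁅Q.1, P.1⁆ : Subgroup Γ) : Set Γ) := by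
    intro A hA
    rcases List.mem_append.mp hA with hA | hA
    · intro g hg
      have hp := (List.pairwise_append.mp h.layers.norm).2.2 A hA
      exact mem_normalizer_commutator (hp Q (List.mem_cons_of_mem _ List.mem_cons_self) hg)
        (hp P List.mem_cons_self hg)
    · rw [List.mem_singleton] at hA
      rw [hA]
      exact CfsgLib.right_le_normalizer_commutator P.1 Q.1
  have hl' : Layers ((pre ++ [P]) ++ (⁅Q.1, P.1⁆, Q.2) :: post) :=
    Layers.replace (pre := pre ++ [P]) (by rw [List.append_assoc]; exact h.layers) hle hpn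
  have hm' : Layers (P :: (⁅Q.1, P.1⁆, Q.2) :: post) := by
    rw [List.append_assoc] at hl'
    exact hl'.of_mid
  have hk : Kr (P :: (⁅Q.1, P.1⁆, Q.2) :: post) = Kr (P :: Q :: post) := by
    ext x
    rw [hm'.mem_kr, hm.mem_kr, hm.tail.kr_sub hle]
    constructor
    · rintro ⟨hx, hx'⟩
      refine ⟨hx, ?_⟩
      have hp := hm.prime P List.mem_cons_self
      have hq := hm.prime Q (List.mem_cons_of_mem _ List.mem_cons_self)
      refine comm_mem_of_comm_comm hp hq (List.isChain_cons_cons.mp hm.adj).1
        (hm.pgroup Q (List.mem_cons_of_mem _ List.mem_cons_self))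
        ((hm.pgroup P List.mem_cons_self).to_le (zpowers_le.mpr hx)) (hPQ hx) fun z hz g hg => ?_
      have hgK : g ∈ Kr (P :: (⁅Q.1, P.1⁆, Q.2) :: post) :=
        zpowers_le.mpr (hm'.mem_kr.mpr ⟨hx, by rw [hm.tail.kr_sub hle]; exact hx'⟩) hg
      have h3 := (hm'.mem_kr.mp hgK).2 z (Subgroup.commutator_mono le_rfl (zpowers_le.mpr hx) hz)
      rw [hm.tail.kr_sub hle] at h3
      rw [← commutatorElement_inv]
      exact (Kr _).inv_mem h3.2
    · rintro ⟨hx, hx'⟩
      refine ⟨hx, fun y hy => Subgroup.mem_inf.mpr ⟨?_, hx' y (hle hy)⟩⟩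
      rw [commutatorElement_def]
      exact mul_mem (conj_mem_of_mem_normalizer (CfsgLib.right_le_normalizer_commutator P.1 Q.1 hx) hy) (inv_mem hy)
  refine h.not_alive (pre := pre ++ [P]) (post := post) (Q := Q) (by rw [List.append_assoc]; rfl) hle hne hpn
    (mem_normalizer_commutator (h.fix Q (List.mem_append_right _ (List.mem_cons_of_mem _ List.mem_cons_self)))
      (h.fix P (List.mem_append_right _ List.mem_cons_self))) ?_
  rw [List.append_assoc, List.cons_append, List.nil_append]
  have hkr := kr_append_congr pre P _ _ hk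
  have hal := h.alive
  cases pre with
  | nil =>
    intro hle'
    exact hal (le_trans hle' hk.le)
  | cons A pre =>
    intro hle'
    exact hal (le_trans hle' hkr.le)

/-- Proper invariant subgroups of a layer are centralised by the one above. -/
theorem MinTower.comm_le (h : MinTower a X l) {pre post : List (Layer Γ)} {P Q : Layer Γ}
    (hl : l = pre ++ P :: Q :: post) {Q₀ : Subgroup Γ} (hQ : Q₀ ≤ Q.1) (hne : Q₀ ≠ Q.1)
    (hn : ∀ A ∈ pre ++ [P], A.1 ≤ normalizer (Q₀ : Set Γ)) (ha : a ∈ normalizer (Q₀ : Set Γ)) :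
    ⁅Q₀, P.1⁆ ≤ Kr (Q :: post) := by
  subst hl
  by_contra hnot
  have hm : Layers (P :: Q :: post) := h.layers.of_mid
  have hl' : Layers (pre ++ P :: (Q₀, Q.2) :: post) := by
    have h1 := Layers.replace (pre := pre ++ [P]) (Q := Q) (post := post)
      (by rw [List.append_assoc]; exact h.layers) hQ hn
    rwa [List.append_assoc] at h1
  refine h.not_alive (pre := pre ++ [P]) (post := post) (Q := Q) (by rw [List.append_assoc]; rfl) hQ hne hn ha ?_
  rw [List.append_assoc, List.cons_append, List.nil_append]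
  refine alive_append pre P ((Q₀, Q.2) :: post) hl' ?_ fun hle => hnot ?_
  · have hg := h.generated
    rw [Generated, show pre ++ P :: Q :: post = (pre ++ [P]) ++ Q :: post by simp] at hg
    exact (List.isChain_append.mp hg).1
  · have h1 := hl'.of_mid.le_kr_iff.mp hle
    rw [Subgroup.commutator_comm, hm.tail.kr_sub hQ] at h1
    exact h1.trans inf_le_right

/-- Proper invariant subgroups of the top layer act trivially. -/
theorem MinTower.head_le (h : MinTower a X l) {post : List (Layer Γ)} {Q : Layer Γ} (hl : l = Q :: post)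
    {Q₀ : Subgroup Γ} (hQ : Q₀ ≤ Q.1) (hne : Q₀ ≠ Q.1) (ha : a ∈ normalizer (Q₀ : Set Γ)) :
    Q₀ ≤ Kr (Q :: post) := by
  subst hl
  by_contra hnot
  refine h.not_alive (pre := []) (post := post) (Q := Q) rfl hQ hne (by simp) ha fun hle => hnot ?_
  rw [Layers.kr_sub h.layers hQ] at hle
  exact hle.trans inf_le_right

/-- A layer centralised modulo its kernel under centralised layers is centralised. -/
theorem MinTower.centralized (h : MinTower a X l) (hcop : (Nat.card (zpowers a)).Coprime (Nat.card X))
    {pre post : List (Layer Γ)} {P : Layer Γ} (hl : l = pre ++ P :: post)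
    (hpre : ∀ A ∈ pre, A.1 ≤ centralizer ({a} : Set Γ)) (hP : ⁅P.1, zpowers a⁆ ≤ Kr (P :: post)) :
    P.1 ≤ centralizer ({a} : Set Γ) := by
  subst hl
  set P' := P.1 ⊓ centralizer ({a} : Set Γ)
  by_contra hnot
  have hne : P' ≠ P.1 := fun e => hnot (e ▸ inf_le_right)
  have hmem : P ∈ pre ++ P :: post := List.mem_append_right _ List.mem_cons_self
  have hn : ∀ A ∈ pre, A.1 ≤ normalizer (P' : Set Γ) := fun A hA g hg =>
    mem_normalizer_inf ((List.pairwise_append.mp h.layers.norm).2.2 A hA P List.mem_cons_self hg)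
      (mem_normalizer_centralizer (mem_centralizer_singleton_iff.mp (hpre A hA hg)))
  have hdec : ∀ y ∈ P.1, ∃ k ∈ Kr (P :: post), ∃ c ∈ P', y = k * c := by
    intro y hy
    obtain ⟨k, hk, c, hc, rfl⟩ := CfsgLib.coprime_decomp (zpowers_le.mpr (h.fix P hmem))
      (hcop.coprime_dvd_right (Subgroup.card_dvd_of_le (h.le P hmem))) (Or.inl (isSolvable_zpowers a)) hy
    refine ⟨k, hP hk, c, Subgroup.mem_inf.mpr ⟨hc.1, ?_⟩, rfl⟩
    exact mem_centralizer_singleton_iff.mpr (mem_centralizer_iff.mp hc.2 a (mem_zpowers a)).symm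
  have hl' := h.layers.replace (Q := P) inf_le_left hn
  refine h.not_alive (pre := pre) (post := post) (Q := P) rfl inf_le_left hne hn
    (mem_normalizer_inf (h.fix P hmem) (mem_normalizer_centralizer (Commute.refl a))) ?_
  rcases List.eq_nil_or_concat pre with rfl | ⟨pre, A, rfl⟩
  · intro hle
    rw [Layers.kr_sub h.layers inf_le_left] at hle
    refine h.alive fun y hy => ?_
    obtain ⟨k, hk, c, hc, rfl⟩ := hdec y hy
    exact mul_mem hk (hle hc).2
  · rw [List.concat_eq_append, List.append_assoc, List.cons_append, List.nil_append] at hl' ⊢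
    have hm : Layers (A :: P :: post) := by
      have := h.layers
      rw [List.concat_eq_append, List.append_assoc] at this
      exact this.of_mid
    have hm' : Layers (A :: (P', P.2) :: post) := hl'.of_mid
    have hk : Kr (A :: (P', P.2) :: post) = Kr (A :: P :: post) := by
      ext x
      rw [hm'.mem_kr, hm.mem_kr, hm.tail.kr_sub inf_le_left]
      constructor
      · rintro ⟨hx, hx'⟩
        refine ⟨hx, fun y hy => ?_⟩
        obtain ⟨k, hk, c, hc, rfl⟩ := hdec y hy
        rw [show ⁅x, k * c⁆ = x * k * x⁻¹ * k⁻¹ * (k * ⁅x, c⁆ * k⁻¹) by simp only [commutatorElement_def]; group]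
        exact mul_mem (mul_mem (conj_mem_of_mem_normalizer (hm.head_le_normalizer_kr hx) hk) (inv_mem hk))
          (mul_mem (mul_mem hk (hx' c hc).2) (inv_mem hk))
      · rintro ⟨hx, hx'⟩
        refine ⟨hx, fun y hy => Subgroup.mem_inf.mpr ⟨?_, hx' y hy.1⟩⟩
        rw [commutatorElement_def]
        exact mul_mem (conj_mem_of_mem_normalizer (hn A (by simp) hx) hy) (inv_mem hy)
    have hkr := kr_append_congr pre A _ _ hk
    have hal := h.alive
    rw [List.concat_eq_append, List.append_assoc, List.cons_append, List.nil_append] at hal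
    cases pre with
    | nil =>
      intro hle'
      exact hal (le_trans hle' hk.le)
    | cons B pre =>
      intro hle'
      exact hal (le_trans hle' hkr.le)

end CfsgLib.Turull
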