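import Cfsg.Agent.Lib.Turull.Heis
import Cfsg.Agent.Lib.Coprime

/-!
An operator of prime order acting without fixed points modulo the scalars of a group with scalar commutators,
and the elements centralizing it and its fixed vectors: they centralize or invert modulo scalars.
-/

set_option autoImplicit false

namespace CfsgLib.Turull

open Subgroup Finset Module CfsgLib.FittingHeight
open scoped commutatorElement

universe u v w

/-- The homomorphism from a cyclic group given by an element whose order divides its order. -/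
def cycHom {M : Type*} [Monoid M] (A : M) (r : ℕ) [NeZero r] (hA : A ^ r = 1) :
    Multiplicative (ZMod r) →* M where
  toFun x := A ^ (Multiplicative.toAdd x).val
  map_one' := by simp
  map_mul' x y := by rw [← pow_add, pow_eq_pow_mod ((Multiplicative.toAdd x).val + _) hA, toAdd_mul, ZMod.val_add]

theorem cycHom_apply {M : Type*} [Monoid M] (A : M) (r : ℕ) [NeZero r] (hA : A ^ r = 1)
    (x : Multiplicative (ZMod r)) : cycHom A r hA x = A ^ (Multiplicative.toAdd x).val := rfl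

theorem cycHom_gen {M : Type*} [Monoid M] (A : M) (r : ℕ) [NeZero r] [Fact (1 < r)] (hA : A ^ r = 1) :
    cycHom A r hA (Multiplicative.ofAdd 1) = A := by
  rw [cycHom_apply, toAdd_ofAdd, ZMod.val_one r, pow_one]

/-- A point fixed by two powers of a permutation is fixed by the power to their greatest common divisor. -/
theorem pow_gcd_fixed {ι : Type*} (π : Equiv.Perm ι) (b : ι) {i j : ℕ} (hi : (π ^ i) b = b) (hj : (π ^ j) b = b) :
    (π ^ i.gcd j) b = b := by
  have hi' : π ^ (i : ℤ) ∈ MulAction.stabilizer (Equiv.Perm ι) b := by rw [zpow_natCast]; exact hi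
  have hj' : π ^ (j : ℤ) ∈ MulAction.stabilizer (Equiv.Perm ι) b := by rw [zpow_natCast]; exact hj
  have h := mul_mem (zpow_mem hi' (Nat.gcdA i j)) (zpow_mem hj' (Nat.gcdB i j))
  rw [← zpow_mul, ← zpow_mul, ← zpow_add, ← Nat.gcd_eq_gcd_ab, zpow_natCast] at h
  exact h

variable {H : Type u} [Group H] {K : Type v} [Field K] {V : Type w} [AddCommGroup V] [Module K V] [Finite H]
  {ρ : H →* Module.End K V} {R : Subgroup H}

theorem cl_one_iff {u : H} (hu : u ∈ R) : cl ρ hu = cl ρ R.one_mem ↔ u ∈ Scal ρ R := by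
  rw [cl_eq_cl_iff, mul_one, inv_mem_iff]

theorem cl_congr {u w : H} {hu : u ∈ R} {hw : w ∈ R} (h : u = w) : cl ρ hu = cl ρ hw := by
  subst h; rfl

theorem cl_mul_congr {u u' w w' : H} {hu : u ∈ R} {hu' : u' ∈ R} {hw : w ∈ R} {hw' : w' ∈ R}
    (h1 : cl ρ hu = cl ρ hu') (h2 : cl ρ hw = cl ρ hw') :
    cl ρ (R.mul_mem hu hw) = cl ρ (R.mul_mem hu' hw') := by
  rw [cl_eq_cl_iff] at h1 h2 ⊢
  have h3 := (Scal ρ R).mul_mem (conj_mem_scal (inv_mem (le_normalizer hw)) h1) h2
  simpa [mul_assoc] using h3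

/-- Conjugation on the classes, as a homomorphism. -/
noncomputable def conjHom (ρ : H →* Module.End K V) (R : Subgroup H) :
    normalizer (R : Set H) →* Equiv.Perm (Cls ρ R) where
  toFun := conjC ρ R
  map_one' := Equiv.ext fun b => by
    rw [← cl_rep b, conjC_cl]
    exact cl_congr (by simp)
  map_mul' g h := Equiv.ext fun b => by
    rw [← cl_rep b, Equiv.Perm.mul_apply, conjC_cl, conjC_cl, conjC_cl]
    exact cl_congr (by simp [mul_assoc])

theorem conjHom_cl (g : normalizer (R : Set H)) {u : H} (hu : u ∈ R) :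
    conjHom ρ R g (cl ρ hu) = cl ρ (conj_mem_of_mem_normalizer g.2 hu) := conjC_cl g hu

theorem conjHom_fixed_iff (g : normalizer (R : Set H)) {u : H} (hu : u ∈ R) :
    conjHom ρ R g (cl ρ hu) = cl ρ hu ↔ ⁅(g : H), u⁆ ∈ Scal ρ R := by
  rw [conjHom_cl, cl_eq_cl_iff]
  have hc : ∀ z ∈ R, ∀ s ∈ Scal ρ R, z * s * z⁻¹ ∈ Scal ρ R := fun z hz s hs => conj_mem_scal (le_normalizer hz) hs
  refine ⟨fun h => ?_, fun h => ?_⟩
  · simpa [commutatorElement_def, mul_assoc] using hc u hu _ ((Scal ρ R).inv_mem h)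
  · simpa [commutatorElement_def, mul_assoc] using
      hc u⁻¹ (R.inv_mem hu) _ ((Scal ρ R).inv_mem h)

theorem conjHom_fixed_rep (g : normalizer (R : Set H)) (b : Cls ρ R) :
    conjHom ρ R g b = b ↔ ⁅(g : H), rep b⁆ ∈ Scal ρ R := by
  conv_lhs => rw [← cl_rep b]
  exact conjHom_fixed_iff g (rep_mem b)

theorem conjHom_one_iff (g : normalizer (R : Set H)) :
    conjHom ρ R g = 1 ↔ ∀ u ∈ R, ⁅(g : H), u⁆ ∈ Scal ρ R := by
  refine ⟨fun h u hu => (conjHom_fixed_iff g hu).mp (by rw [h]; rfl), fun h => Equiv.ext fun b => ?_⟩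
  exact (conjHom_fixed_rep g b).mpr (h _ (rep_mem b))

theorem conjHom_base (g : normalizer (R : Set H)) : conjHom ρ R g (cl ρ R.one_mem) = cl ρ R.one_mem := by
  rw [conjHom_fixed_iff, commutatorElement_one_right]
  exact one_mem _

theorem conjHom_smul_rep (g : normalizer (R : Set H)) (b : Cls ρ R) :
    ∃ c : K, ρ g * ρ (rep b) * ρ (g : H)⁻¹ = c • ρ (rep (conjHom ρ R g b)) := by
  obtain ⟨c, hc⟩ := exists_smul_rep (ρ := ρ) (conj_mem_of_mem_normalizer g.2 (rep_mem b))
  refine ⟨c, ?_⟩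
  rw [← map_mul, ← map_mul, hc]
  rfl

/-- An operator of prime order acting without fixed points modulo scalars. -/
structure Op (ρ : H →* Module.End K V) (R : Subgroup H) (a : H) (r : ℕ) : Prop where
  heis : Heis ρ R
  prime : r.Prime
  norm : a ∈ normalizer (R : Set H)
  pow : a ^ r = 1
  castK : (r : K) ≠ 0
  cop : ¬ r ∣ Nat.card R
  fpf : ∀ u ∈ R, ⁅a, u⁆ ∈ Scal ρ R → u ∈ Scal ρ R

/-- An irreducible invariant subspace. -/
structure Piece (ρ : H →* Module.End K V) (R : Subgroup H) (S : Submodule K V) : Prop where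
  ne : S ≠ ⊥
  stab : R ≤ stabW ρ S
  irr : ∀ W : Submodule K V, W ≤ S → W ≠ ⊥ → R ≤ stabW ρ W → W = S

variable [FiniteDimensional K V]

/-- Mapping a subspace into itself suffices to preserve it. -/
theorem mem_stabW_of_le {W : Submodule K V} {g : H} (h : ∀ w ∈ W, ρ g w ∈ W) : g ∈ stabW ρ W := by
  refine ⟨h, fun w hw => ?_⟩
  have hinj : Function.Injective ((ρ g).restrict h) := fun x y hxy => Subtype.ext (by
    have h1 := congrArg (ρ g⁻¹) (congrArg Subtype.val hxy)
    simpa [rho_inv_cancel] using h1)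
  obtain ⟨y, hy⟩ := (LinearMap.injective_iff_surjective.mp hinj) ⟨w, hw⟩
  have h2 : ρ g (y : V) = w := congrArg Subtype.val hy
  rw [← h2, rho_inv_cancel]
  exact y.2

omit [Finite H] [FiniteDimensional K V] in
theorem rho_pow_fix {g : H} {v : V} (h : ρ g v = v) : ∀ i : ℕ, ρ (g ^ i) v = v
  | 0 => by simp
  | i + 1 => by rw [pow_succ, rho_mul, h, rho_pow_fix h i]

theorem exists_piece {W : Submodule K V} (hW : R ≤ stabW ρ W) (hW0 : W ≠ ⊥) : ∃ S ≤ W, Piece ρ R S := by
  classical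
  have hex : ∃ d, ∃ S ≤ W, S ≠ ⊥ ∧ R ≤ stabW ρ S ∧ finrank K S = d := ⟨_, W, le_rfl, hW0, hW, rfl⟩
  obtain ⟨S, hS, hS0, hSR, hd⟩ := Nat.find_spec hex
  refine ⟨S, hS, hS0, hSR, fun U hU hU0 hUR => ?_⟩
  refine Submodule.eq_of_le_of_finrank_le hU ?_
  rw [hd]
  exact Nat.find_min' hex ⟨U, hU.trans hS, hU0, hUR, rfl⟩

namespace Piece

variable {S : Submodule K V}

theorem nontrivial (hP : Piece ρ R S) : Nontrivial S := Submodule.nontrivial_iff_ne_bot.mpr hP.ne

theorem card_cls [IsAlgClosed K] (hP : Piece ρ R S) (hH : Heis ρ R) :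
    Nat.card (Cls ρ R) = finrank K S ^ 2 :=
  hH.card_cls hP.stab hP.ne hP.irr

/-- An element normalizing `R` that sends a nonzero vector of a piece into it preserves it. -/
theorem mem_stab (hP : Piece ρ R S) {x : H} (hx : x ∈ normalizer (R : Set H)) {s : V} (hs : s ∈ S) (hs0 : s ≠ 0)
    (hxs : ρ x s ∈ S) : x ∈ stabW ρ S := by
  let U : Submodule K V := S ⊓ S.comap (ρ x)
  have key : ∀ u ∈ R, ∀ w ∈ U, ρ u w ∈ U := fun u hu w hw => by
    refine ⟨(hP.stab hu).1 w hw.1, ?_⟩
    have h1 := (hP.stab (conj_mem_of_mem_normalizer hx hu)).1 _ hw.2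
    show ρ x (ρ u w) ∈ S
    rw [← rho_mul, inv_mul_cancel_right, rho_mul] at h1
    exact h1
  have hU : U = S := hP.irr U inf_le_left (fun h => hs0 (by
    have : s ∈ U := ⟨hs, hxs⟩
    rwa [h, Submodule.mem_bot] at this)) fun u hu => ⟨key u hu, key _ (R.inv_mem hu)⟩
  exact mem_stabW_of_le fun w hw => (hU.ge hw).2

end Piece

namespace Op

variable {a : H} {r : ℕ}

theorem fixed_base (hop : Op ρ R a r) {b : Cls ρ R} (h : conjHom ρ R ⟨a, hop.norm⟩ b = b) :
    b = cl ρ R.one_mem := by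
  rw [← cl_rep b, cl_one_iff]
  exact hop.fpf _ (rep_mem b) ((conjHom_fixed_rep _ b).mp h)

theorem conj_pow (hop : Op ρ R a r) : conjHom ρ R ⟨a, hop.norm⟩ ^ r = 1 := by
  rw [← map_pow, show (⟨a, hop.norm⟩ : normalizer (R : Set H)) ^ r = 1 from Subtype.ext hop.pow, map_one]

theorem base_of_pow_fixed (hop : Op ρ R a r) {b : Cls ρ R} {i : ℕ}
    (hi : i.Coprime r) (h : (conjHom ρ R ⟨a, hop.norm⟩ ^ i) b = b) : b = cl ρ R.one_mem := by
  refine hop.fixed_base ?_
  have h2 := pow_gcd_fixed _ b h (show (conjHom ρ R ⟨a, hop.norm⟩ ^ r) b = b by rw [hop.conj_pow]; rfl)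
  rwa [Nat.coprime_iff_gcd_eq_one.mp hi, pow_one] at h2

theorem coprime_card (hop : Op ρ R a r) : r.Coprime (Nat.card R) := hop.prime.coprime_iff_not_dvd.mpr hop.cop

theorem a_ne_zero [Nontrivial V] {v : V} (hv : v ≠ 0) {ζ : K} (h : ρ a v = ζ • v) : ζ ≠ 0 := fun h0 => hv (by
  rw [← rho_inv_cancel ρ a v, h, h0, zero_smul, map_zero])

variable [IsAlgClosed K]

/-- The intertwiner gives the action of `a` on an invariant subspace containing a given eigenvector. -/
theorem exists_inter_eq (hop : Op ρ R a r) {v : V} (hv0 : v ≠ 0) {ζ : K} (hv : ρ a v = ζ • v) :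
    ∃ (c : K) (U : Submodule K V), U ≠ ⊥ ∧ R ≤ stabW ρ U ∧ a ∈ stabW ρ U ∧
      (∀ w ∈ U, ρ a w = c • inter ρ R a w) ∧ ∃ w ∈ U, w ≠ 0 ∧ ρ a w = ζ • w := by
  haveI : Nontrivial V := nontrivial_of_ne v 0 hv0
  set T := inter ρ R a
  have hTa : ρ a * T = T * ρ a := inter_comm hop.norm (Commute.refl a)
  let F : Submodule K V := Module.End.eigenspace (ρ a) ζ
  have hF : ∀ w ∈ F, T w ∈ F := fun w hw => by
    rw [Module.End.mem_eigenspace_iff] at hw ⊢
    rw [← Module.End.mul_apply, hTa, Module.End.mul_apply, hw, map_smul]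
  have hF0 : F ≠ ⊥ := fun h => hv0 (by
    have : v ∈ F := Module.End.mem_eigenspace_iff.mpr hv
    rwa [h, Submodule.mem_bot] at this)
  haveI : Nontrivial F := Submodule.nontrivial_iff_ne_bot.mpr hF0
  obtain ⟨τ, hτ⟩ := Module.End.exists_eigenvalue (T.restrict hF)
  obtain ⟨w, hw, hw0⟩ := hτ.exists_hasEigenvector
  have hwT : T (w : V) = τ • (w : V) := congrArg Subtype.val (Module.End.mem_eigenspace_iff.mp hw)
  have hwa : ρ a (w : V) = ζ • (w : V) := Module.End.mem_eigenspace_iff.mp w.2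
  have hw0' : (w : V) ≠ 0 := fun h => hw0 (Subtype.ext h)
  have hτ0 : τ ≠ 0 := fun h => hw0' (inter_injective hop.heis hop.norm hop.fpf (by
    rw [hwT, h, zero_smul, map_zero]))
  let U : Submodule K V := LinearMap.ker (ρ a - (ζ / τ) • T)
  have hU : ∀ x, x ∈ U ↔ ρ a x = (ζ / τ) • T x := fun x => by
    simp [U, LinearMap.mem_ker, sub_eq_zero]
  have hwU : (w : V) ∈ U := by
    rw [hU, hwT, hwa, smul_smul, div_mul_cancel₀ _ hτ0]
  have hUR : ∀ u ∈ R, ∀ x ∈ U, ρ u x ∈ U := fun u hu x hx => by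
    rw [hU] at hx ⊢
    rw [show T (ρ u x) = ρ (a * u * a⁻¹) (T x) by
      rw [← Module.End.mul_apply, inter_mul_rho a hu, Module.End.mul_apply], ← map_smul, ← hx, ← rho_mul,
      ← rho_mul, inv_mul_cancel_right]
  have hUa : ∀ x ∈ U, ρ a x ∈ U := fun x hx => by
    rw [hU] at hx ⊢
    rw [← Module.End.mul_apply (f := T), ← hTa, Module.End.mul_apply, ← map_smul, ← hx]
  exact ⟨ζ / τ, U, fun h => hw0' (by rwa [h, Submodule.mem_bot] at hwU),
    fun u hu => ⟨hUR u hu, hUR _ (R.inv_mem hu)⟩, mem_stabW_of_le hUa, fun x hx => (hU x).mp hx,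
    w, hwU, hw0', hwa⟩

/-- A piece preserved by `a`, with the intertwiner giving the action of `a` on it; with a fixed vector, it
contains one, and is preserved by the elements that centralize `a` and fix its fixed vectors. -/
theorem exists_piece_op (hop : Op ρ R a r) {v : V} (hv0 : v ≠ 0) {ζ : K} (hv : ρ a v = ζ • v) :
    ∃ (c : K) (S : Submodule K V), Piece ρ R S ∧ a ∈ stabW ρ S ∧ (∀ w ∈ S, ρ a w = c • inter ρ R a w) ∧
      (ζ = 1 → ∃ s ∈ S, s ≠ 0 ∧ ρ a s = s) := by
  obtain ⟨c, U, hU0, hUR, hUa, hUc, w, hwU, hw0, hwa⟩ := hop.exists_inter_eq hv0 hv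
  obtain ⟨S, hSU, hP⟩ := Turull.exists_piece hUR hU0
  set A := c • inter ρ R a with hA
  have hAspan : A ∈ spanR ρ R := Submodule.smul_mem _ _ (inter_mem_spanR hop.norm)
  have hAU : ∀ x ∈ U, A x = ρ a x := fun x hx => (hUc x hx).symm
  have hSa : a ∈ stabW ρ S := mem_stabW_of_le fun x hx => by
    rw [← hAU x (hSU hx)]
    exact spanR_stable hP.stab hAspan x hx
  refine ⟨c, S, hP, hSa, fun x hx => hUc x (hSU hx), fun hζ => ?_⟩
  subst hζ
  have hpow : ∀ i : ℕ, ∀ x ∈ U, (A ^ i) x = ρ (a ^ i) x := by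
    intro i
    induction i with
    | zero => intro x _; simp
    | succ i ih =>
      intro x hx
      rw [pow_succ', Module.End.mul_apply, ih x hx, hAU _ (((stabW ρ U).pow_mem hUa i).1 x hx), ← rho_mul, ← pow_succ']
  have hF : ∀ x ∈ U, (∑ i ∈ range r, A ^ i) x = orbSum ρ a r x := fun x hx => by
    rw [LinearMap.sum_apply, orbSum_apply]
    exact Finset.sum_congr rfl fun i _ => hpow i x hx
  by_contra hcon
  push Not at hcon
  have hzero : ∀ x ∈ S, (∑ i ∈ range r, A ^ i) x = 0 := fun x hx => by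
    rw [hF x (hSU hx)]
    by_contra hne
    exact hcon _ (orbSum_mem ρ r hSa hx) hne (rho_orbSum ρ hop.pow x)
  have h1 := hop.heis.spanR_eq_zero hP.stab hP.ne (Submodule.sum_mem _ fun i _ => pow_mem_spanR hAspan i) hzero
  have h2 := hF w hwU
  rw [h1, LinearMap.zero_apply, orbSum_fixed ρ r (by rw [hwa, one_smul])] at h2
  exact hw0 ((smul_eq_zero.mp h2.symm).resolve_left hop.castK)

variable [NeZero r] {S : Submodule K V}

/-- The action of the cyclic group of `a` on a preserved subspace. -/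
noncomputable def phiS (hop : Op ρ R a r) (ha : a ∈ stabW ρ S) : Multiplicative (ZMod r) →* Module.End K S :=
  cycHom (restrW ρ S ⟨a, ha⟩) r (by
    rw [← map_pow, show (⟨a, ha⟩ : stabW ρ S) ^ r = 1 from Subtype.ext hop.pow, map_one])

/-- The multiplicity of an eigenvalue. -/
noncomputable def nW (hop : Op ρ R a r) (ha : a ∈ stabW ρ S) (χ : Multiplicative (ZMod r) →* Kˣ) : ℕ :=
  finrank K (Grading.weight (hop.phiS ha) χ)

theorem card_X : Fintype.card (Multiplicative (ZMod r)) = r := by rw [Fintype.card_multiplicative, ZMod.card]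

theorem castX (hop : Op ρ R a r) : ((Fintype.card (Multiplicative (ZMod r)) : ℕ) : K) ≠ 0 := by
  rw [card_X]; exact hop.castK

theorem roots (hop : Op ρ R a r) :
    HasEnoughRootsOfUnity K (Monoid.exponent (Multiplicative (ZMod r))) := by
  haveI : NeZero ((Monoid.exponent (Multiplicative (ZMod r)) : ℕ) : K) := ⟨fun h => hop.castX (by
    obtain ⟨k, hk⟩ : Monoid.exponent (Multiplicative (ZMod r)) ∣ Fintype.card (Multiplicative (ZMod r)) :=
      Monoid.exponent_dvd_of_forall_pow_eq_one fun g => pow_card_eq_one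
    rw [hk, Nat.cast_mul, h, zero_mul])⟩
  infer_instance

theorem card_chars (hop : Op ρ R a r) [Fintype (Multiplicative (ZMod r) →* Kˣ)] :
    Fintype.card (Multiplicative (ZMod r) →* Kˣ) = r := by
  haveI := hop.roots
  rw [← Nat.card_eq_fintype_card, CommGroup.card_monoidHom_of_hasEnoughRootsOfUnity (Multiplicative (ZMod r)) K,
    Nat.card_eq_fintype_card, card_X]

theorem sum_nW (hop : Op ρ R a r) (ha : a ∈ stabW ρ S) [Fintype (Multiplicative (ZMod r) →* Kˣ)] :
    ∑ χ, hop.nW ha χ = finrank K S := by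
  haveI := hop.roots
  exact (Grading.finrank_eq hop.castX (hop.phiS ha)).symm

theorem mem_weight_one (hop : Op ρ R a r) (ha : a ∈ stabW ρ S) {s : S} :
    s ∈ Grading.weight (hop.phiS ha) 1 ↔ ρ a s = (s : V) := by
  haveI : Fact (1 < r) := ⟨hop.prime.one_lt⟩
  constructor
  · intro h
    have h1 := congrArg Subtype.val (h (Multiplicative.ofAdd 1))
    rw [phiS, cycHom_gen] at h1
    simpa [restrW_apply] using h1
  · intro h x
    rw [MonoidHom.one_apply, Units.val_one, one_smul, phiS, cycHom_apply]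
    have h1 : restrW ρ S ⟨a, ha⟩ s = s := Subtype.ext h
    induction (Multiplicative.toAdd x).val with
    | zero => simp
    | succ i ih => rw [pow_succ, Module.End.mul_apply, h1, ih]

theorem nW_one_pos (hop : Op ρ R a r) (ha : a ∈ stabW ρ S) {s : V} (hs : s ∈ S) (hs0 : s ≠ 0)
    (has : ρ a s = s) : 1 ≤ hop.nW ha 1 := by
  by_contra h
  have h0 : hop.nW ha 1 = 0 := by omega
  have h1 : Grading.weight (hop.phiS ha) 1 = ⊥ := Submodule.finrank_eq_zero.mp h0
  have h2 : (⟨s, hs⟩ : S) ∈ Grading.weight (hop.phiS ha) 1 := (hop.mem_weight_one ha).mpr has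
  rw [h1, Submodule.mem_bot] at h2
  exact hs0 (congrArg Subtype.val h2)

theorem phiS_comm (hop : Op ρ R a r) (ha : a ∈ stabW ρ S) {x : H} (hx : x ∈ stabW ρ S) (hxa : Commute x a)
    (y : Multiplicative (ZMod r)) : restrW ρ S ⟨x, hx⟩ * hop.phiS ha y = hop.phiS ha y * restrW ρ S ⟨x, hx⟩ := by
  rw [phiS, cycHom_apply, ← map_pow, ← map_mul, ← map_mul]
  exact congrArg _ (Subtype.ext ((hxa.pow_right _).eq))

/-- The commutant of the action of `x` on an eigenspace. -/
noncomputable def cW (hop : Op ρ R a r) (ha : a ∈ stabW ρ S) {x : H} (hx : x ∈ stabW ρ S) (hxa : Commute x a)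
    (χ : Multiplicative (ZMod r) →* Kˣ) : ℕ :=
  finrank K (HallHigmanB.comm
    ((restrW ρ S ⟨x, hx⟩).restrict (weight_stable (hop.phiS ha) (hop.phiS_comm ha hx hxa) χ)))

/-- The commutants on the eigenspaces are counted by the orbits on the classes. -/
theorem count_le (hop : Op ρ R a r) (hP : Piece ρ R S) (ha : a ∈ stabW ρ S) {x : H} (hx : x ∈ stabW ρ S)
    (hxa : Commute x a) (hxR : x ∈ normalizer (R : Set H)) [Fintype (Cls ρ R)]
    [Fintype (Multiplicative (ZMod r) →* Kˣ)] (w : Cls ρ R → ℕ) (P : ℕ)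
    (hw : ∀ b, ∃ m : ℕ, (∀ i, 0 < i → i < m →
        (conjHom ρ R (⟨a, hop.norm⟩ * ⟨x, hxR⟩) ^ i) b ≠ b) ∧
      P ≤ ∑ i ∈ range m, w ((conjHom ρ R (⟨a, hop.norm⟩ * ⟨x, hxR⟩) ^ i) b)) :
    P * ∑ χ, hop.cW ha hx hxa χ ≤ ∑ b, w b := by
  haveI := hop.roots
  haveI : Fact (1 < r) := ⟨hop.prime.one_lt⟩
  set g : normalizer (R : Set H) := ⟨a, hop.norm⟩ * ⟨x, hxR⟩
  obtain ⟨O, hO, hcover⟩ := exists_orbit_reps (conjHom ρ R g) w P fun b => by
    obtain ⟨m, hm, hle⟩ := hw b
    exact ⟨m, iterates_injOn _ b hm, hle⟩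
  refine le_trans (Nat.mul_le_mul_left P ?_) hO
  obtain ⟨β, hβ⟩ := hop.heis.exists_basis hP.stab hP.ne hP.irr
  refine le_trans (blocks_le hop.castX (hop.phiS ha) (restrW ρ S ⟨x, hx⟩) (hop.phiS_comm ha hx hxa)) ?_
  set G : stabW ρ S := ⟨a, ha⟩ * ⟨x, hx⟩ with hG
  refine finrank_fixed_le β ((LinearMap.mulLeft K (restrW ρ S G)).comp (LinearMap.mulRight K (restrW ρ S G⁻¹)))
    (conjHom ρ R g) (fun b => ?_) hcover (fun f hf => ?_)
  · obtain ⟨c, hc⟩ := conjHom_smul_rep g b
    refine ⟨c, LinearMap.ext fun s => Subtype.ext ?_⟩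
    rw [hβ, hβ]
    have h1 := LinearMap.congr_fun hc (s : V)
    simp only [Module.End.mul_apply, LinearMap.smul_apply] at h1
    simpa [restrW_apply, G, g] using h1
  · have hfa : f * restrW ρ S ⟨a, ha⟩ = restrW ρ S ⟨a, ha⟩ * f := by
      have h1 := hf.1 (Multiplicative.ofAdd 1)
      rwa [phiS, cycHom_gen] at h1
    simp only [LinearMap.comp_apply, LinearMap.mulLeft_apply, LinearMap.mulRight_apply]
    rw [← mul_assoc, hG, map_mul, mul_assoc (restrW ρ S ⟨a, ha⟩), ← hf.2, ← mul_assoc _ f, ← hfa, mul_assoc f,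
      ← map_mul, mul_assoc, ← map_mul, mul_inv_cancel, map_one, mul_one]

/-- On an eigenspace of dimension `n`, an element acting trivially has a commutant of dimension `n ^ 2`. -/
theorem cW_eq_sq (hop : Op ρ R a r) (ha : a ∈ stabW ρ S) {x : H} (hx : x ∈ stabW ρ S) (hxa : Commute x a)
    (χ : Multiplicative (ZMod r) →* Kˣ)
    (h : ∀ s ∈ Grading.weight (hop.phiS ha) χ, restrW ρ S ⟨x, hx⟩ s = s) :
    hop.cW ha hx hxa χ = hop.nW ha χ ^ 2 := by
  have h1 : (restrW ρ S ⟨x, hx⟩).restrict (weight_stable (hop.phiS ha) (hop.phiS_comm ha hx hxa) χ) = 1 :=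
    LinearMap.ext fun s => Subtype.ext (h s s.2)
  have h2 : HallHigmanB.comm (1 : Module.End K (Grading.weight (hop.phiS ha) χ)) = ⊤ :=
    eq_top_iff.mpr fun f _ => HallHigmanB.mem_comm.mpr (by rw [mul_one, one_mul])
  rw [cW, h1, h2, finrank_top, Module.finrank_linearMap, sq, nW]

theorem base_weights (hop : Op ρ R a r) (hP : Piece ρ R S) [Fintype (Cls ρ R)] :
    Fintype.card (Cls ρ R) = finrank K S ^ 2 := by
  rw [← Nat.card_eq_fintype_card]; exact hP.card_cls hop.heis

theorem not_dvd_finrank (hop : Op ρ R a r) (hP : Piece ρ R S) : ¬ r ∣ finrank K S := fun h => hop.cop (by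
  have h1 : Nat.card (Cls ρ R) ∣ Nat.card R := Subgroup.card_quotient_dvd_card _
  rw [hP.card_cls hop.heis] at h1
  exact (h.trans (dvd_pow_self _ two_ne_zero)).trans h1)

/-- The multiplicities take two consecutive values, one of them once. -/
theorem multiplicities (hop : Op ρ R a r) (hP : Piece ρ R S) (ha : a ∈ stabW ρ S)
    [Fintype (Multiplicative (ZMod r) →* Kˣ)] :
    ∃ χ₀ : Multiplicative (ZMod r) →* Kˣ, ∃ l : ℕ, (∀ χ, χ ≠ χ₀ → hop.nW ha χ = l) ∧
      (hop.nW ha χ₀ = l + 1 ∨ hop.nW ha χ₀ + 1 = l) ∧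
      r * ∑ χ, hop.nW ha χ ^ 2 + 1 = finrank K S ^ 2 + r := by
  classical
  haveI := Fintype.ofFinite (Cls ρ R)
  have h1 := hop.count_le hP ha (one_mem _) (Commute.one_left a) (one_mem _)
    (fun b => if b = cl ρ R.one_mem then r else 1) r fun b => by
      by_cases hb : b = cl ρ R.one_mem
      · exact ⟨1, fun i h1 h2 => absurd h2 (by omega), by simp [hb]⟩
      · refine ⟨r, fun i h1 h2 h3 => hb (hop.base_of_pow_fixed (i := i) ?_ ?_), ?_⟩
        · exact Nat.Coprime.symm (hop.prime.coprime_iff_not_dvd.mpr fun hd => absurd (Nat.le_of_dvd h1 hd) (by omega))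
        · simpa [show (⟨1, one_mem _⟩ : normalizer (R : Set H)) = 1 from rfl] using h3
        · refine le_trans (le_of_eq (by simp)) (Finset.sum_le_sum fun i _ => show 1 ≤ _ by
            split_ifs
            · exact hop.prime.one_le
            · exact le_rfl)
  rw [Finset.sum_congr rfl fun χ _ => hop.cW_eq_sq ha (one_mem _) (Commute.one_left a) χ (fun s _ =>
    Subtype.ext (by simp [restrW_apply]))] at h1
  have h2 : ∑ b : Cls ρ R, (if b = cl ρ R.one_mem then r else 1) + 1 = finrank K S ^ 2 + r := by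
    rw [← hop.base_weights hP, ← Finset.sum_erase_add univ _ (Finset.mem_univ (cl ρ R.one_mem)), if_pos rfl,
      Finset.sum_congr rfl (fun b hb => if_neg (Finset.ne_of_mem_erase hb)), Finset.sum_const, smul_eq_mul, mul_one,
      Finset.card_erase_of_mem (Finset.mem_univ _), Finset.card_univ]
    have : 0 < Fintype.card (Cls ρ R) := Fintype.card_pos_iff.mpr ⟨cl ρ R.one_mem⟩
    omega
  obtain ⟨χ₀, l, hl, h3, h4⟩ := two_values hop.prime hop.card_chars (hop.nW ha)
    (by rw [hop.sum_nW ha]; omega) (by rw [hop.sum_nW ha]; exact hop.not_dvd_finrank hP)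
  rw [hop.sum_nW ha] at h4
  exact ⟨χ₀, l, hl, h3, h4⟩

/-- An element centralizing modulo scalars and commuting with `a` acts on the piece as a scalar. -/
theorem scalar_of_central (hop : Op ρ R a r) (hP : Piece ρ R S) (ha : a ∈ stabW ρ S) {y : H}
    (hy : y ∈ stabW ρ S) (hya : Commute y a) (hyR : y ∈ normalizer (R : Set H))
    (hc : conjHom ρ R ⟨y, hyR⟩ = 1) : ∃ c : K, restrW ρ S ⟨y, hy⟩ = c • 1 := by
  classical
  haveI := Fintype.ofFinite (Cls ρ R)
  haveI := hP.nontrivial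
  haveI : Nontrivial V := Function.Injective.nontrivial (Subtype.val_injective (p := (· ∈ S)))
  obtain ⟨β, hβ⟩ := hop.heis.exists_basis hP.stab hP.ne hP.irr
  set Y := restrW ρ S ⟨y, hy⟩ with hY
  let cr : Cls ρ R → stabW ρ S := fun b => ⟨rep b, hP.stab (rep_mem b)⟩
  have hβ0 : ∀ b, β b ≠ 0 := fun b => β.ne_zero b
  -- the coefficients are supported on one class
  have hsupp : ∀ b b', β.repr Y b ≠ 0 → β.repr Y b' ≠ 0 → b = b' := by
    intro b b' hb hb'
    by_contra hne
    obtain ⟨w, hw, hsep⟩ := hop.heis.separated hne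
    set W : stabW ρ S := ⟨w, hP.stab hw⟩
    choose c hc' using fun d : Cls ρ R => hop.heis.conj_rho hw (rep_mem d)
    have hcβ : ∀ d, restrW ρ S W * β d * restrW ρ S W⁻¹ = c d • β d := fun d => by
      refine LinearMap.ext fun s => Subtype.ext ?_
      have h1 := LinearMap.congr_fun (hc' d) (s : V)
      simp only [Module.End.mul_apply, LinearMap.smul_apply] at h1
      rw [hβ]
      simpa [restrW_apply, W] using h1
    obtain ⟨-, e, he⟩ : ⁅y, w⁆ ∈ Scal ρ R := (conjHom_one_iff _).mp hc w hw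
    have hWY : restrW ρ S W * Y * restrW ρ S W⁻¹ = e⁻¹ • Y := by
      have h1 : ρ (w * y * w⁻¹) = e⁻¹ • ρ y := by
        have h2 : ρ ⁅y, w⁆ * ρ (w * y * w⁻¹) = ρ y := by
          rw [← map_mul]; congr 1; simp [commutatorElement_def, mul_assoc]
        rw [he, smul_mul_assoc, one_mul] at h2
        rcases eq_or_ne e 0 with rfl | he0
        · exact absurd (show ρ y = 0 by rw [← h2, zero_smul]) (rho_ne_zero ρ y)
        · rw [← h2, smul_smul, inv_mul_cancel₀ he0, one_smul]
      rw [hY, ← map_mul, ← map_mul]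
      refine LinearMap.ext fun s => Subtype.ext ?_
      simpa [restrW_apply, W] using LinearMap.congr_fun h1 (s : V)
    have hcoef : ∀ d, β.repr Y d * c d = e⁻¹ * β.repr Y d := fun d => by
      have h1 : restrW ρ S W * Y * restrW ρ S W⁻¹ = ∑ d, (β.repr Y d * c d) • β d := by
        conv_lhs => rw [← β.sum_repr Y]
        rw [Finset.mul_sum, Finset.sum_mul]
        refine Finset.sum_congr rfl fun d _ => ?_
        rw [mul_smul_comm, smul_mul_assoc, hcβ, smul_smul]
      rw [hWY] at h1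
      have h2 := congrArg (fun f => β.repr f d) h1
      simp only [map_smul, Finsupp.smul_apply, smul_eq_mul, map_sum, Finsupp.finsetSum_apply, Basis.repr_self] at h2
      rw [h2]
      simp [Finsupp.single_apply]
    have e1 := hcoef b
    have e2 := hcoef b'
    rw [mul_comm e⁻¹] at e1 e2
    exact hsep _ _ (hc' b) (hc' b') ((mul_left_cancel₀ hb e1).trans (mul_left_cancel₀ hb' e2).symm)
  have hY0 : Y ≠ 0 := rho_ne_zero (restrW ρ S) _
  obtain ⟨b, hb⟩ : ∃ b, β.repr Y b ≠ 0 := by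
    by_contra hcon
    push Not at hcon
    exact hY0 (β.repr.map_eq_zero_iff.mp (Finsupp.ext hcon))
  have hYb : Y = β.repr Y b • β b := by
    conv_lhs => rw [← β.sum_repr Y]
    refine Finset.sum_eq_single b (fun d _ hd => ?_) (fun h => absurd (Finset.mem_univ b) h)
    rw [show β.repr Y d = 0 from by_contra fun h => hd (hsupp d b h hb), zero_smul]
  -- that class is fixed by `a`
  obtain ⟨k, hk⟩ := conjHom_smul_rep (⟨a, hop.norm⟩ : normalizer (R : Set H)) b
  have hk' : restrW ρ S ⟨a, ha⟩ * β b * restrW ρ S ⟨a, ha⟩⁻¹ = k • β (conjHom ρ R ⟨a, hop.norm⟩ b) := by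
    refine LinearMap.ext fun s => Subtype.ext ?_
    have h1 := LinearMap.congr_fun hk (s : V)
    simp only [Module.End.mul_apply, LinearMap.smul_apply] at h1
    rw [hβ, hβ]
    simpa [restrW_apply] using h1
  have hfix : conjHom ρ R ⟨a, hop.norm⟩ b = b := by
    by_contra hne
    have h1 : restrW ρ S ⟨a, ha⟩ * Y * restrW ρ S ⟨a, ha⟩⁻¹ = Y := by
      rw [hY, ← map_mul, ← map_mul]
      exact congrArg _ (Subtype.ext (show a * y * a⁻¹ = y by rw [← hya.eq, mul_inv_cancel_right]))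
    rw [hYb, mul_smul_comm, smul_mul_assoc, hk', smul_smul] at h1
    have h2 := congrArg (fun f => β.repr f b) h1
    simp only [map_smul, Finsupp.smul_apply, smul_eq_mul, Basis.repr_self, Finsupp.single_apply, if_neg hne,
      if_true, mul_zero, mul_one] at h2
    exact hb h2.symm
  obtain ⟨-, c₀, hc₀⟩ : rep b ∈ Scal ρ R := (cl_one_iff (rep_mem b)).mp (by rw [cl_rep]; exact hop.fixed_base hfix)
  refine ⟨β.repr Y b * c₀, ?_⟩
  rw [hYb, mul_smul]
  congr 1
  · simp [hb]
  · rw [hβ]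
    refine LinearMap.ext fun s => Subtype.ext ?_
    simpa [restrW_apply] using LinearMap.congr_fun hc₀ (s : V)

/-- The same with a fixed vector: the action is trivial. -/
theorem trivial_of_central (hop : Op ρ R a r) (hP : Piece ρ R S) (ha : a ∈ stabW ρ S) {y : H}
    (hy : y ∈ stabW ρ S) (hya : Commute y a) (hyR : y ∈ normalizer (R : Set H))
    (hc : conjHom ρ R ⟨y, hyR⟩ = 1) {s : V} (hs : s ∈ S) (hs0 : s ≠ 0) (hys : ρ y s = s) :
    restrW ρ S ⟨y, hy⟩ = 1 := by
  obtain ⟨c, hc'⟩ := hop.scalar_of_central hP ha hy hya hyR hc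
  have h1 := congrArg Subtype.val (LinearMap.congr_fun hc' ⟨s, hs⟩)
  rw [restrW_apply] at h1
  simp only [LinearMap.smul_apply, Module.End.one_apply, Submodule.coe_smul] at h1
  rw [hys] at h1
  have h2 : (c - 1) • s = 0 := by rw [sub_smul, one_smul, ← h1, sub_self]
  rw [hc', sub_eq_zero.mp ((smul_eq_zero.mp h2).resolve_right hs0), one_smul]

/-- The estimate for an element of prime order `t` fixing the fixed vectors of `a`. -/
theorem prime_ineq (hop : Op ρ R a r) (hP : Piece ρ R S) (ha : a ∈ stabW ρ S) {x : H} (hx : x ∈ stabW ρ S)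
    (hxa : Commute x a) (hxR : x ∈ normalizer (R : Set H)) {t : ℕ} (ht : t.Prime) (htr : t ≠ r)
    (hxt : conjHom ρ R ⟨x, hxR⟩ ^ t = 1) (hxV : ∀ v, ρ a v = v → ρ x v = v) {s : V} (hs : s ∈ S) (hs0 : s ≠ 0)
    (has : ρ a s = s) [Fintype (Cls ρ R)] [Fintype (Multiplicative (ZMod r) →* Kˣ)]
    [DecidableEq (Cls ρ R)] (χ : Multiplicative (ZMod r) →* Kˣ) (hχ : χ ≠ 1) :
    r * (t - 1) * hop.nW ha 1 ^ 2 + finrank K S ^ 2 + r + r * (t * hop.cW ha hx hxa χ - hop.nW ha χ ^ 2) ≤
      (t - 1) * (univ.filter fun b => conjHom ρ R ⟨x, hxR⟩ b = b).card + finrank K S ^ 2 + r * t - t + 1 := by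
  classical
  set πa := conjHom ρ R ⟨a, hop.norm⟩
  set πx := conjHom ρ R ⟨x, hxR⟩
  set b₀ := cl ρ R.one_mem
  have hcomm : Commute πa πx :=
    (show Commute (⟨a, hop.norm⟩ : normalizer (R : Set H)) ⟨x, hxR⟩ from Subtype.ext hxa.eq.symm).map _
  have hpi : ∀ i, conjHom ρ R (⟨a, hop.norm⟩ * ⟨x, hxR⟩) ^ i = πa ^ i * πx ^ i := fun i => by
    rw [map_mul]; exact hcomm.mul_pow i
  have hfixcomm : ∀ i b, πx b = b → πx ((πa ^ i) b) = (πa ^ i) b := fun i b hb => by
    rw [← Equiv.Perm.mul_apply, ← (hcomm.pow_left i).eq, Equiv.Perm.mul_apply, hb]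
  have hxpow : ∀ i b, πx b = b → (πx ^ i) b = b := fun i b hb => by
    induction i with
    | zero => rfl
    | succ i ih => rw [pow_succ, Equiv.Perm.mul_apply, hb, ih]
  let w : Cls ρ R → ℕ := fun b => if b = b₀ then r * t else if πx b = b then t else 1
  have hw1 : ∀ b, 1 ≤ w b := fun b => by
    have := ht.one_le
    have := Nat.mul_pos hop.prime.pos ht.pos
    simp only [w]; split_ifs <;> omega
  have hcount := hop.count_le hP ha hx hxa hxR w (r * t) fun b => by
    by_cases hb : b = b₀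
    · exact ⟨1, fun i h1 h2 => absurd h2 (by omega), by simp [w, hb]⟩
    by_cases hbx : πx b = b
    · refine ⟨r, fun i h1 h2 h3 => hb (hop.base_of_pow_fixed (i := i) ?_ ?_), ?_⟩
      · exact Nat.Coprime.symm (hop.prime.coprime_iff_not_dvd.mpr fun hd => absurd (Nat.le_of_dvd h1 hd) (by omega))
      · rwa [hpi, Equiv.Perm.mul_apply, hxpow i b hbx] at h3
      · refine le_trans (le_of_eq (show r * t = ∑ _i ∈ range r, t by simp)) (Finset.sum_le_sum fun i _ => ?_)
        rw [hpi, Equiv.Perm.mul_apply, hxpow i b hbx]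
        simp only [w, if_pos (hfixcomm i b hbx)]
        split_ifs
        · exact Nat.le_mul_of_pos_left t hop.prime.pos
        · exact le_rfl
    · refine ⟨r * t, fun i h1 h2 h3 => ?_,
        le_trans (le_of_eq (show r * t = ∑ _i ∈ range (r * t), 1 by simp)) (Finset.sum_le_sum fun i _ => hw1 _)⟩
      have h4 : (conjHom ρ R (⟨a, hop.norm⟩ * ⟨x, hxR⟩) ^ (r * t)) b = b := by
        rw [hpi, pow_mul, hop.conj_pow, one_pow, one_mul, mul_comm r t, pow_mul, hxt, one_pow]
        rfl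
      have h5 := pow_gcd_fixed _ b h3 h4
      set g := i.gcd (r * t)
      have hg : g ∣ r * t := Nat.gcd_dvd_right _ _
      have hglt : g < r * t := lt_of_le_of_lt (Nat.le_of_dvd h1 (Nat.gcd_dvd_left _ _)) h2
      have hg' : g ∣ r ∨ g ∣ t := by
        by_cases hrg : r ∣ g
        · obtain ⟨k, hk⟩ := hrg
          rw [hk] at hg hglt
          rcases (Nat.dvd_prime ht).mp (Nat.dvd_of_mul_dvd_mul_left hop.prime.pos hg) with rfl | rfl
          · exact Or.inl (by rw [hk, mul_one])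
          · exact absurd hglt (lt_irrefl _)
        · exact Or.inr (((hop.prime.coprime_iff_not_dvd.mpr hrg).symm).dvd_of_dvd_mul_left hg)
      rcases hg' with ⟨k, hk⟩ | ⟨k, hk⟩
      · have h6 : (conjHom ρ R (⟨a, hop.norm⟩ * ⟨x, hxR⟩) ^ r) b = b := by
          have := (MulAction.stabilizer (Equiv.Perm (Cls ρ R)) b).pow_mem h5 k
          rw [← pow_mul, ← hk] at this
          exact this
        rw [hpi, hop.conj_pow, one_mul] at h6
        have h7 := pow_gcd_fixed πx b h6 (show (πx ^ t) b = b by rw [hxt]; rfl)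
        rw [Nat.coprime_iff_gcd_eq_one.mp ((Nat.coprime_primes hop.prime ht).mpr htr.symm), pow_one] at h7
        exact hbx h7
      · have h6 : (conjHom ρ R (⟨a, hop.norm⟩ * ⟨x, hxR⟩) ^ t) b = b := by
          have := (MulAction.stabilizer (Equiv.Perm (Cls ρ R)) b).pow_mem h5 k
          rw [← pow_mul, ← hk] at this
          exact this
        rw [hpi, hxt, mul_one] at h6
        exact hb (hop.base_of_pow_fixed ((Nat.coprime_primes ht hop.prime).mpr htr) h6)
  -- the sum of the weights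
  have hsum : ∑ b, w b + t = (t - 1) * (univ.filter fun b => πx b = b).card + finrank K S ^ 2 + r * t := by
    have h0 : b₀ ∈ univ.filter fun b => πx b = b := Finset.mem_filter.mpr ⟨Finset.mem_univ _, conjHom_base _⟩
    have e : ∀ b, w b + (if b = b₀ then t else 0) = 1 + (if πx b = b then t - 1 else 0) +
        (if b = b₀ then r * t else 0) := fun b => by
      have := ht.one_le
      by_cases hb : b = b₀
      · have hb' : πx b = b := by rw [hb]; exact conjHom_base _
        simp only [w, if_pos hb, if_pos hb']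
        omega
      · simp only [w, if_neg hb]
        split_ifs <;> omega
    have := Finset.sum_congr rfl fun b (_ : b ∈ (univ : Finset (Cls ρ R))) => e b
    rw [Finset.sum_add_distrib, Finset.sum_add_distrib, Finset.sum_add_distrib, Finset.sum_ite_eq',
      if_pos (Finset.mem_univ _), Finset.sum_ite_eq', if_pos (Finset.mem_univ _), Finset.sum_const, smul_eq_mul,
      mul_one, Finset.card_univ, hop.base_weights hP, ← Finset.sum_filter, Finset.sum_const, smul_eq_mul] at this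
    rw [this]
    ring
  -- the blocks
  obtain ⟨χ₀, l, -, -, hex⟩ := hop.multiplicities hP ha
  have hYt : restrW ρ S ⟨x, hx⟩ ^ t = 1 := by
    have hxt' : conjHom ρ R ⟨x ^ t, (normalizer (R : Set H)).pow_mem hxR t⟩ = 1 := by
      rw [← hxt, ← map_pow]; rfl
    have hys : ρ (x ^ t) s = s := rho_pow_fix (hxV s has) t
    rw [← map_pow]
    exact hop.trivial_of_central hP ha ((stabW ρ S).pow_mem hx t) (hxa.pow_left t) _ hxt' hs hs0 hys
  have hn : ∀ ξ, hop.nW ha ξ ^ 2 ≤ t * hop.cW ha hx hxa ξ := fun ξ => by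
    refine sq_le_comm ht _ (c := 1) one_ne_zero ?_
    rw [one_smul]
    refine LinearMap.ext fun z => Subtype.ext ?_
    rw [Module.End.pow_restrict t, LinearMap.coe_restrict_apply, hYt]
    rfl
  have h1 : hop.cW ha hx hxa 1 = hop.nW ha 1 ^ 2 := hop.cW_eq_sq ha hx hxa 1 fun z hz =>
    Subtype.ext (hxV _ ((hop.mem_weight_one ha).mp hz))
  have hsplit : ∑ ξ, hop.nW ha ξ ^ 2 + (t - 1) * hop.nW ha 1 ^ 2 + (t * hop.cW ha hx hxa χ - hop.nW ha χ ^ 2) ≤
      ∑ ξ, t * hop.cW ha hx hxa ξ := by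
    rw [← Finset.add_sum_erase univ _ (Finset.mem_univ 1),
      ← Finset.add_sum_erase univ (fun ξ => t * hop.cW ha hx hxa ξ) (Finset.mem_univ 1), h1]
    have hmem : χ ∈ univ.erase (1 : Multiplicative (ZMod r) →* Kˣ) := Finset.mem_erase.mpr ⟨hχ, Finset.mem_univ _⟩
    rw [← Finset.add_sum_erase _ _ hmem,
      ← Finset.add_sum_erase _ (fun ξ => t * hop.cW ha hx hxa ξ) hmem]
    have := Finset.sum_le_sum (s := (univ.erase (1 : Multiplicative (ZMod r) →* Kˣ)).erase χ) fun ξ _ => hn ξ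
    have := hn χ
    have : t * hop.nW ha 1 ^ 2 = (t - 1) * hop.nW ha 1 ^ 2 + hop.nW ha 1 ^ 2 := by
      rw [Nat.sub_mul, one_mul, Nat.sub_add_cancel (Nat.le_mul_of_pos_left _ ht.pos)]
    omega
  rw [← Finset.mul_sum] at hsplit
  have h2 := (Nat.mul_le_mul_left r hsplit).trans (le_of_eq (mul_assoc r t _).symm) |>.trans hcount
  rw [mul_add, mul_add, ← mul_assoc r (t - 1)] at h2
  have h3 : t ≤ r * t := Nat.le_mul_of_pos_left t hop.prime.pos
  omega

/-- An element of prime order without fixed classes: the exceptional configuration. -/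
theorem prime_fpf (hop : Op ρ R a r) (hP : Piece ρ R S) (ha : a ∈ stabW ρ S) {x : H} (hx : x ∈ stabW ρ S)
    (hxa : Commute x a) (hxR : x ∈ normalizer (R : Set H)) {t : ℕ} (ht : t.Prime) (htr : t ≠ r)
    (hxt : conjHom ρ R ⟨x, hxR⟩ ^ t = 1) (hne : conjHom ρ R ⟨x, hxR⟩ ≠ 1)
    (hfree : ∀ b, conjHom ρ R ⟨x, hxR⟩ b = b → b = cl ρ R.one_mem) (hxV : ∀ v, ρ a v = v → ρ x v = v)
    {s : V} (hs : s ∈ S) (hs0 : s ≠ 0) (has : ρ a s = s) [Fintype (Multiplicative (ZMod r) →* Kˣ)] :
    t = 2 ∧ finrank K S + 1 = 2 * r ∧ hop.nW ha 1 = 1 ∧ ∀ χ, χ ≠ 1 → hop.nW ha χ = 2 := by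
  classical
  haveI := Fintype.ofFinite (Cls ρ R)
  have hfilter : (univ.filter fun b => conjHom ρ R ⟨x, hxR⟩ b = b) = {cl ρ R.one_mem} := by
    ext b
    simp only [Finset.mem_filter, Finset.mem_univ, true_and, Finset.mem_singleton]
    exact ⟨hfree b, fun h => h ▸ conjHom_base _⟩
  have hn1 := hop.nW_one_pos ha hs hs0 has
  obtain ⟨m, hm⟩ : ∃ m, t = m + 2 := ⟨t - 2, by have := ht.two_le; omega⟩
  have hkey : ∀ χ, χ ≠ 1 → hop.nW ha 1 = 1 ∧ t ∣ hop.nW ha χ := by
    intro χ hχ
    have h1 := hop.prime_ineq hP ha hx hxa hxR ht htr hxt hxV hs hs0 has χ hχ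
    rw [hfilter, Finset.card_singleton, mul_one] at h1
    have hsq : 1 ≤ hop.nW ha 1 ^ 2 := Nat.one_le_pow _ _ (by omega)
    set N := hop.nW ha 1 ^ 2 with hN
    set G := t * hop.cW ha hx hxa χ - hop.nW ha χ ^ 2 with hG
    have e1 : t - 1 = m + 1 := by omega
    rw [e1, hm] at h1
    have e2 : r * (m + 2) = r * (m + 1) + r := by ring
    have e3 : r * (m + 1) ≤ r * (m + 1) * N := Nat.le_mul_of_pos_right _ hsq
    have h2 : r * (m + 1) * N + r * G ≤ r * (m + 1) := by
      have : m + 2 ≤ r * (m + 2) := Nat.le_mul_of_pos_left _ hop.prime.pos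
      omega
    have hG0 : G = 0 := by
      rcases Nat.eq_zero_or_pos G with h | h
      · exact h
      · have := Nat.mul_pos hop.prime.pos h
        omega
    have hN1 : N = 1 := by
      by_contra hN1
      have : r * (m + 1) * 2 ≤ r * (m + 1) * N := Nat.mul_le_mul_left _ (by omega)
      have := Nat.mul_pos hop.prime.pos (show 0 < m + 1 by omega)
      omega
    refine ⟨(Nat.pow_eq_one.mp hN1).resolve_right two_ne_zero, ht.dvd_of_dvd_pow (n := 2) ⟨hop.cW ha hx hxa χ, ?_⟩⟩
    have hle : hop.nW ha χ ^ 2 ≤ t * hop.cW ha hx hxa χ := by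
      refine sq_le_comm ht _ (c := 1) one_ne_zero ?_
      rw [one_smul]
      refine LinearMap.ext fun z => Subtype.ext ?_
      rw [Module.End.pow_restrict t, LinearMap.coe_restrict_apply]
      have hys : ρ (x ^ t) s = s := rho_pow_fix (hxV s has) t
      have hxt' : conjHom ρ R ⟨x ^ t, (normalizer (R : Set H)).pow_mem hxR t⟩ = 1 := by
        rw [← hxt, ← map_pow]; rfl
      rw [← map_pow, show (⟨x, hx⟩ : stabW ρ S) ^ t = ⟨x ^ t, (stabW ρ S).pow_mem hx t⟩ from rfl,
        hop.trivial_of_central hP ha _ (hxa.pow_left t) _ hxt' hs hs0 hys]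
      rfl
    omega
  obtain ⟨χ₀, l, hl, hexc, -⟩ := hop.multiplicities hP ha
  have hcard := hop.card_chars
  have hd1 : finrank K S ≠ 1 := fun h => hne (Equiv.ext fun b => by
    have h1 : Fintype.card (Cls ρ R) = 1 := by rw [hop.base_weights hP, h, one_pow]
    haveI := Fintype.card_le_one_iff_subsingleton.mp h1.le
    exact Subsingleton.elim _ _)
  have hsum := hop.sum_nW ha
  have h2card : 2 ≤ Fintype.card (Multiplicative (ZMod r) →* Kˣ) := by rw [hcard]; exact hop.prime.two_le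
  obtain ⟨ξ, hξ⟩ := Fintype.exists_ne_of_one_lt_card (by omega) (1 : Multiplicative (ZMod r) →* Kˣ)
  have hn11 := (hkey ξ hξ).1
  have hsumEq : ∑ χ, hop.nW ha χ + l = r * l + hop.nW ha χ₀ := by
    rw [← Finset.add_sum_erase univ _ (Finset.mem_univ χ₀),
      Finset.sum_congr rfl (fun χ hχ => hl χ (Finset.ne_of_mem_erase hχ)), Finset.sum_const,
      Finset.card_erase_of_mem (Finset.mem_univ _), Finset.card_univ, hcard, smul_eq_mul]
    have : (r - 1) * l + l = r * l := by
      rw [Nat.sub_mul, one_mul, Nat.sub_add_cancel (Nat.le_mul_of_pos_left l hop.prime.pos)]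
    omega
  by_cases h10 : χ₀ = 1
  · subst h10
    rcases hexc with h | h
    · exact absurd (show finrank K S = 1 by
        have : r * l = 0 := by rw [show l = 0 by omega, mul_zero]
        omega) hd1
    · have hl2 : l = 2 := by omega
      subst hl2
      refine ⟨?_, by omega, hn11, fun χ hχ => hl χ hχ⟩
      have := (hkey ξ hξ).2
      rw [hl ξ hξ] at this
      exact (Nat.prime_dvd_prime_iff_eq ht Nat.prime_two).mp this
  · have hl1 : l = 1 := (hl 1 (Ne.symm h10)).symm.trans hn11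
    subst hl1
    have hd := (hkey χ₀ h10).2
    exfalso
    by_cases hr2 : r = 2
    · subst hr2
      rcases hexc with h | h
      · rw [h] at hd
        exact htr ((Nat.prime_dvd_prime_iff_eq ht Nat.prime_two).mp hd)
      · exact hd1 (by omega)
    · obtain ⟨η, hη⟩ : ((univ.erase (1 : Multiplicative (ZMod r) →* Kˣ)).erase χ₀).Nonempty := by
        rw [← Finset.card_pos, Finset.card_erase_of_mem (Finset.mem_erase.mpr ⟨h10, Finset.mem_univ _⟩),
          Finset.card_erase_of_mem (Finset.mem_univ _), Finset.card_univ, hcard]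
        have := hop.prime.two_le
        omega
      have h1 := (hkey η (Finset.ne_of_mem_erase (Finset.mem_of_mem_erase hη))).2
      rw [hl η (Finset.ne_of_mem_erase hη)] at h1
      exact ht.ne_one (Nat.dvd_one.mp h1)

end Op

end CfsgLib.Turull
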