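import Cfsg.Agent.Lib.Turull.Pair
import Cfsg.Agent.Lib.Turull.Util

/-!
The two consequences of the count: without fixed vectors the commuting operators centralize modulo scalars,
and with fixed vectors those fixing them centralize or invert.
-/

set_option autoImplicit false

namespace CfsgLib.Turull

open Subgroup Finset Module CfsgLib.FittingHeight
open scoped commutatorElement

universe u v w

variable {H : Type u} [Group H] {K : Type v} [Field K] {V : Type w} [AddCommGroup V] [Module K V]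
  {ρ : H →* Module.End K V} {R : Subgroup H}

/-- The elements of `R` that `x` centralizes modulo scalars. -/
def fixC (ρ : H →* Module.End K V) (R : Subgroup H) (x : H) (hx : x ∈ normalizer (R : Set H)) : Subgroup H where
  carrier := {u | u ∈ R ∧ ⁅x, u⁆ ∈ Scal ρ R}
  one_mem' := ⟨R.one_mem, by rw [commutatorElement_one_right]; exact one_mem _⟩
  mul_mem' := by
    rintro u w ⟨hu, hu'⟩ ⟨hw, hw'⟩
    refine ⟨R.mul_mem hu hw, ?_⟩
    rw [show ⁅x, u * w⁆ = ⁅x, u⁆ * (u * ⁅x, w⁆ * u⁻¹) by simp [commutatorElement_def, mul_assoc]]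
    exact mul_mem hu' (conj_mem_scal (le_normalizer hu) hw')
  inv_mem' := by
    rintro u ⟨hu, hu'⟩
    refine ⟨R.inv_mem hu, ?_⟩
    rw [show ⁅x, u⁻¹⁆ = u⁻¹ * ⁅x, u⁆⁻¹ * u⁻¹⁻¹ by simp [commutatorElement_def, mul_assoc]]
    exact conj_mem_scal (inv_mem (le_normalizer hu)) (inv_mem hu')

theorem mem_fixC {x u : H} {hx : x ∈ normalizer (R : Set H)} :
    u ∈ fixC ρ R x hx ↔ u ∈ R ∧ ⁅x, u⁆ ∈ Scal ρ R := Iff.rfl

variable [Finite H]

namespace Heis

variable (hH : Heis ρ R)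
include hH

theorem mul_left {u v w : H} (hu : u ∈ R) (hv : v ∈ R) (hw : w ∈ R) :
    ρ ⁅u * v, w⁆ = ρ ⁅u, w⁆ * ρ ⁅v, w⁆ := by
  obtain ⟨c, hc⟩ := hH.comm v hv w hw
  rw [show ⁅u * v, w⁆ = u * ⁅v, w⁆ * u⁻¹ * ⁅u, w⁆ by simp [commutatorElement_def, mul_assoc], map_mul, map_mul,
    map_mul, hc, mul_smul_comm, mul_one, smul_mul_assoc (x := ρ u), ← map_mul, mul_inv_cancel, map_one,
    smul_mul_assoc, one_mul, mul_smul_comm, mul_one]

theorem mul_right {u v w : H} (hu : u ∈ R) (hv : v ∈ R) (hw : w ∈ R) :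
    ρ ⁅u, v * w⁆ = ρ ⁅u, v⁆ * ρ ⁅u, w⁆ := by
  obtain ⟨c, hc⟩ := hH.comm u hu w hw
  rw [show ⁅u, v * w⁆ = ⁅u, v⁆ * (v * ⁅u, w⁆ * v⁻¹) by simp [commutatorElement_def, mul_assoc], map_mul, map_mul,
    map_mul, hc]
  simp only [mul_smul_comm, smul_mul_assoc, mul_one, ← map_mul, mul_inv_cancel, map_one]

theorem conj_comm {g u w : H} (hu : u ∈ R) (hw : w ∈ R) :
    ρ ⁅g * u * g⁻¹, g * w * g⁻¹⁆ = ρ ⁅u, w⁆ := by
  obtain ⟨c, hc⟩ := hH.comm u hu w hw
  rw [show ⁅g * u * g⁻¹, g * w * g⁻¹⁆ = g * ⁅u, w⁆ * g⁻¹ by simp [commutatorElement_def, mul_assoc], map_mul,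
    map_mul, hc, mul_smul_comm, mul_one, smul_mul_assoc, ← map_mul, mul_inv_cancel, map_one]

theorem comm_scal {u w : H} (hu : u ∈ R) (hw : w ∈ R) : ⁅u, w⁆ ∈ Scal ρ R :=
  ⟨comm_mem_of_normalizes (le_normalizer hu) hw, hH.comm u hu w hw⟩

/-- The classes commute. -/
theorem cl_comm {u w : H} (hu : u ∈ R) (hw : w ∈ R) : cl ρ (R.mul_mem hu hw) = cl ρ (R.mul_mem hw hu) := by
  rw [cl_eq_cl_iff, show (u * w)⁻¹ * (w * u) = ⁅w⁻¹, u⁻¹⁆ by simp [commutatorElement_def, mul_assoc]]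
  exact hH.comm_scal (R.inv_mem hw) (R.inv_mem hu)

end Heis

omit [Finite H] in
/-- An operator of a one-dimensional space commutes with something. -/
theorem one_le_comm {W : Type*} [AddCommGroup W] [Module K W] [FiniteDimensional K W] (hW : finrank K W = 1)
    (S : Module.End K W) : 1 ≤ finrank K (HallHigmanB.comm S) := by
  haveI : Nontrivial W := Module.nontrivial_of_finrank_pos (R := K) (by omega)
  refine Submodule.one_le_finrank_iff.mpr fun h0 => ?_
  have h1 : (1 : Module.End K W) ∈ HallHigmanB.comm S := HallHigmanB.mem_comm.mpr (by rw [mul_one, one_mul])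
  rw [h0, Submodule.mem_bot] at h1
  exact one_ne_zero h1

namespace Op

variable {a : H} {r : ℕ} [FiniteDimensional K V] [IsAlgClosed K]

/-- Without fixed vectors, the group is scalar if of odd order, and commuting operators of order prime to `r`
centralize modulo scalars. -/
theorem no_fixed (hop : Op ρ R a r) [Nontrivial V] (hV : ∀ v, ρ a v = v → v = 0) :
    (Odd (Nat.card R) → R ≤ Scal ρ R) ∧
      ∀ x, x ∈ normalizer (R : Set H) → Commute x a → ∀ M : ℕ, x ^ M = 1 → M.Coprime r →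
        ∀ u ∈ R, ⁅x, u⁆ ∈ Scal ρ R := by
  classical
  haveI : NeZero r := ⟨hop.prime.ne_zero⟩
  haveI : Fact (1 < r) := ⟨hop.prime.one_lt⟩
  haveI := Fintype.ofFinite (Cls ρ R)
  haveI := hop.roots
  haveI := Fintype.ofFinite (Multiplicative (ZMod r) →* Kˣ)
  obtain ⟨ζ, hζ⟩ := Module.End.exists_eigenvalue (ρ a)
  obtain ⟨v, hv, hv0⟩ := hζ.exists_hasEigenvector
  obtain ⟨c, S, hP, ha, hc, -⟩ := hop.exists_piece_op hv0 (Module.End.mem_eigenspace_iff.mp hv)
  haveI := hP.nontrivial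
  have hn1 : hop.nW ha 1 = 0 := by
    refine Submodule.finrank_eq_zero.mpr (eq_bot_iff.mpr fun s hs => ?_)
    exact (Submodule.mem_bot K).mpr (Subtype.ext (hV _ ((hop.mem_weight_one ha).mp hs)))
  obtain ⟨χ₀, l, hl, hexc, -⟩ := hop.multiplicities hP ha
  have hd : (χ₀ = 1 ∧ l = 1) ∨ (l = 0 ∧ hop.nW ha χ₀ = 1) := by
    by_cases h : χ₀ = 1
    · subst h; exact Or.inl ⟨rfl, by omega⟩
    · have := hl 1 (Ne.symm h); exact Or.inr ⟨by omega, by omega⟩
  have hsmall : ∀ χ, hop.nW ha χ ≤ 1 := fun χ => by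
    by_cases h : χ = χ₀
    · subst h; rcases hd with ⟨rfl, -⟩ | ⟨-, h'⟩ <;> omega
    · rw [hl χ h]; omega
  refine ⟨fun hodd => ?_, ?_⟩
  · have hsum := hop.sum_nW ha
    rw [← Finset.add_sum_erase univ _ (Finset.mem_univ χ₀),
      Finset.sum_congr rfl (fun χ hχ => hl χ (Finset.ne_of_mem_erase hχ)), Finset.sum_const,
      Finset.card_erase_of_mem (Finset.mem_univ _), Finset.card_univ, hop.card_chars, smul_eq_mul] at hsum
    have hdodd : Odd (finrank K S) := by
      have h1 : Nat.card (Cls ρ R) ∣ Nat.card R := Subgroup.card_quotient_dvd_card _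
      rw [hP.card_cls hop.heis] at h1
      exact (Nat.odd_pow_iff two_ne_zero).mp (hodd.of_dvd_nat h1)
    have hd1 : finrank K S = 1 := by
      rcases hd with ⟨h1, rfl⟩ | ⟨rfl, h1⟩
      · subst h1
        rcases hop.prime.eq_two_or_odd' with rfl | hr
        · omega
        · obtain ⟨k, hk⟩ := hdodd
          obtain ⟨m, hm⟩ := hr
          omega
      · rw [mul_zero] at hsum; omega
    have hcard : Fintype.card (Cls ρ R) = 1 := by rw [hop.base_weights hP, hd1, one_pow]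
    haveI := Fintype.card_le_one_iff_subsingleton.mp hcard.le
    exact fun u hu => (cl_one_iff hu).mp (Subsingleton.elim _ _)
  intro x hxR hxa M hxM hM u hu
  by_contra hxu
  set πa := conjHom ρ R ⟨a, hop.norm⟩
  set πx := conjHom ρ R ⟨x, hxR⟩
  have hfix : ¬ πx (cl ρ hu) = cl ρ hu := fun h => hxu ((conjHom_fixed_iff _ hu).mp h)
  set A : Module.End K V := c • inter ρ R a with hA
  have hAS : ∀ w ∈ S, A w = ρ a w := fun w hw => (hc w hw).symm
  have hApow : ∀ i : ℕ, ∀ w ∈ S, (A ^ i) w = ρ (a ^ i) w := by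
    intro i
    induction i with
    | zero => intro w _; simp
    | succ i ih =>
      intro w hw
      rw [pow_succ', Module.End.mul_apply, ih w hw, hAS _ (((stabW ρ S).pow_mem ha i).1 w hw), ← rho_mul,
        ← pow_succ']
  let E : (Multiplicative (ZMod r) →* Kˣ) → Module.End K V := fun χ =>
    (Fintype.card (Multiplicative (ZMod r)) : K)⁻¹ •
      ∑ y : Multiplicative (ZMod r), ((χ y⁻¹ : Kˣ) : K) • A ^ (Multiplicative.toAdd y).val
  have hE : ∀ χ (s : S), E χ s = (Grading.proj (hop.phiS ha) χ s : V) := fun χ s => by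
    rw [Grading.proj_apply]
    simp only [E, LinearMap.smul_apply, LinearMap.sum_apply, Submodule.coe_smul, Submodule.coe_sum]
    refine congrArg _ (Finset.sum_congr rfl fun y _ => ?_)
    rw [hApow _ _ s.2, phiS, cycHom_apply, ← map_pow, restrW_apply]
    rfl
  have hAspan : A ∈ spanR ρ R := Submodule.smul_mem _ _ (inter_mem_spanR hop.norm)
  have hEspan : ∀ χ, E χ ∈ spanR ρ R := fun χ => Submodule.smul_mem _ _
    (Submodule.sum_mem _ fun y _ => Submodule.smul_mem _ _ (pow_mem_spanR hAspan _))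
  have hxA : Commute (ρ x) A := by
    show ρ x * A = A * ρ x
    rw [hA, mul_smul_comm, smul_mul_assoc, inter_comm hxR hxa]
  have hxE : ∀ χ, Commute (ρ x) (E χ) := fun χ =>
    (Commute.sum_right _ _ _ fun y _ => (hxA.pow_right _).smul_right _).smul_right _
  have hmem : ∀ w ∈ R, ∀ i : ℕ, a ^ i * w * (a ^ i)⁻¹ ∈ R := fun w hw i =>
    conj_mem_of_mem_normalizer ((normalizer (R : Set H)).pow_mem hop.norm i) hw
  let F : H → Module.End K V := fun w => ∑ i ∈ range r, ρ (a ^ i * w * (a ^ i)⁻¹)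
  have hFa : ∀ w, ρ a * F w = F w * ρ a := fun w => by
    have h1 := sum_range_succ' (fun i => ρ (a ^ i * w * (a ^ i)⁻¹)) r
    rw [sum_range_succ, hop.pow, pow_zero, add_left_inj] at h1
    simp only [F, Finset.mul_sum]
    rw [Finset.sum_mul]
    conv_rhs => rw [← Finset.sum_mul, h1, Finset.sum_mul]
    refine Finset.sum_congr rfl fun i _ => ?_
    rw [← map_mul, ← map_mul]
    congr 1
    rw [pow_succ']
    group
  have hFspan : ∀ w ∈ R, F w ∈ spanR ρ R := fun w hw => Submodule.sum_mem _ fun i _ => rho_mem_spanR (hmem w hw i)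
  have hFx : Commute (ρ x) (F u) := by
    have hFS : ∀ s ∈ S, F u s ∈ S := spanR_stable hP.stab (hFspan u hu)
    have hst : ∀ χ, ∀ s ∈ Grading.weight (hop.phiS ha) χ,
        (F u).restrict hFS s ∈ Grading.weight (hop.phiS ha) χ := by
      refine fun χ => weight_stable (hop.phiS ha) (fun y => ?_) χ
      have hcom : ∀ i : ℕ, Commute (F u) (ρ (a ^ i)) := fun i => by
        rw [map_pow]
        exact (show Commute (F u) (ρ a) from (hFa u).symm).pow_right i
      refine LinearMap.ext fun s => Subtype.ext ?_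
      rw [phiS, cycHom_apply, ← map_pow]
      exact LinearMap.congr_fun (hcom _).eq (s : V)
    have hsc : ∀ χ, ∃ k : K, ∀ s ∈ Grading.weight (hop.phiS ha) χ, F u (s : V) = k • (s : V) := by
      intro χ
      obtain ⟨e, he⟩ := finrank_le_one_iff.mp (hsmall χ)
      obtain ⟨k, hk⟩ := he ⟨_, hst χ e e.2⟩
      refine ⟨k, fun s hs => ?_⟩
      obtain ⟨m, hm⟩ := he ⟨s, hs⟩
      have h1 : (s : V) = m • ((e : S) : V) := (congrArg Subtype.val (congrArg Subtype.val hm)).symm
      have h2 : F u ((e : S) : V) = k • ((e : S) : V) := (congrArg Subtype.val (congrArg Subtype.val hk)).symm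
      rw [h1, map_smul, h2, smul_comm]
    choose k hk using hsc
    have heq : F u = ∑ χ, k χ • E χ := by
      refine sub_eq_zero.mp (hop.heis.spanR_eq_zero hP.stab hP.ne
        (Submodule.sub_mem _ (hFspan u hu) (Submodule.sum_mem _ fun χ _ => Submodule.smul_mem _ _ (hEspan χ)))
        fun s hs => ?_)
      rw [LinearMap.sub_apply, sub_eq_zero]
      have h1 := congrArg (fun z : S => (z : V)) (Grading.sum_proj hop.castX (hop.phiS ha) ⟨s, hs⟩)
      simp only [Submodule.coe_sum] at h1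
      conv_lhs => rw [← h1, map_sum]
      rw [LinearMap.sum_apply]
      refine Finset.sum_congr rfl fun χ _ => ?_
      rw [hk χ _ (Grading.proj_mem _ χ _), LinearMap.smul_apply, ← hE χ ⟨s, hs⟩]
    rw [heq]
    exact Commute.sum_right _ _ _ fun χ _ => (hxE χ).smul_right _
  set u' := x * u * x⁻¹
  have hu' : u' ∈ R := conj_mem_of_mem_normalizer hxR hu
  have hFu' : F u' = F u := by
    have h1 : F u' = ρ x * F u * ρ x⁻¹ := by
      simp only [F, Finset.mul_sum, Finset.sum_mul]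
      refine Finset.sum_congr rfl fun i _ => ?_
      rw [← map_mul, ← map_mul]
      congr 1
      have e1 : a ^ i * x = x * a ^ i := ((hxa.pow_right i).eq).symm
      have e2 : x⁻¹ * (a ^ i)⁻¹ = (a ^ i)⁻¹ * x⁻¹ := (hxa.pow_right i).inv_left.inv_right.eq
      calc a ^ i * u' * (a ^ i)⁻¹ = (a ^ i * x) * u * (x⁻¹ * (a ^ i)⁻¹) := by simp [u', mul_assoc]
        _ = x * (a ^ i * u * (a ^ i)⁻¹) * x⁻¹ := by rw [e1, e2]; simp [mul_assoc]
    rw [h1, hFx.eq, mul_assoc, ← map_mul, mul_inv_cancel, map_one, mul_one]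
  -- the class of the conjugate lies in the orbit
  have hxu0 : cl ρ hu' = πx (cl ρ hu) := (conjHom_cl (⟨x, hxR⟩ : normalizer (R : Set H)) hu).symm
  have hne : cl ρ hu' ≠ cl ρ R.one_mem := fun h => hfix (by
    rw [← hxu0, h]
    exact (πx.injective (by rw [← hxu0, h, conjHom_base])).symm)
  have horb : ∀ (w : H) (hw : w ∈ R) (i : ℕ), cl ρ (hmem w hw i) = (πa ^ i) (cl ρ hw) := fun w hw i => by
    rw [show πa ^ i = conjHom ρ R (⟨a, hop.norm⟩ ^ i) from (map_pow _ _ _).symm, conjHom_cl]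
  obtain ⟨i, hi⟩ : ∃ i, cl ρ hu' = (πa ^ i) (cl ρ hu) := by
    by_contra hcon
    push Not at hcon
    choose k' hk' using fun i => exists_smul_rep (ρ := ρ) (hmem u' hu' i)
    choose k hk using fun i => exists_smul_rep (ρ := ρ) (hmem u hu i)
    let g : Cls ρ R → K := fun b => ∑ i ∈ (range r).filter (fun i => (πa ^ i) (cl ρ hu') = b), k' i -
      ∑ i ∈ (range r).filter (fun i => (πa ^ i) (cl ρ hu) = b), k i
    have hsum : ∀ (w : H) (hw : w ∈ R) (kk : ℕ → K),
        (∀ i, ρ (a ^ i * w * (a ^ i)⁻¹) = kk i • ρ (rep (cl ρ (hmem w hw i)))) →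
        ∑ b, (∑ i ∈ (range r).filter (fun i => (πa ^ i) (cl ρ hw) = b), kk i) • ρ (rep b) = F w := by
      intro w hw kk hkk
      simp only [F]
      rw [← Finset.sum_fiberwise (range r) (fun i => (πa ^ i) (cl ρ hw))]
      refine Finset.sum_congr rfl fun b _ => ?_
      rw [Finset.sum_smul]
      refine Finset.sum_congr rfl fun i hi => ?_
      rw [hkk i, horb w hw, (Finset.mem_filter.mp hi).2]
    have h0 := hop.heis.coeff_eq_zero (W := ⊤) (fun g _ => ⟨fun _ _ => trivial, fun _ _ => trivial⟩) top_ne_bot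
      Finset.univ (g := g) (fun z _ => by
        simp only [g, sub_smul, Finset.sum_sub_distrib]
        rw [hsum u' hu' k' hk', hsum u hu k hk, hFu', sub_self]
        rfl) (cl ρ hu') (Finset.mem_univ _)
    have h1 : (range r).filter (fun i => (πa ^ i) (cl ρ hu') = cl ρ hu') = {0} := by
      ext i
      simp only [Finset.mem_filter, Finset.mem_range, Finset.mem_singleton]
      refine ⟨fun ⟨hir, hi⟩ => ?_, fun h => ?_⟩
      · by_contra hi0
        refine hne (hop.base_of_pow_fixed (Nat.Coprime.symm (hop.prime.coprime_iff_not_dvd.mpr fun hd => ?_)) hi)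
        exact absurd (Nat.le_of_dvd (Nat.pos_of_ne_zero hi0) hd) (by omega)
      · subst h
        exact ⟨hop.prime.pos, rfl⟩
    have h2 : (range r).filter (fun i => (πa ^ i) (cl ρ hu) = cl ρ hu') = ∅ :=
      Finset.filter_eq_empty_iff.mpr fun i _ h => hcon i h.symm
    simp only [g, h1, h2, Finset.sum_singleton, Finset.sum_empty, sub_zero] at h0
    have h3 := hk' 0
    rw [h0, zero_smul] at h3
    exact rho_ne_zero ρ _ h3
  have hcomm : Commute πx πa :=
    (show Commute (⟨x, hxR⟩ : normalizer (R : Set H)) ⟨a, hop.norm⟩ from Subtype.ext hxa.eq).map _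
  have hiter : ∀ m : ℕ, (πx ^ m) (cl ρ hu) = (πa ^ (i * m)) (cl ρ hu) := by
    intro m
    induction m with
    | zero => simp
    | succ m ih =>
      rw [pow_succ', Equiv.Perm.mul_apply, ih, ← Equiv.Perm.mul_apply, (hcomm.pow_right _).eq,
        Equiv.Perm.mul_apply, ← hxu0, hi, ← Equiv.Perm.mul_apply, ← pow_add, Nat.mul_succ]
  have hxM' : πx ^ M = 1 := by
    rw [← map_pow, show (⟨x, hxR⟩ : normalizer (R : Set H)) ^ M = 1 from Subtype.ext hxM, map_one]
  by_cases hri : r ∣ i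
  · obtain ⟨k, rfl⟩ := hri
    rw [hxu0, pow_mul, hop.conj_pow, one_pow] at hi
    exact hfix hi
  · have h1 := hiter M
    rw [hxM'] at h1
    have h2 := hop.base_of_pow_fixed
      (Nat.Coprime.mul_left (Nat.Coprime.symm (hop.prime.coprime_iff_not_dvd.mpr hri)) hM) h1.symm
    exact hfix (by rw [h2]; exact conjHom_base _)

/-- An element of prime order that moves some class moves all but the trivial one. -/
theorem prime_free (hop : Op ρ R a r) [NeZero r] {S : Submodule K V} (hP : Piece ρ R S) (ha : a ∈ stabW ρ S)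
    {x : H} (hx : x ∈ stabW ρ S) (hxa : Commute x a) (hxR : x ∈ normalizer (R : Set H)) {t : ℕ} (ht : t.Prime)
    (htr : t ≠ r) (hxt : conjHom ρ R ⟨x, hxR⟩ ^ t = 1) (hne : conjHom ρ R ⟨x, hxR⟩ ≠ 1)
    (hxo : (orderOf x).Coprime (Nat.card R))
    (hxV : ∀ v, ρ a v = v → ρ x v = v) {s : V} (hs : s ∈ S) (hs0 : s ≠ 0) (has : ρ a s = s) :
    ∀ b, conjHom ρ R ⟨x, hxR⟩ b = b → b = cl ρ R.one_mem := by
  classical
  haveI := Fintype.ofFinite (Cls ρ R)
  haveI := hop.roots
  haveI := Fintype.ofFinite (Multiplicative (ZMod r) →* Kˣ)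
  haveI : Nontrivial V := nontrivial_of_ne s 0 hs0
  set E := fixC ρ R x hxR with hE
  set R₁ := ⁅R, zpowers x⁆ ⊔ Scal ρ R with hR₁
  have hzR : zpowers x ≤ normalizer (R : Set H) := zpowers_le.mpr hxR
  have hR₁R : R₁ ≤ R := sup_le (CfsgLib.commutator_le_of_le_normalizer hzR) (scal_le ρ R)
  have hSR₁ : Scal ρ R ≤ R₁ := le_sup_right
  have hdec : ∀ u ∈ R, ∃ y ∈ R₁, ∃ c ∈ E, u = y * c := fun u hu => by
    obtain ⟨y, hy, c, hc, hyc⟩ := CfsgLib.coprime_decomp hzR (by rwa [Nat.card_zpowers])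
      (Or.inl (isSolvable_zpowers x)) hu
    refine ⟨y, mem_sup_left hy, c, ⟨hc.1, ?_⟩, hyc⟩
    rw [commutatorElement_eq_one_iff_mul_comm.mpr (mem_centralizer_iff.mp hc.2 x (mem_zpowers x))]
    exact one_mem _
  have hpair : ∀ y ∈ R₁, ∀ e ∈ E, ρ ⁅y, e⁆ = 1 := by
    let N : Subgroup H :=
      { carrier := {y | y ∈ R ∧ ∀ e ∈ E, ρ ⁅y, e⁆ = 1}
        one_mem' := ⟨R.one_mem, fun e _ => by rw [commutatorElement_one_left, map_one]⟩
        mul_mem' := fun {y z} hy hz => ⟨R.mul_mem hy.1 hz.1, fun e he => by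
          rw [hop.heis.mul_left hy.1 hz.1 he.1, hy.2 e he, hz.2 e he, one_mul]⟩
        inv_mem' := fun {y} hy => ⟨R.inv_mem hy.1, fun e he => by
          have h1 := hop.heis.mul_left (R.inv_mem hy.1) hy.1 he.1
          rwa [inv_mul_cancel, commutatorElement_one_left, map_one, hy.2 e he, mul_one, eq_comm] at h1⟩ }
    have hN : R₁ ≤ N := by
      refine sup_le ?_ fun y hy => ⟨hy.1, fun e _ => ?_⟩
      · rw [Subgroup.commutator_le]
        intro u hu g hg
        refine ⟨CfsgLib.commutator_le_of_le_normalizer hzR (Subgroup.commutator_mem_commutator hu hg), fun e he => ?_⟩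
        obtain ⟨i, rfl⟩ := mem_zpowers_iff.mp hg
        have hgR : x ^ i ∈ normalizer (R : Set H) := zpow_mem hxR i
        have hfixe : conjHom ρ R ⟨x ^ i, hgR⟩ (cl ρ he.1) = cl ρ he.1 := by
          rw [show (⟨x ^ i, hgR⟩ : normalizer (R : Set H)) = ⟨x, hxR⟩ ^ i from rfl, map_zpow]
          exact (MulAction.stabilizer (Equiv.Perm (Cls ρ R)) _).zpow_mem ((conjHom_fixed_iff _ he.1).mpr he.2) i
        obtain ⟨-, k, hk⟩ := (conjHom_fixed_iff _ he.1).mp hfixe
        have hw : x ^ i * u⁻¹ * (x ^ i)⁻¹ ∈ R := conj_mem_of_mem_normalizer hgR (R.inv_mem hu)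
        have he' : x ^ i * e * (x ^ i)⁻¹ ∈ R := conj_mem_of_mem_normalizer hgR he.1
        have hse : ⁅x ^ i, e⁆ ∈ R := comm_mem_of_normalizes hgR he.1
        have h1 : ρ ⁅x ^ i * u⁻¹ * (x ^ i)⁻¹, e⁆ = ρ ⁅u⁻¹, e⁆ := by
          rw [← hop.heis.conj_comm (g := x ^ i) (R.inv_mem hu) he.1,
            show x ^ i * e * (x ^ i)⁻¹ = ⁅x ^ i, e⁆ * e by simp [commutatorElement_def],
            hop.heis.mul_right hw hse he.1,
            rho_comm_scal (R := R) ⟨hse, k, hk⟩, one_mul]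
        rw [show ⁅u, x ^ i⁆ = u * (x ^ i * u⁻¹ * (x ^ i)⁻¹) by simp [commutatorElement_def, mul_assoc],
          hop.heis.mul_left hu hw he.1, h1, ← hop.heis.mul_left hu (R.inv_mem hu) he.1, mul_inv_cancel,
          commutatorElement_one_left, map_one]
      · rw [← commutatorElement_inv]
        have h2 := rho_comm_scal hy e
        have h3 : ρ ⁅e, y⁆⁻¹ * ρ ⁅e, y⁆ = 1 := by rw [← map_mul, inv_mul_cancel, map_one]
        rwa [h2, mul_one] at h3
    exact fun y hy => (hN hy).2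
  have hinter : ∀ y ∈ R₁, y ∈ E → y ∈ Scal ρ R := fun y hy hyE => hop.heis.nondeg y (hR₁R hy) fun w hw => by
    obtain ⟨z, hz, c, hc, rfl⟩ := hdec w hw
    rw [hop.heis.mul_right (hR₁R hy) (hR₁R hz) hc.1, hpair y hy c hc, mul_one, ← commutatorElement_inv]
    have h2 := hpair z hz y hyE
    have h3 : ρ ⁅z, y⁆⁻¹ * ρ ⁅z, y⁆ = 1 := by rw [← map_mul, inv_mul_cancel, map_one]
    rwa [h2, mul_one] at h3
  have hscal : Scal ρ R₁ = Scal ρ R :=
    le_antisymm (fun y hy => ⟨hR₁R hy.1, hy.2⟩) fun y hy => ⟨hSR₁ hy, hy.2⟩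
  have hnorm : ∀ g ∈ normalizer (R : Set H), Commute g x → g ∈ normalizer (R₁ : Set H) := fun g hg hgx => by
    refine mem_normalizer_sup ?_ (normalizer_le_scal ρ R hg)
    have hcz : ∀ z ∈ zpowers x, g * z * g⁻¹ = z := fun z hz => by
      obtain ⟨i, rfl⟩ := mem_zpowers_iff.mp hz
      rw [(hgx.zpow_right i).eq, mul_inv_cancel_right]
    have key : ∀ g ∈ normalizer (R : Set H), (∀ z ∈ zpowers x, g * z * g⁻¹ = z) →
        ∀ w ∈ ⁅R, zpowers x⁆, g * w * g⁻¹ ∈ ⁅R, zpowers x⁆ := fun g hg hgz w hw => by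
      have hle : ⁅R, zpowers x⁆ ≤ (⁅R, zpowers x⁆ : Subgroup H).comap (MulAut.conj g).toMonoidHom := by
        rw [Subgroup.commutator_le]
        intro u hu z hz
        rw [Subgroup.mem_comap, MulEquiv.coe_toMonoidHom, MulAut.conj_apply,
          show g * ⁅u, z⁆ * g⁻¹ = ⁅g * u * g⁻¹, g * z * g⁻¹⁆ by simp [commutatorElement_def, mul_assoc], hgz z hz]
        exact Subgroup.commutator_mem_commutator (conj_mem_of_mem_normalizer hg hu) hz
      exact hle hw
    refine mem_normalizer_of_conj (key g hg hcz) (key g⁻¹ (inv_mem hg) fun z hz => ?_)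
    obtain ⟨i, rfl⟩ := mem_zpowers_iff.mp hz
    rw [((hgx.zpow_right i).inv_left).eq, mul_inv_cancel_right]
  have hop₁ : Op ρ R₁ a r :=
    { heis :=
        { cardK := fun h => by
            obtain ⟨k, hk⟩ := Subgroup.card_dvd_of_le hR₁R
            exact hop.heis.cardK (by rw [hk, Nat.cast_mul, h, zero_mul])
          comm := fun u hu w hw => hop.heis.comm u (hR₁R hu) w (hR₁R hw)
          nondeg := fun u hu hall => by
            rw [hscal]
            refine hop.heis.nondeg u (hR₁R hu) fun w hw => ?_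
            obtain ⟨z, hz, c, hc, rfl⟩ := hdec w hw
            rw [hop.heis.mul_right (hR₁R hu) (hR₁R hz) hc.1, hall z hz, one_mul, hpair u hu c hc] }
      prime := hop.prime
      norm := hnorm a hop.norm hxa.symm
      pow := hop.pow
      castK := hop.castK
      cop := fun h => hop.cop (h.trans (Subgroup.card_dvd_of_le hR₁R))
      fpf := fun u hu h => by
        rw [hscal] at h ⊢
        exact hop.fpf u (hR₁R hu) h }
  obtain ⟨c₁, S₁, hP₁, ha₁, -, hfix₁⟩ := hop₁.exists_piece_op hs0 (show ρ a s = (1 : K) • s by rw [has, one_smul])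
  obtain ⟨s₁, hs₁, hs₁0, has₁⟩ := hfix₁ rfl
  have hxR₁ : x ∈ normalizer (R₁ : Set H) := hnorm x hxR (Commute.refl x)
  have hx₁ : x ∈ stabW ρ S₁ := hP₁.mem_stab hxR₁ hs₁ hs₁0 (by rw [hxV _ has₁]; exact hs₁)
  have hxt' : ∀ u ∈ R, ⁅x ^ t, u⁆ ∈ Scal ρ R := fun u hu =>
    (conjHom_one_iff (⟨x, hxR⟩ ^ t : normalizer (R : Set H))).mp (by rw [map_pow, hxt]) u hu
  obtain ⟨-, hd₁, -, -⟩ := hop₁.prime_fpf hP₁ ha₁ hx₁ hxa hxR₁ ht htr
    (by
      rw [← map_pow, conjHom_one_iff]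
      intro u hu
      rw [hscal]
      exact hxt' u (hR₁R hu))
    (fun h => by
      rw [conjHom_one_iff] at h
      refine hne ((conjHom_one_iff _).mpr fun u hu => ?_)
      obtain ⟨y, hy, c, hc, rfl⟩ := hdec u hu
      have hyE : y ∈ E := ⟨hR₁R hy, hscal ▸ h y hy⟩
      exact (E.mul_mem hyE hc).2)
    (fun b hb => by
      rw [← cl_rep b, cl_one_iff, hscal]
      have h1 := (conjHom_fixed_rep _ b).mp hb
      rw [hscal] at h1
      exact hinter _ (rep_mem b) ⟨hR₁R (rep_mem b), h1⟩)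
    hxV hs₁ hs₁0 has₁
  -- the classes split
  set π := conjHom ρ R ⟨x, hxR⟩
  let f : Cls ρ R₁ × (univ.filter fun b => π b = b : Finset (Cls ρ R)) → Cls ρ R := fun z =>
    cl ρ (R.mul_mem (hR₁R (rep_mem z.1)) (rep_mem (z.2 : Cls ρ R)))
  have hf : Function.Bijective f := by
    refine ⟨?_, fun b => ?_⟩
    · rintro ⟨y, e, he⟩ ⟨y', e', he'⟩ h
      simp only [f] at h
      rw [cl_eq_cl_iff] at h
      have heE : rep e ∈ E := ⟨rep_mem e, (conjHom_fixed_rep _ e).mp (Finset.mem_filter.mp he).2⟩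
      have he'E : rep e' ∈ E := ⟨rep_mem e', (conjHom_fixed_rep _ e').mp (Finset.mem_filter.mp he').2⟩
      have hsE : Scal ρ R ≤ E := fun w hw => ⟨hw.1, (Scal ρ R).mul_mem (conj_mem_scal hxR hw) ((Scal ρ R).inv_mem hw)⟩
      have h1 : (rep y)⁻¹ * rep y' ∈ E := by
        have h2 := E.mul_mem (E.mul_mem heE (hsE h)) (E.inv_mem he'E)
        simpa [mul_assoc] using h2
      have h3 := hinter _ (R₁.mul_mem (R₁.inv_mem (rep_mem y)) (rep_mem y')) h1
      have hyy : y = y' := by rw [← cl_rep y, ← cl_rep y', cl_eq_cl_iff, hscal]; exact h3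
      subst hyy
      have hee : e = e' := by rw [← cl_rep e, ← cl_rep e', cl_eq_cl_iff]; simpa [mul_assoc] using h
      subst hee
      rfl
    · obtain ⟨y, hy, c, hc, hyc⟩ := hdec (rep b) (rep_mem b)
      refine ⟨(cl ρ hy, ⟨cl ρ hc.1, Finset.mem_filter.mpr ⟨Finset.mem_univ _,
        (conjHom_fixed_iff _ hc.1).mpr hc.2⟩⟩), ?_⟩
      simp only [f]
      have h1 : cl ρ (hR₁R (rep_mem (cl ρ hy))) = cl ρ (hR₁R hy) := by
        rw [cl_eq_cl_iff, ← hscal]
        exact rep_cl hy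
      have h2 : cl ρ (rep_mem (cl ρ hc.1)) = cl ρ hc.1 := cl_rep _
      rw [cl_mul_congr h1 h2]
      conv_rhs => rw [← cl_rep b]
      exact cl_congr hyc.symm
  have hD : finrank K S ^ 2 = finrank K S₁ ^ 2 * (univ.filter fun b => π b = b).card := by
    haveI := Fintype.ofFinite (Cls ρ R₁)
    rw [← hop.base_weights hP, ← hop₁.base_weights hP₁, ← Fintype.card_coe (univ.filter fun b => π b = b),
      ← Fintype.card_prod]
    exact (Fintype.card_congr (Equiv.ofBijective f hf)).symm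
  obtain ⟨d₂, hd₂⟩ := (Nat.pow_dvd_pow_iff two_ne_zero).mp (Dvd.intro _ hD.symm)
  have hd₁pos : 0 < finrank K S₁ := by have := hop.prime.two_le; omega
  have hD₂ : (univ.filter fun b => π b = b).card = d₂ ^ 2 := by
    rw [hd₂, mul_pow] at hD
    exact (Nat.eq_of_mul_eq_mul_left (pow_pos hd₁pos 2) hD).symm
  obtain ⟨ξ, hξ⟩ := Fintype.exists_ne_of_one_lt_card
    (by rw [hop.card_chars]; exact hop.prime.one_lt) (1 : Multiplicative (ZMod r) →* Kˣ)
  have hineq := hop.prime_ineq hP ha hx hxa hxR ht htr hxt hxV hs hs0 has ξ hξ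
  rw [hD₂] at hineq
  obtain ⟨χ₀, l, hl, hexc, -⟩ := hop.multiplicities hP ha
  have hbound : finrank K S + 1 ≤ r * hop.nW ha 1 + r := by
    have hle : ∀ χ, hop.nW ha χ ≤ hop.nW ha 1 + 1 := fun χ => by
      by_cases h0 : χ₀ = 1
      · subst h0
        by_cases h : χ = 1
        · subst h; omega
        · rw [hl χ h]; omega
      · have := hl 1 (Ne.symm h0)
        by_cases h : χ = χ₀
        · subst h; omega
        · rw [hl χ h]; omega
    rw [← hop.sum_nW ha, ← Finset.add_sum_erase univ _ (Finset.mem_univ 1)]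
    have h1 := Finset.sum_le_sum (s := univ.erase (1 : Multiplicative (ZMod r) →* Kˣ)) fun χ _ => hle χ
    rw [Finset.sum_const, Finset.card_erase_of_mem (Finset.mem_univ _), Finset.card_univ, hop.card_chars,
      smul_eq_mul] at h1
    obtain ⟨k, rfl⟩ : ∃ k, r = k + 1 := ⟨r - 1, by have := hop.prime.one_le; omega⟩
    rw [Nat.add_sub_cancel] at h1
    rw [add_mul, one_mul]
    rw [mul_add, mul_one] at h1
    omega
  have hn : d₂ ≤ hop.nW ha 1 := by
    by_contra hcon
    have h1 : r * hop.nW ha 1 + r ≤ r * d₂ := by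
      calc r * hop.nW ha 1 + r = r * (hop.nW ha 1 + 1) := by ring
        _ ≤ r * d₂ := Nat.mul_le_mul_left _ (by omega)
    have h2 : r * d₂ ≤ finrank K S := by
      rw [hd₂]
      exact Nat.mul_le_mul_right _ (by have := hop.prime.two_le; omega)
    omega
  have hd2 : d₂ ^ 2 = 1 := by
    have h1 : r * (t - 1) * d₂ ^ 2 ≤ r * (t - 1) * hop.nW ha 1 ^ 2 :=
      Nat.mul_le_mul_left _ (Nat.pow_le_pow_left hn 2)
    obtain ⟨k, hk⟩ : ∃ k, t = k + 1 := ⟨t - 1, by have := ht.one_le; omega⟩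
    obtain ⟨m, hm⟩ : ∃ m, r = m + 1 := ⟨r - 1, by have := hop.prime.one_le; omega⟩
    have hkm : 0 < m * k := Nat.mul_pos (by have := hop.prime.two_le; omega) (by have := ht.two_le; omega)
    rw [hk, Nat.add_sub_cancel] at hineq h1
    have h2 : r * k * d₂ ^ 2 + r + (k + 1) ≤ k * d₂ ^ 2 + r * (k + 1) + 1 := by
      have : k + 1 ≤ r * (k + 1) := Nat.le_mul_of_pos_left _ hop.prime.pos
      omega
    rw [hm] at h2
    ring_nf at h2
    have h3 : m * k * d₂ ^ 2 ≤ m * k * 1 := by ring_nf; omega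
    have h4 : d₂ ^ 2 ≤ 1 := Nat.le_of_mul_le_mul_left h3 hkm
    have h5 : d₂ ^ 2 ≠ 0 := fun h => by
      have : cl ρ R.one_mem ∈ univ.filter fun b => π b = b := Finset.mem_filter.mpr ⟨Finset.mem_univ _, conjHom_base _⟩
      rw [Finset.card_eq_zero.mp (hD₂.trans h)] at this
      exact Finset.notMem_empty _ this
    omega
  intro b hb
  rw [hd2] at hD₂
  exact Finset.card_le_one.mp hD₂.le b (Finset.mem_filter.mpr ⟨Finset.mem_univ _, hb⟩) _
    (Finset.mem_filter.mpr ⟨Finset.mem_univ _, conjHom_base _⟩)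

/-- There is no element of order four modulo scalars in the exceptional configuration. -/
theorem no_four (hop : Op ρ R a r) [NeZero r] {S : Submodule K V} (hP : Piece ρ R S) (ha : a ∈ stabW ρ S)
    {z : H} (hz : z ∈ stabW ρ S) (hza : Commute z a) (hzR : z ∈ normalizer (R : Set H)) (hr : r ≠ 2)
    (hz4 : conjHom ρ R ⟨z, hzR⟩ ^ 4 = 1)
    (hfree : ∀ b, (conjHom ρ R ⟨z, hzR⟩ ^ 2) b = b → b = cl ρ R.one_mem) (hd : finrank K S + 1 = 2 * r)
    [Fintype (Multiplicative (ZMod r) →* Kˣ)] (hn1 : hop.nW ha 1 = 1) (hn : ∀ χ, χ ≠ 1 → hop.nW ha χ = 2) :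
    False := by
  classical
  haveI := Fintype.ofFinite (Cls ρ R)
  set πa := conjHom ρ R ⟨a, hop.norm⟩
  set πz := conjHom ρ R ⟨z, hzR⟩
  have hcomm : Commute πa πz :=
    (show Commute (⟨a, hop.norm⟩ : normalizer (R : Set H)) ⟨z, hzR⟩ from Subtype.ext hza.eq.symm).map _
  have hpi : ∀ i, conjHom ρ R (⟨a, hop.norm⟩ * ⟨z, hzR⟩) ^ i = πa ^ i * πz ^ i := fun i => by
    rw [map_mul]; exact hcomm.mul_pow i
  have hrodd : Odd r := hop.prime.odd_of_ne_two hr
  let w : Cls ρ R → ℕ := fun b => if b = cl ρ R.one_mem then 4 * r else 1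
  have hw1 : ∀ b, 1 ≤ w b := fun b => by
    have := hop.prime.pos
    simp only [w]; split_ifs <;> omega
  have hcount := hop.count_le hP ha hz hza hzR w (4 * r) fun b => by
    by_cases hb : b = cl ρ R.one_mem
    · exact ⟨1, fun i h1 h2 => absurd h2 (by omega), by simp [w, hb]⟩
    refine ⟨4 * r, fun i h1 h2 h3 => hb ?_,
      le_trans (le_of_eq (show 4 * r = ∑ _i ∈ range (4 * r), 1 by simp)) (Finset.sum_le_sum fun i _ => hw1 _)⟩
    have h4 : (conjHom ρ R (⟨a, hop.norm⟩ * ⟨z, hzR⟩) ^ (4 * r)) b = b := by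
      rw [hpi, mul_comm 4 r, pow_mul, hop.conj_pow, one_pow, one_mul, mul_comm r 4, pow_mul, hz4, one_pow]
      rfl
    have h5 := pow_gcd_fixed _ b h3 h4
    set g := i.gcd (4 * r)
    have hg : g ∣ 4 * r := Nat.gcd_dvd_right _ _
    have hglt : g < 4 * r := lt_of_le_of_lt (Nat.le_of_dvd h1 (Nat.gcd_dvd_left _ _)) h2
    have hg' : g ∣ 2 * r ∨ g ∣ 4 := by
      by_cases hrg : r ∣ g
      · obtain ⟨k, hk⟩ := hrg
        rw [hk, mul_comm r k] at hg hglt
        have hk4 : k ∣ 4 := Nat.dvd_of_mul_dvd_mul_right hop.prime.pos hg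
        have hkne : k ≠ 4 := fun h => by subst h; exact lt_irrefl _ hglt
        have : k = 1 ∨ k = 2 := by
          have := Nat.le_of_dvd (by norm_num) hk4
          interval_cases k <;> omega
        refine Or.inl ?_
        rw [hk, mul_comm 2 r]
        refine Nat.mul_dvd_mul_left r ?_
        rcases this with rfl | rfl <;> norm_num
      · exact Or.inr (((hop.prime.coprime_iff_not_dvd.mpr hrg).symm).dvd_of_dvd_mul_right hg)
    rcases hg' with ⟨k, hk⟩ | ⟨k, hk⟩
    · have h6 := (MulAction.stabilizer (Equiv.Perm (Cls ρ R)) b).pow_mem h5 k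
      rw [← pow_mul, ← hk] at h6
      change ((conjHom ρ R (⟨a, hop.norm⟩ * ⟨z, hzR⟩)) ^ (2 * r)) b = b at h6
      rw [hpi, mul_comm 2 r, pow_mul, hop.conj_pow, one_pow, one_mul] at h6
      obtain ⟨m, hm⟩ := hrodd
      rw [hm, show (2 * m + 1) * 2 = 4 * m + 2 by ring, pow_add, pow_mul, hz4, one_pow, one_mul] at h6
      exact hfree b h6
    · have h6 := (MulAction.stabilizer (Equiv.Perm (Cls ρ R)) b).pow_mem h5 k
      rw [← pow_mul, ← hk] at h6
      change ((conjHom ρ R (⟨a, hop.norm⟩ * ⟨z, hzR⟩)) ^ 4) b = b at h6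
      rw [hpi, hz4, mul_one] at h6
      refine hop.base_of_pow_fixed ?_ h6
      exact Nat.Coprime.pow_left 2 ((Nat.coprime_primes Nat.prime_two hop.prime).mpr (Ne.symm hr))
  have hC : ∀ χ, (if χ = 1 then 1 else 2) ≤ hop.cW ha hz hza χ := fun χ => by
    split_ifs with h
    · subst h
      exact one_le_comm hn1 _
    · exact two_le_comm (hn χ h) _
  have h1 : ∑ χ : Multiplicative (ZMod r) →* Kˣ, (if χ = 1 then 1 else 2) + 1 = 2 * r := by
    rw [← Finset.add_sum_erase univ _ (Finset.mem_univ 1), if_pos rfl,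
      Finset.sum_congr rfl (fun χ hχ => if_neg (Finset.ne_of_mem_erase hχ)), Finset.sum_const,
      Finset.card_erase_of_mem (Finset.mem_univ _), Finset.card_univ, hop.card_chars, smul_eq_mul]
    have := hop.prime.one_le
    omega
  have h2 : ∑ b, w b + 1 = finrank K S ^ 2 + 4 * r := by
    rw [← hop.base_weights hP, ← Finset.add_sum_erase univ _ (Finset.mem_univ (cl ρ R.one_mem))]
    simp only [w, if_pos rfl]
    rw [Finset.sum_congr rfl (fun b hb => if_neg (Finset.ne_of_mem_erase hb)), Finset.sum_const, smul_eq_mul,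
      mul_one, Finset.card_erase_of_mem (Finset.mem_univ _), Finset.card_univ]
    have : 0 < Fintype.card (Cls ρ R) := Fintype.card_pos_iff.mpr ⟨cl ρ R.one_mem⟩
    omega
  have h3 := Finset.sum_le_sum (s := univ) fun χ _ => hC χ
  have h4 := Nat.mul_le_mul_left (4 * r) h3
  have h5 := h4.trans hcount
  have hr3 : 3 ≤ r := by have := hop.prime.two_le; omega
  set A := ∑ χ : Multiplicative (ZMod r) →* Kˣ, (if χ = 1 then 1 else 2)
  set B := finrank K S
  set C := ∑ b, w b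
  nlinarith

/-- An element of order prime to `|R|` and `r`, centralizing `a` and its fixed vectors, centralizes or inverts
`R` modulo scalars. -/
theorem pair_classify (hop : Op ρ R a r) {v : V} (hv0 : v ≠ 0) (hv : ρ a v = v) {x : H}
    (hxR : x ∈ normalizer (R : Set H)) (hxa : Commute x a) {t k : ℕ} (ht : t.Prime) (htr : t ≠ r)
    (hxk : x ^ t ^ k = 1) (hcop : (orderOf x).Coprime (Nat.card R)) (hxV : ∀ v, ρ a v = v → ρ x v = v) :
    (∀ u ∈ R, ⁅x, u⁆ ∈ Scal ρ R) ∨ ∀ u ∈ R, x * u * x⁻¹ * u ∈ Scal ρ R := by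
  classical
  haveI : NeZero r := ⟨hop.prime.ne_zero⟩
  haveI := hop.roots
  haveI := Fintype.ofFinite (Multiplicative (ZMod r) →* Kˣ)
  haveI := Fintype.ofFinite (Cls ρ R)
  obtain ⟨c, S, hP, ha, -, hfx⟩ := hop.exists_piece_op hv0 (show ρ a v = (1 : K) • v by rw [hv, one_smul])
  obtain ⟨s, hs, hs0, has⟩ := hfx rfl
  set g : normalizer (R : Set H) := ⟨x, hxR⟩
  have hex : ∃ e, conjHom ρ R g ^ t ^ e = 1 := ⟨k, by
    rw [← map_pow, show g ^ t ^ k = 1 from Subtype.ext hxk, map_one]⟩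
  set e := Nat.find hex with he
  have hspec : conjHom ρ R g ^ t ^ e = 1 := Nat.find_spec hex
  rcases Nat.eq_zero_or_pos e with he0 | hepos
  · rw [he0, pow_zero, pow_one] at hspec
    exact Or.inl ((conjHom_one_iff g).mp hspec)
  obtain ⟨j, hj⟩ : ∃ j, e = j + 1 := ⟨e - 1, by omega⟩
  have hpow : ∀ i : ℕ, x ^ i ∈ stabW ρ S := fun i => (stabW ρ S).pow_mem (hP.mem_stab hxR hs hs0 (by
    rw [hxV _ has]; exact hs)) i
  have hVpow : ∀ i : ℕ, ∀ v, ρ a v = v → ρ (x ^ i) v = v := fun i v hv => rho_pow_fix (hxV v hv) i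
  have hgpow : ∀ i : ℕ, conjHom ρ R ⟨x ^ i, (normalizer (R : Set H)).pow_mem hxR i⟩ = conjHom ρ R g ^ i :=
    fun i => by rw [← map_pow]; rfl
  have hx₁t : conjHom ρ R ⟨x ^ t ^ j, (normalizer (R : Set H)).pow_mem hxR _⟩ ^ t = 1 := by
    rw [hgpow, ← pow_mul, ← pow_succ, ← hj]; exact hspec
  have hx₁ne : conjHom ρ R ⟨x ^ t ^ j, (normalizer (R : Set H)).pow_mem hxR _⟩ ≠ 1 := by
    rw [hgpow]
    exact Nat.find_min hex (show j < Nat.find hex by omega)
  have hfree := hop.prime_free hP ha (hpow _) (hxa.pow_left _) _ ht htr hx₁t hx₁ne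
    (Nat.Coprime.coprime_dvd_left (orderOf_pow_dvd _) hcop) (hVpow _) hs hs0 has
  obtain ⟨rfl, hd, hn1, hn⟩ := hop.prime_fpf hP ha (hpow _) (hxa.pow_left _) _ ht htr hx₁t hx₁ne hfree (hVpow _)
    hs hs0 has
  rcases Nat.eq_zero_or_pos j with hj0 | hjpos
  · refine Or.inr fun u hu => ?_
    have hx2 : conjHom ρ R g ^ 2 = 1 := by
      rw [hj, hj0] at hspec; simpa using hspec
    have hfree' : ∀ b, conjHom ρ R g b = b → b = cl ρ R.one_mem := fun b hb => hfree b (by
      rw [hgpow, hj0, pow_zero, pow_one]; exact hb)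
    rw [← cl_one_iff (R.mul_mem (conj_mem_of_mem_normalizer hxR hu) hu)]
    refine hfree' _ ?_
    rw [conjHom_cl]
    have h1 : cl ρ (conj_mem_of_mem_normalizer g.2 (conj_mem_of_mem_normalizer hxR hu)) = cl ρ hu := by
      have h2 := DFunLike.congr_fun hx2 (cl ρ hu)
      rw [pow_two, Equiv.Perm.mul_apply, conjHom_cl, conjHom_cl] at h2
      exact h2
    have h3 := cl_mul_congr h1 (rfl : cl ρ (conj_mem_of_mem_normalizer hxR hu) = cl ρ (conj_mem_of_mem_normalizer hxR hu))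
    refine Eq.trans (cl_congr ?_) (h3.trans (hop.heis.cl_comm hu (conj_mem_of_mem_normalizer hxR hu)))
    simp [g, mul_assoc]
  · exfalso
    obtain ⟨i, hi⟩ : ∃ i, j = i + 1 := ⟨j - 1, by omega⟩
    refine hop.no_four hP ha (hpow (2 ^ i)) (hxa.pow_left _) ((normalizer (R : Set H)).pow_mem hxR _) (Ne.symm htr) ?_ (fun b hb => hfree b ?_) hd hn1 hn
    · rw [hgpow, ← pow_mul, show 2 ^ i * 4 = 2 ^ e by rw [hj, hi]; ring]
      exact hspec
    · rw [hgpow, hi, pow_succ, pow_mul]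
      rw [hgpow] at hb
      exact hb

end Op

end CfsgLib.Turull
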