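import Cfsg.Agent.Lib.FittingHeight.Dual
import Cfsg.Agent.Lib.Turull.Util

/-!
Functions on a group that are additive on an elementary abelian section: the dual of the section, as a
subspace invariant under conjugation.
-/

set_option autoImplicit false

namespace CfsgLib.Turull

open Subgroup
open scoped commutatorElement

universe u v

variable {Γ : Type u} [Group Γ] {K : Type v} [Field K]

/-- Conjugation on functions. -/
def conjFun : Γ →* Module.End K (Γ → K) where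
  toFun g :=
    { toFun := fun f x => f (g⁻¹ * x * g)
      map_add' := fun _ _ => rfl
      map_smul' := fun _ _ => rfl }
  map_one' := LinearMap.ext fun f => funext fun x => by simp
  map_mul' g h := LinearMap.ext fun f => funext fun x => by simp [mul_assoc]

@[simp] theorem conjFun_apply (g : Γ) (f : Γ → K) (x : Γ) : conjFun g f x = f (g⁻¹ * x * g) := rfl

/-- The dual of the section `Q / B`. -/
def secDual (K : Type v) [Field K] (Q B : Subgroup Γ) : Submodule K (Γ → K) where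
  carrier := {f | (∀ x ∉ Q, f x = 0) ∧ (∀ x ∈ Q, ∀ y ∈ Q, f (x * y) = f x + f y) ∧ ∀ b ∈ B, f b = 0}
  zero_mem' := ⟨fun _ _ => rfl, fun _ _ _ _ => by simp, fun _ _ => rfl⟩
  add_mem' := fun {f g} hf hg =>
    ⟨fun x hx => by simp [hf.1 x hx, hg.1 x hx],
      fun x hx y hy => by simp [hf.2.1 x hx y hy, hg.2.1 x hx y hy]; ring,
      fun b hb => by simp [hf.2.2 b hb, hg.2.2 b hb]⟩
  smul_mem' := fun c f hf =>
    ⟨fun x hx => by simp [hf.1 x hx], fun x hx y hy => by simp [hf.2.1 x hx y hy]; ring,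
      fun b hb => by simp [hf.2.2 b hb]⟩

theorem secDual_anti {Q B B' : Subgroup Γ} (h : B ≤ B') : secDual K Q B' ≤ secDual K Q B :=
  fun _ hf => ⟨hf.1, hf.2.1, fun b hb => hf.2.2 b (h hb)⟩

theorem secDual_one {Q B : Subgroup Γ} {f : Γ → K} (hf : f ∈ secDual K Q B) : f 1 = 0 := hf.2.2 1 B.one_mem

theorem secDual_inv {Q B : Subgroup Γ} {f : Γ → K} (hf : f ∈ secDual K Q B) {x : Γ} (hx : x ∈ Q) : f x⁻¹ = -f x := by
  have h := hf.2.1 x hx x⁻¹ (Q.inv_mem hx)
  rw [mul_inv_cancel, secDual_one hf] at h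
  exact eq_neg_of_add_eq_zero_right h.symm

/-- Conjugation carries the duals of sections around. -/
theorem conjFun_mem {Q B B' : Subgroup Γ} {g : Γ} (hQ : g ∈ normalizer (Q : Set Γ))
    (hB : ∀ b ∈ B', g⁻¹ * b * g ∈ B) {f : Γ → K} (hf : f ∈ secDual K Q B) :
    conjFun g f ∈ secDual K Q B' := by
  refine ⟨fun x hx => hf.1 _ fun h => hx ?_, fun x hx y hy => ?_, fun b hb => hf.2.2 _ (hB b hb)⟩
  · have := conj_mem_of_mem_normalizer hQ h
    simpa [mul_assoc] using this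
  · have h1 : g⁻¹ * x * g ∈ Q := by simpa using conj_mem_of_mem_normalizer (inv_mem hQ) hx
    have h2 : g⁻¹ * y * g ∈ Q := by simpa using conj_mem_of_mem_normalizer (inv_mem hQ) hy
    rw [conjFun_apply, conjFun_apply, conjFun_apply, ← hf.2.1 _ h1 _ h2]
    congr 1
    group

theorem conjFun_mem_self {Q B : Subgroup Γ} {g : Γ} (hQ : g ∈ normalizer (Q : Set Γ))
    (hB : g ∈ normalizer (B : Set Γ)) {f : Γ → K} (hf : f ∈ secDual K Q B) : conjFun g f ∈ secDual K Q B :=
  conjFun_mem hQ (fun b hb => by simpa using conj_mem_of_mem_normalizer (inv_mem hB) hb) hf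

/-- Moving by conjugation is measured by commutators. -/
theorem conjFun_sub {Q B : Subgroup Γ} {g x : Γ} (hQ : g ∈ normalizer (Q : Set Γ)) (hx : x ∈ Q)
    {f : Γ → K} (hf : f ∈ secDual K Q B) : conjFun g f x = f ⁅g⁻¹, x⁆ + f x := by
  have h1 : ⁅g⁻¹, x⁆ ∈ Q := by
    rw [commutatorElement_def]
    exact Q.mul_mem (conj_mem_of_mem_normalizer (inv_mem hQ) hx) (Q.inv_mem hx)
  rw [conjFun_apply, ← hf.2.1 _ h1 x hx]
  congr 1
  simp [commutatorElement_def, mul_assoc]

/-- Homomorphisms to a field of characteristic `s` split along subgroups meeting trivially. -/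
theorem exists_split_hom' {s : ℕ} [Fact s.Prime] [CharP K s] {M : Type*} [AddCommGroup M] [Module (ZMod s) M]
    {ι : Type*} [Fintype ι] (S₀ : ι → AddSubgroup M) (h : ∀ m, (∀ i, m ∈ S₀ i) → m = 0) (φ : M →+ K) :
    ∃ ψ : ι → M →+ K, (∀ i, ∀ m ∈ S₀ i, ψ i m = 0) ∧ ∀ m, φ m = ∑ i, ψ i m := by
  classical
  letI : Module (ZMod s) K := (ZMod.castHom (dvd_refl s) K).toModule
  let S : ι → Submodule (ZMod s) M := fun i => AddSubgroup.toZModSubmodule s (S₀ i)
  let π : M →ₗ[ZMod s] (i : ι) → M ⧸ S i := LinearMap.pi fun i => (S i).mkQ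
  have hπ : LinearMap.ker π = ⊥ := by
    rw [LinearMap.ker_eq_bot']
    exact fun m hm => h m fun i => (Submodule.Quotient.mk_eq_zero (S i)).mp (congrFun hm i)
  obtain ⟨L, hL⟩ := LinearMap.exists_leftInverse_of_injective π hπ
  refine ⟨fun i => φ.comp ((L.comp (LinearMap.single (ZMod s) (fun i => M ⧸ S i) i)).comp (S i).mkQ).toAddMonoidHom,
    fun i m hm => ?_, fun m => ?_⟩
  · show φ (L (Pi.single i ((S i).mkQ m))) = 0
    rw [show (S i).mkQ m = 0 from (Submodule.Quotient.mk_eq_zero _).mpr hm, Pi.single_zero, map_zero, map_zero]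
  · show φ m = ∑ i, φ (L (Pi.single i ((S i).mkQ m)))
    rw [← map_sum, ← map_sum, show (∑ i, Pi.single i ((S i).mkQ m) : (i : ι) → M ⧸ S i) = π m from
      Finset.univ_sum_single (π m), ← LinearMap.comp_apply, hL, LinearMap.id_apply]

theorem exists_split_hom {s : ℕ} [Fact s.Prime] [CharP K s] {M : Type*} [AddCommGroup M] (hM : ∀ m : M, s • m = 0)
    {ι : Type*} [Fintype ι] (S₀ : ι → AddSubgroup M) (h : ∀ m, (∀ i, m ∈ S₀ i) → m = 0) (φ : M →+ K) :
    ∃ ψ : ι → M →+ K, (∀ i, ∀ m ∈ S₀ i, ψ i m = 0) ∧ ∀ m, φ m = ∑ i, ψ i m :=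
  @exists_split_hom' K _ s _ _ M _ (AddCommGroup.zmodModule hM) ι _ S₀ h φ

variable [Finite Γ] {s : ℕ} [hs : Fact s.Prime] [CharP K s]

section

variable {Q B : Subgroup Γ} (hBQ : B ≤ Q) (hQs : IsPGroup s Q) (hfr : Fr Q ≤ B) (hQB : Q ≤ normalizer (B : Set Γ))
include hBQ hQs hfr hQB

/-- The section as an additive group, with a family of subgroups between. -/
theorem secDual_le_iSup {ι : Type*} [Finite ι] (N : ι → Subgroup Γ) (hBN : ∀ i, B ≤ N i) (hNQ : ∀ i, N i ≤ Q)
    (hsep : ∀ x ∈ Q, (∀ i, x ∈ N i) → x ∈ B) : secDual K Q B ≤ ⨆ i, secDual K Q (N i) := by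
  classical
  haveI := Fintype.ofFinite ι
  haveI hBn : (B.subgroupOf Q).Normal := CfsgLib.FittingHeight.subgroupOf_normal_of_le hQB
  letI : CommGroup (Q ⧸ B.subgroupOf Q) :=
    { (inferInstance : Group (Q ⧸ B.subgroupOf Q)) with
      mul_comm := CfsgLib.FittingHeight.mk_comm fun x hx y hy => hfr (comm_mem_fr hQs hx hy) }
  let M := Additive (Q ⧸ B.subgroupOf Q)
  let mk : Q → M := fun x => Additive.ofMul (QuotientGroup.mk x : Q ⧸ B.subgroupOf Q)
  have hmk : ∀ x y : Q, mk (x * y) = mk x + mk y := fun x y => rfl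
  have hsurj : ∀ m : M, ∃ x, mk x = m := fun m => by
    obtain ⟨x, hx⟩ := QuotientGroup.mk'_surjective _ (Additive.toMul m)
    exact ⟨x, congrArg Additive.ofMul hx⟩
  have hM : ∀ m : M, s • m = 0 := fun m => by
    obtain ⟨x, rfl⟩ := hsurj m
    refine congrArg Additive.ofMul (show (QuotientGroup.mk x : Q ⧸ B.subgroupOf Q) ^ s = 1 from ?_)
    rw [← QuotientGroup.mk_pow, QuotientGroup.eq_one_iff]
    exact hfr (pow_mem_fr hQs x.2)
  let S₀ : ι → AddSubgroup M := fun i =>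
      { carrier := {m | ∃ x : Q, (x : Γ) ∈ N i ∧ mk x = m}
        zero_mem' := ⟨1, (N i).one_mem, rfl⟩
        add_mem' := by
          rintro _ _ ⟨x, hx, rfl⟩ ⟨y, hy, rfl⟩
          exact ⟨x * y, (N i).mul_mem hx hy, hmk x y⟩
        neg_mem' := by
          rintro _ ⟨x, hx, rfl⟩
          exact ⟨x⁻¹, (N i).inv_mem hx, rfl⟩ }
  have hS : ∀ i (x : ↥Q), mk x ∈ S₀ i → (x : Γ) ∈ N i := by
    rintro i x ⟨y, hy, hyx⟩
    have h1 : (QuotientGroup.mk y : Q ⧸ B.subgroupOf Q) = QuotientGroup.mk x := congrArg Additive.toMul hyx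
    have h2 : (y : Γ)⁻¹ * x ∈ B := Subgroup.mem_subgroupOf.mp ((QuotientGroup.eq (s := B.subgroupOf Q)).mp h1)
    simpa using (N i).mul_mem hy (hBN i h2)
  intro f hf
  let φ : M →+ K :=
    MonoidHom.toAdditiveLeft (QuotientGroup.lift (B.subgroupOf Q)
      { toFun := fun x : Q => Multiplicative.ofAdd (f x)
        map_one' := by simp [secDual_one hf]
        map_mul' := fun x y => by
          show Multiplicative.ofAdd (f ((x : Γ) * y)) = _
          rw [hf.2.1 x x.2 y y.2]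
          rfl }
      (fun x hx => congrArg Multiplicative.ofAdd (hf.2.2 x hx)))
  have hφ : ∀ x : Q, φ (mk x) = f x := fun x => rfl
  obtain ⟨ψ, hψ0, hψ⟩ := exists_split_hom (s := s) hM S₀ (fun m hm => by
    obtain ⟨x, rfl⟩ := hsurj m
    exact congrArg Additive.ofMul ((QuotientGroup.eq_one_iff x).mpr (hsep x x.2 fun i => hS i x (hm i)))) φ
  let g : ι → Γ → K := fun i x => if hx : x ∈ Q then ψ i (mk ⟨x, hx⟩) else 0
  have hg : ∀ i, g i ∈ secDual K Q (N i) := fun i => by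
    refine ⟨fun x hx => dif_neg hx, fun x hx y hy => ?_, fun b hb => ?_⟩
    · simp only [g, dif_pos hx, dif_pos hy, dif_pos (Q.mul_mem hx hy)]
      rw [show mk ⟨x * y, Q.mul_mem hx hy⟩ = mk ⟨x, hx⟩ + mk ⟨y, hy⟩ from rfl, map_add]
    · simp only [g, dif_pos (hNQ i hb)]
      exact hψ0 i _ ⟨⟨b, hNQ i hb⟩, hb, rfl⟩
  have hfg : f = ∑ i, g i := by
    funext x
    rw [Finset.sum_apply]
    by_cases hx : x ∈ Q
    · simp only [g, dif_pos hx]
      rw [← hψ, hφ]
    · simp [g, dif_neg hx, hf.1 x hx]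
  rw [hfg]
  exact Submodule.sum_mem _ fun i _ => Submodule.mem_iSup_of_mem i (hg i)

/-- The dual separates the points of the section. -/
theorem exists_secDual_ne_zero {x : Γ} (hx : x ∈ Q) (hxB : x ∉ B) : ∃ f ∈ secDual K Q B, f x ≠ 0 := by
  classical
  haveI hBn : (B.subgroupOf Q).Normal := CfsgLib.FittingHeight.subgroupOf_normal_of_le hQB
  letI : CommGroup (Q ⧸ B.subgroupOf Q) :=
    { (inferInstance : Group (Q ⧸ B.subgroupOf Q)) with
      mul_comm := CfsgLib.FittingHeight.mk_comm fun x hx y hy => hfr (comm_mem_fr hQs hx hy) }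
  obtain ⟨φ, hφ⟩ := CfsgLib.FittingHeight.Dual.exists_ne_zero (K := K) (t := s)
    (M := Additive (Q ⧸ B.subgroupOf Q)) (fun m => by
      obtain ⟨y, hy⟩ := QuotientGroup.mk'_surjective _ (Additive.toMul m)
      refine Additive.toMul.injective (show Additive.toMul m ^ s = 1 from ?_)
      rw [← hy, ← map_pow, QuotientGroup.mk'_apply, QuotientGroup.eq_one_iff]
      exact hfr (pow_mem_fr hQs y.2))
    (m := Additive.ofMul (QuotientGroup.mk (⟨x, hx⟩ : Q) : Q ⧸ B.subgroupOf Q))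
    (fun h => hxB ((QuotientGroup.eq_one_iff (⟨x, hx⟩ : Q)).mp (congrArg Additive.toMul h)))
  refine ⟨fun y => if hy : y ∈ Q then
      (φ (Additive.ofMul (QuotientGroup.mk (⟨y, hy⟩ : Q) : Q ⧸ B.subgroupOf Q)) : K) else 0,
    ⟨fun y hy => dif_neg hy, fun y hy z hz => ?_, fun b hb => ?_⟩, by simpa [dif_pos hx] using hφ⟩
  · simp only [dif_pos hy, dif_pos hz, dif_pos (Q.mul_mem hy hz)]
    rw [show (Additive.ofMul (QuotientGroup.mk (⟨y * z, Q.mul_mem hy hz⟩ : Q) : Q ⧸ B.subgroupOf Q)) =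
      Additive.ofMul (QuotientGroup.mk (⟨y, hy⟩ : Q) : Q ⧸ B.subgroupOf Q) +
        Additive.ofMul (QuotientGroup.mk (⟨z, hz⟩ : Q) : Q ⧸ B.subgroupOf Q) from rfl, map_add]
  · simp only [dif_pos (hBQ hb)]
    rw [show (QuotientGroup.mk (⟨b, hBQ hb⟩ : Q) : Q ⧸ B.subgroupOf Q) = 1 from (QuotientGroup.eq_one_iff _).mpr hb]
    exact map_zero _

/-- An element fixes the dual exactly when its commutators with `Q` lie in `B`. -/
theorem fixes_iff {g : Γ} (hQ : g ∈ normalizer (Q : Set Γ)) :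
    (∀ f ∈ secDual K Q B, conjFun g f = f) ↔ ∀ y ∈ Q, ⁅g⁻¹, y⁆ ∈ B := by
  constructor
  · intro h y hy
    by_contra hc
    have h1 : ⁅g⁻¹, y⁆ ∈ Q := by
      rw [commutatorElement_def]
      exact Q.mul_mem (conj_mem_of_mem_normalizer (inv_mem hQ) hy) (Q.inv_mem hy)
    obtain ⟨f, hf, hf0⟩ := exists_secDual_ne_zero (K := K) hBQ hQs hfr hQB h1 hc
    exact hf0 (by simpa [conjFun_sub hQ hy hf] using congrFun (h f hf) y)
  · intro h f hf
    funext y
    by_cases hy : y ∈ Q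
    · rw [conjFun_sub hQ hy hf, hf.2.2 _ (h y hy), zero_add]
    · rw [hf.1 y hy]
      refine hf.1 _ fun h' => hy ?_
      have := conj_mem_of_mem_normalizer hQ h'
      simpa [mul_assoc] using this

end

end CfsgLib.Turull
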