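import Cfsg.Agent.Lib.Turull.Weights
import Cfsg.Agent.Lib.Turull.Util

/-!
Weight spaces of a subgroup with abelian image under elements centralizing or moving the weight.
-/

set_option autoImplicit false

namespace CfsgLib.Turull

open Subgroup Finset
open scoped commutatorElement

universe u v w

variable {H : Type u} [Group H] {K : Type v} [Field K] {V : Type w} [AddCommGroup V] [Module K V]
  {ρ : H →* Module.End K V} {Z : Subgroup H} {μ ν : H → K}

/-- A nonzero vector has at most one weight. -/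
theorem wt_unique (hμ : IsChar Z μ) (hν : IsChar Z ν) {w : V} (hw : w ≠ 0) (h1 : w ∈ wtS ρ Z μ)
    (h2 : w ∈ wtS ρ Z ν) : μ = ν := by
  funext z
  by_cases hz : z ∈ Z
  · have h3 : (μ z - ν z) • w = 0 := by rw [sub_smul, ← h1 z hz, ← h2 z hz, sub_self]
    exact sub_eq_zero.mp ((smul_eq_zero.mp h3).resolve_right hw)
  · rw [hμ.out z hz, hν.out z hz]

/-- The elements fixing a function under conjugation. -/
def wtFix (μ : H → K) : Subgroup H where
  carrier := {g | conjW g μ = μ}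
  one_mem' := conjW_one μ
  mul_mem' := fun {g h} hg hh => by
    show conjW (g * h) μ = μ
    rw [conjW_mul, hh, hg]
  inv_mem' := fun {g} hg => conjW_inv hg

theorem mem_wtFix {g : H} : g ∈ wtFix μ ↔ conjW g μ = μ := Iff.rfl

/-- An element whose commutators with `Z` fix `W` fixes the weights occurring in `W`. -/
theorem conjW_eq_of_central (hμ : IsChar Z μ) {W : Submodule K V} {g : H} (hgW : g ∈ stabW ρ W)
    (hgZ : g ∈ normalizer (Z : Set H)) (hc : ∀ z ∈ Z, ⁅z, g⁻¹⁆ ∈ fixW ρ W) {w : V} (hw : w ∈ W) (hw0 : w ≠ 0)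
    (hwμ : w ∈ wtS ρ Z μ) : conjW g μ = μ := by
  refine wt_unique (hμ.conj hgZ) hμ hw0 (fun z hz => ?_) hwμ
  have hz' : g⁻¹ * z * g ∈ Z := by simpa using conj_mem_of_mem_normalizer (inv_mem hgZ) hz
  have h1 : ρ (g⁻¹ * z * g) w = ρ z w := by
    rw [show g⁻¹ * z * g = z * ⁅z⁻¹, g⁻¹⁆ by simp [commutatorElement_def, mul_assoc], rho_mul,
      hc z⁻¹ (Z.inv_mem hz) w hw]
  show ρ z w = μ (g⁻¹ * z * g) • w
  rw [← h1, hwμ _ hz']

variable [FiniteDimensional K V]

/-- Elements fixing the weight preserve the weight space inside an invariant subspace. -/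
theorem mem_stabW_inf_wtS {W : Submodule K V} {g : H} (hgW : g ∈ stabW ρ W) (hgZ : g ∈ normalizer (Z : Set H))
    (hfix : conjW g μ = μ) : g ∈ stabW ρ (W ⊓ wtS ρ Z μ) := by
  refine ⟨fun w hw => ⟨hgW.1 w hw.1, ?_⟩, fun w hw => ⟨hgW.2 w hw.1, ?_⟩⟩
  · have := rho_mem_wtS hgZ hw.2
    rwa [hfix] at this
  · have := rho_mem_wtS (inv_mem hgZ) hw.2
    rwa [conjW_inv hfix] at this

omit [FiniteDimensional K V]

/-- A weight moved by an element of prime order is fixed by no nontrivial power. -/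
theorem pow_not_mem_wtFix {a : H} {r : ℕ} (hr : r.Prime) (ha : a ^ r = 1) (hmove : conjW a μ ≠ μ) {i : ℕ}
    (hi0 : 0 < i) (hir : i < r) : conjW (a ^ i) μ ≠ μ := fun h => hmove (by
  obtain ⟨j, hj⟩ := Nat.exists_mul_mod_eq_one_of_coprime
    (Nat.Coprime.symm (hr.coprime_iff_not_dvd.mpr fun hd => absurd (Nat.le_of_dvd hi0 hd) (by omega))) hr.one_lt
  have h1 : (a ^ i) ^ j ∈ wtFix μ := (wtFix μ).pow_mem h j
  rw [← pow_mul, pow_eq_pow_mod (i * j) ha, hj.2, pow_one] at h1
  exact h1)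

variable [Finite H]

/-- A component at a moved weight survives in the sum over the powers. -/
theorem wtProj_orbSum (hμ : IsChar Z μ) (hK : (Nat.card Z : K) ≠ 0) {a : H} {r : ℕ} (hr : r.Prime) (ha : a ^ r = 1)
    (haZ : a ∈ normalizer (Z : Set H)) (hmove : conjW a μ ≠ μ) {w : V} (hw : w ∈ wtS ρ Z μ) :
    wtProj ρ Z μ (orbSum ρ a r w) = w := by
  rw [orbSum_apply, map_sum, Finset.sum_eq_single 0]
  · rw [pow_zero, map_one, Module.End.one_apply, wtProj_eq ρ hμ hK hw]
  · intro i hi hi0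
    have hN := (normalizer (Z : Set H)).pow_mem haZ i
    exact wtProj_eq_zero ρ hμ (hμ.conj hN)
      (fun h => pow_not_mem_wtFix hr ha hmove (Nat.pos_of_ne_zero hi0) (Finset.mem_range.mp hi) h.symm)
      (rho_mem_wtS hN hw)
  · exact fun h => absurd (Finset.mem_range.mpr hr.pos) h

/-- A moved weight occurring in an invariant subspace gives a fixed vector there. -/
theorem exists_fixed_of_moved (hμ : IsChar Z μ) (hK : (Nat.card Z : K) ≠ 0) {a : H} {r : ℕ} (hr : r.Prime)
    (ha : a ^ r = 1) (haZ : a ∈ normalizer (Z : Set H)) (hmove : conjW a μ ≠ μ) {W : Submodule K V}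
    (haW : a ∈ stabW ρ W) {w : V} (hw : w ∈ W) (hw0 : w ≠ 0) (hwμ : w ∈ wtS ρ Z μ) :
    ∃ s ∈ W, s ≠ 0 ∧ ρ a s = s :=
  ⟨orbSum ρ a r w, orbSum_mem ρ r haW hw, fun h => hw0 (by
    rw [← wtProj_orbSum hμ hK hr ha haZ hmove hwμ, h, map_zero]), rho_orbSum ρ ha w⟩

omit [Finite H] in
/-- Commutators with a cyclic group are controlled by the generator. -/
theorem commutator_zpowers_le {D N : Subgroup H} {a : H} (haN : a ∈ normalizer (N : Set H))
    (h : ∀ d ∈ D, ⁅a, d⁆ ∈ N) : ⁅D, zpowers a⁆ ≤ N := by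
  have h1 : zpowers a ≤ sectKer (zpowers a) D N := zpowers_le.mpr ⟨mem_zpowers a, haN, h⟩
  rw [Subgroup.commutator_comm, Subgroup.commutator_le]
  exact fun g hg d hd => (h1 hg).2.2 d hd

end CfsgLib.Turull
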