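import Cfsg.Agent.Lib.Turull.PairMain
import Cfsg.Agent.Lib.Turull.WeightTools
import Cfsg.Agent.Lib.Turull.Minimal

/-!
An element of prime order without fixed vectors centralizes, on the space, its commutators with a normalized
subgroup of odd prime power order.
-/

set_option autoImplicit false

namespace CfsgLib.Turull

open Subgroup Finset
open scoped commutatorElement

universe u v w

variable {H : Type u} [Group H] {K : Type v} [Field K] {V : Type w} [AddCommGroup V] [Module K V]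

/-- The elements of `D` acting on an invariant subspace as scalars. -/
def scalOn (ρ : H →* Module.End K V) (D : Subgroup H) (U : Submodule K V) : Subgroup H :=
  (Scal (restrW ρ U) (D.subgroupOf (stabW ρ U))).map (stabW ρ U).subtype

variable {ρ : H →* Module.End K V} {D : Subgroup H} {U : Submodule K V}

theorem restrW_eq_smul_iff {g : stabW ρ U} {c : K} :
    restrW ρ U g = c • 1 ↔ ∀ v ∈ U, ρ g v = c • v := by
  refine ⟨fun h v hv => congrArg Subtype.val (LinearMap.congr_fun h ⟨v, hv⟩), fun h =>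
    LinearMap.ext fun v => Subtype.ext (h v v.2)⟩

theorem mem_scal_restr (hD : D ≤ stabW ρ U) {g : stabW ρ U} :
    g ∈ Scal (restrW ρ U) (D.subgroupOf (stabW ρ U)) ↔ (g : H) ∈ scalOn ρ D U :=
  ⟨fun h => ⟨g, h, rfl⟩, fun ⟨g', h, hg⟩ => by rwa [← Subtype.ext (hg : (g' : H) = g)]⟩

theorem mem_scalOn (hD : D ≤ stabW ρ U) {u : H} :
    u ∈ scalOn ρ D U ↔ u ∈ D ∧ ∃ c : K, ∀ v ∈ U, ρ u v = c • v := by
  constructor
  · rintro ⟨g, ⟨hg, c, hc⟩, rfl⟩
    exact ⟨hg, c, restrW_eq_smul_iff.mp hc⟩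
  · rintro ⟨hu, c, hc⟩
    exact ⟨⟨u, hD hu⟩, ⟨hu, c, restrW_eq_smul_iff.mpr hc⟩, rfl⟩

theorem conj_mem_scalOn (hD : D ≤ stabW ρ U) {g u : H} (hgU : g ∈ stabW ρ U) (hgD : g ∈ normalizer (D : Set H))
    (hu : u ∈ scalOn ρ D U) : g * u * g⁻¹ ∈ scalOn ρ D U := by
  rw [mem_scalOn hD] at hu ⊢
  obtain ⟨hu, c, hc⟩ := hu
  refine ⟨conj_mem_of_mem_normalizer hgD hu, c, fun v hv => ?_⟩
  rw [rho_mul, rho_mul, hc _ (hgU.2 v hv), map_smul, rho_cancel_inv]

theorem mem_normalizer_scalOn (hD : D ≤ stabW ρ U) {g : H} (hgU : g ∈ stabW ρ U)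
    (hgD : g ∈ normalizer (D : Set H)) : g ∈ normalizer (scalOn ρ D U : Set H) :=
  mem_normalizer_of_conj (fun _ hx => conj_mem_scalOn hD hgU hgD hx)
    fun _ hx => conj_mem_scalOn hD (inv_mem hgU) (inv_mem hgD) hx

variable [Finite H]

/-- The operator configuration on an invariant subspace where commutators are scalars. -/
theorem op_on_subspace (hD : D ≤ stabW ρ U) {a : H} (ha : a ∈ stabW ρ U)
    (haD : a ∈ normalizer (D : Set H)) {r : ℕ} (hr : r.Prime) (hpow : a ^ r = 1) (hrK : (r : K) ≠ 0)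
    (hrD : ¬ r ∣ Nat.card D) (hDK : (Nat.card D : K) ≠ 0)
    (hgen : D ≤ ⁅D, zpowers a⁆)
    (hcomm : ∀ u ∈ D, ∀ w ∈ D, ∃ c : K, ∀ v ∈ U, ρ ⁅u, w⁆ v = c • v)
    (hnd : ∀ u ∈ D, (∀ w ∈ D, ∀ v ∈ U, ρ ⁅u, w⁆ v = v) → ∃ c : K, ∀ v ∈ U, ρ u v = c • v) :
    Op (restrW ρ U) (D.subgroupOf (stabW ρ U)) ⟨a, ha⟩ r := by
  have hcard : Nat.card (D.subgroupOf (stabW ρ U)) = Nat.card D :=
    Nat.card_congr (Subgroup.subgroupOfEquivOfLe hD).toEquiv
  refine
    { heis :=
        { cardK := by rw [hcard]; exact hDK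
          comm := fun u hu w hw => ?_
          nondeg := fun u hu h => ?_ }
      prime := hr
      norm := ?_
      pow := Subtype.ext hpow
      castK := hrK
      cop := by rw [hcard]; exact hrD
      fpf := fun u hu h => ?_ }
  · obtain ⟨c, hc⟩ := hcomm u hu w hw
    exact ⟨c, restrW_eq_smul_iff.mpr (by simpa [commutatorElement_def] using hc)⟩
  · refine ⟨hu, ?_⟩
    obtain ⟨c, hc⟩ := hnd u hu fun w hw v hv => by
      have h1 := congrArg Subtype.val (LinearMap.congr_fun (h ⟨w, hD hw⟩ hw) ⟨v, hv⟩)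
      simpa [restrW_apply, commutatorElement_def] using h1
    exact ⟨c, restrW_eq_smul_iff.mpr hc⟩
  · refine mem_normalizer_of_conj (fun x hx => ?_) fun x hx => ?_
    · simpa [Subgroup.mem_subgroupOf] using conj_mem_of_mem_normalizer haD hx
    · simpa [Subgroup.mem_subgroupOf] using conj_mem_of_mem_normalizer (inv_mem haD) hx
  · rw [mem_scal_restr hD] at h ⊢
    have hz : zpowers a ≤ normalizer (D : Set H) := zpowers_le.mpr haD
    have hsD : scalOn ρ D U ≤ D := fun x hx => ((mem_scalOn hD).mp hx).1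
    have hcop : (Nat.card (zpowers a)).Coprime (Nat.card D) := by
      rw [Nat.card_zpowers]
      exact Nat.Coprime.coprime_dvd_left (orderOf_dvd_of_pow_eq_one hpow) (hr.coprime_iff_not_dvd.mpr hrD)
    refine mem_of_fixed_mod hz hcop (isSolvable_zpowers a) hsD
      (fun g hg => mem_normalizer_scalOn hD (hD hg) (le_normalizer hg))
      (zpowers_le.mpr (mem_normalizer_scalOn hD ha haD))
      (fun x hx y hy => (mem_scalOn hD).mpr
        ⟨comm_mem_of_normalizes (le_normalizer hx) hy, hcomm x hx y hy⟩)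
      (hgen.trans le_sup_left) hu fun g hg => ?_
    obtain ⟨i, rfl⟩ := mem_zpowers_iff.mp hg
    have haN : (⟨a, ha⟩ : stabW ρ U) ∈ normalizer (D.subgroupOf (stabW ρ U) : Set (stabW ρ U)) := by
      refine mem_normalizer_of_conj (fun x hx => ?_) fun x hx => ?_
      · simpa [Subgroup.mem_subgroupOf] using conj_mem_of_mem_normalizer haD hx
      · simpa [Subgroup.mem_subgroupOf] using conj_mem_of_mem_normalizer (inv_mem haD) hx
    have hfix := (conjHom_fixed_iff (ρ := restrW ρ U) ⟨_, haN⟩ hu).mpr ((mem_scal_restr hD).mpr h)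
    have hfixi : conjHom (restrW ρ U) (D.subgroupOf (stabW ρ U)) (⟨_, haN⟩ ^ i) (cl (restrW ρ U) hu) =
        cl (restrW ρ U) hu := by
      rw [map_zpow]
      exact (MulAction.stabilizer (Equiv.Perm (Cls (restrW ρ U) (D.subgroupOf (stabW ρ U))))
        (cl (restrW ρ U) hu)).zpow_mem hfix i
    have h1 := (mem_scal_restr hD).mp ((conjHom_fixed_iff _ hu).mp hfixi)
    rw [← commutatorElement_inv]
    exact inv_mem (by simpa [commutatorElement_def] using h1)

variable [IsAlgClosed K] [FiniteDimensional K V]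

/-- Shult's theorem: without fixed vectors, the commutators of `a` with a normalized subgroup of odd prime
power order act trivially. -/
theorem shult {a : H} {r : ℕ} (hr : r.Prime) (hpow : a ^ r = 1) (hrK : (r : K) ≠ 0) {q : ℕ} (hq : q.Prime)
    (hq2 : q ≠ 2) (hqr : q ≠ r) (hqK : (q : K) ≠ 0) :
    ∀ D : Subgroup H, IsPGroup q D → a ∈ normalizer (D : Set H) → ∀ W : Submodule K V, D ≤ stabW ρ W →
      a ∈ stabW ρ W → (∀ w ∈ W, ρ a w = w → w = 0) → ∀ d ∈ D, ⁅a, d⁆ ∈ fixW ρ W := by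
  suffices key : ∀ (n : ℕ) (D : Subgroup H), Nat.card D = n → IsPGroup q D → a ∈ normalizer (D : Set H) →
      ∀ W : Submodule K V, D ≤ stabW ρ W → a ∈ stabW ρ W → (∀ w ∈ W, ρ a w = w → w = 0) →
        ⁅D, zpowers a⁆ ≤ fixW ρ W by
    intro D hDq haD W hDW haW hW d hd
    have h1 := key _ D rfl hDq haD W hDW haW hW
      (Subgroup.commutator_mem_commutator hd (mem_zpowers a))
    rw [← commutatorElement_inv]
    exact inv_mem h1
  intro n
  induction n using Nat.strong_induction_on with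
  | _ n ih =>
  intro D hn hDq haD W hDW haW hW
  haveI := Fact.mk hq
  have hz : zpowers a ≤ normalizer (D : Set H) := zpowers_le.mpr haD
  have haF : a ∈ normalizer (fixW ρ W : Set H) := stabW_le_normalizer_fixW ρ W haW
  have hDF : D ≤ normalizer (fixW ρ W : Set H) := hDW.trans (stabW_le_normalizer_fixW ρ W)
  have hcardK : ∀ {E : Subgroup H}, E ≤ D → (Nat.card E : K) ≠ 0 := fun {E} hE h => by
    obtain ⟨k, hk⟩ := IsPGroup.iff_card.mp (hDq.to_le hE)
    rw [hk, Nat.cast_pow] at h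
    exact hqK (pow_eq_zero_iff'.mp h).1
  have hrD : ∀ {E : Subgroup H}, E ≤ D → ¬ r ∣ Nat.card E := fun {E} hE h => by
    obtain ⟨k, hk⟩ := IsPGroup.iff_card.mp (hDq.to_le hE)
    rw [hk] at h
    exact hqr ((Nat.prime_dvd_prime_iff_eq hr hq).mp (hr.dvd_of_dvd_pow h)).symm
  have hcop : (Nat.card (zpowers a)).Coprime (Nat.card D) := by
    rw [Nat.card_zpowers]
    exact Nat.Coprime.coprime_dvd_left (orderOf_dvd_of_pow_eq_one hpow) (hr.coprime_iff_not_dvd.mpr (hrD le_rfl))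
  have hD₁D : ⁅D, zpowers a⁆ ≤ D := CfsgLib.commutator_le_of_le_normalizer hz
  by_cases hgen : ⁅D, zpowers a⁆ = D
  swap
  · have h1 := ih _ (hn ▸ Set.Finite.card_lt_card (Set.toFinite _)
      (SetLike.coe_ssubset_coe.mpr (lt_of_le_of_ne hD₁D hgen))) ⁅D, zpowers a⁆ rfl (hDq.to_le hD₁D)
      (mem_normalizer_commutator haD (le_normalizer (mem_zpowers a))) W (hD₁D.trans hDW) haW hW
    rwa [CfsgLib.coprime_commutator_commutator hz hcop (Or.inl (isSolvable_zpowers a))] at h1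
  rw [hgen]
  -- the derived subgroup is central on the space
  have hD'D : ⁅D, D⁆ ≤ D := CfsgLib.commutator_le_of_le_normalizer le_normalizer
  have hder : ⁅⁅D, D⁆, D⁆ ≤ fixW ρ W := by
    by_cases hD0 : D = ⊥
    · rw [hD0, Subgroup.commutator_bot_right]; exact bot_le
    have hlt : ⁅D, D⁆ < D := by
      refine lt_of_le_of_ne hD'D fun h => hD0 ?_
      have h1 : D ≤ Fr D := by
        conv_lhs => rw [← h]
        rw [Subgroup.commutator_le]
        exact fun x hx y hy => comm_mem_fr hDq hx hy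
      exact (fr_nongenerating (S := ⊥) bot_le (h1.trans le_sup_right)).symm
    have haD' : a ∈ normalizer ((⁅D, D⁆ : Subgroup H) : Set H) := mem_normalizer_commutator haD haD
    have h1 := ih _ (hn ▸ Set.Finite.card_lt_card (Set.toFinite _) (SetLike.coe_ssubset_coe.mpr hlt)) ⁅D, D⁆ rfl
      (hDq.to_le hD'D) haD' W (hD'D.trans hDW) haW hW
    have h2 : ⁅⁅⁅D, D⁆, zpowers a⁆, D⁆ ≤ fixW ρ W :=
      (Subgroup.commutator_mono h1 le_rfl).trans (CfsgLib.commutator_le_of_le_normalizer hDF)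
    have h3 : ⁅⁅D, ⁅D, D⁆⁆, zpowers a⁆ ≤ fixW ρ W := by
      refine (Subgroup.commutator_mono ?_ le_rfl).trans h1
      exact (Subgroup.commutator_mono le_rfl hD'D)
    have h4 := CfsgLib.Stabilizer.commutator_commutator_le_of_rotate (A := zpowers a) (B := D) (C := ⁅D, D⁆)
      (zpowers_le.mpr haF) hDF (hD'D.trans hDF) h3 h2
    rwa [Subgroup.commutator_comm (zpowers a) D, hgen, Subgroup.commutator_comm] at h4
  set Z := sectKer D D (fixW ρ W) with hZdef
  have hZD : Z ≤ D := fun x hx => hx.1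
  have hD'Z : ⁅D, D⁆ ≤ Z := fun x hx =>
    ⟨hD'D hx, hDF (hD'D hx), fun y hy => hder (Subgroup.commutator_mem_commutator hx hy)⟩
  have haZ : a ∈ normalizer (Z : Set H) := by
    have key : ∀ g : H, g ∈ normalizer (D : Set H) → g ∈ normalizer (fixW ρ W : Set H) → ∀ x ∈ Z,
        g * x * g⁻¹ ∈ Z := fun g hgD hgF x hx => by
      refine ⟨conj_mem_of_mem_normalizer hgD hx.1, hDF (conj_mem_of_mem_normalizer hgD hx.1), fun y hy => ?_⟩
      have hy' : g⁻¹ * y * g⁻¹⁻¹ ∈ D := conj_mem_of_mem_normalizer (inv_mem hgD) hy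
      rw [show ⁅g * x * g⁻¹, y⁆ = g * ⁅x, g⁻¹ * y * g⁻¹⁻¹⁆ * g⁻¹ by simp [commutatorElement_def, mul_assoc]]
      exact conj_mem_of_mem_normalizer hgF (hx.2.2 _ hy')
    exact mem_normalizer_of_conj (key a haD haF) (key a⁻¹ (inv_mem haD) (inv_mem haF))
  have hDnZ : ∀ g ∈ D, g ∈ normalizer (Z : Set H) := fun g hg =>
    mem_normalizer_of_conj
      (fun x hx => by
        have : ⁅g, x⁆ * x ∈ Z := Z.mul_mem (hD'Z (Subgroup.commutator_mem_commutator hg hx.1)) hx
        simpa [commutatorElement_def] using this)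
      (fun x hx => by
        have : ⁅g⁻¹, x⁆ * x ∈ Z := Z.mul_mem (hD'Z (Subgroup.commutator_mem_commutator (D.inv_mem hg) hx.1)) hx
        simpa [commutatorElement_def] using this)
  intro d hd w hw
  have hsum := le_iSup_wtS ρ (hZD.trans hDW) (hcardK hZD) (fun x hx y hy => hx.2.2 y (hZD hy)) hw
  refine Submodule.iSup_induction _ (motive := fun z => ρ d z = z) hsum ?_ (by simp)
    (fun x y hx hy => by rw [map_add, hx, hy])
  rintro ⟨μ, hμ⟩ z hz
  dsimp only at hz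
  by_contra hne
  have hz0 : z ≠ 0 := fun h => hne (by rw [h, map_zero])
  obtain ⟨hzW, hzμ⟩ := hz
  -- the weight is fixed
  have hfix : conjW a μ = μ := by
    by_contra hmove
    obtain ⟨s, hs, hs0, has⟩ := exists_fixed_of_moved hμ (hcardK hZD) hr hpow haZ hmove haW hzW hz0 hzμ
    exact hs0 (hW s hs has)
  set U := W ⊓ wtS ρ Z μ with hU
  have haU : a ∈ stabW ρ U := mem_stabW_inf_wtS haW haZ hfix
  have hDfix : ∀ g ∈ D, conjW g μ = μ := fun g hg =>
    conjW_eq_of_central hμ (hDW hg) (hDnZ g hg) (fun x hx => hx.2.2 _ (D.inv_mem hg)) hzW hz0 hzμ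
  have hDU : D ≤ stabW ρ U := fun g hg => mem_stabW_inf_wtS (hDW hg) (hDnZ g hg) (hDfix g hg)
  set rad := sectKer D D (fixW ρ U) with hrad
  have hradD : rad ≤ D := fun x hx => hx.1
  have hUF : stabW ρ U ≤ normalizer (fixW ρ U : Set H) := stabW_le_normalizer_fixW ρ U
  have hFF : fixW ρ W ≤ fixW ρ U := fun g hg v hv => hg v hv.1
  have hcommU : ∀ x ∈ D, ∀ y ∈ D, ∀ v ∈ U, ρ ⁅x, y⁆ v = μ ⁅x, y⁆ • v := fun x hx y hy v hv =>
    hv.2 _ (hD'Z (Subgroup.commutator_mem_commutator hx hy))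
  have harad : a ∈ normalizer (rad : Set H) := by
    have key : ∀ g : H, g ∈ normalizer (D : Set H) → g ∈ normalizer (fixW ρ U : Set H) → ∀ x ∈ rad,
        g * x * g⁻¹ ∈ rad := fun g hgD hgF x hx => by
      refine ⟨conj_mem_of_mem_normalizer hgD hx.1, hUF (hDU (conj_mem_of_mem_normalizer hgD hx.1)),
        fun y hy => ?_⟩
      have hy' : g⁻¹ * y * g⁻¹⁻¹ ∈ D := conj_mem_of_mem_normalizer (inv_mem hgD) hy
      rw [show ⁅g * x * g⁻¹, y⁆ = g * ⁅x, g⁻¹ * y * g⁻¹⁻¹⁆ * g⁻¹ by simp [commutatorElement_def, mul_assoc]]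
      exact conj_mem_of_mem_normalizer hgF (hx.2.2 _ hy')
    exact mem_normalizer_of_conj (key a haD (hUF haU)) (key a⁻¹ (inv_mem haD) (inv_mem (hUF haU)))
  have hD'rad : ⁅D, D⁆ ≤ rad := fun x hx =>
    ⟨hD'D hx, hUF (hDU (hD'D hx)), fun y hy => hFF (hder (Subgroup.commutator_mem_commutator hx hy))⟩
  have hDnrad : ∀ g ∈ D, g ∈ normalizer (rad : Set H) := fun g hg =>
    mem_normalizer_of_conj
      (fun x hx => by
        have : ⁅g, x⁆ * x ∈ rad := rad.mul_mem (hD'rad (Subgroup.commutator_mem_commutator hg hx.1)) hx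
        simpa [commutatorElement_def] using this)
      (fun x hx => by
        have : ⁅g⁻¹, x⁆ * x ∈ rad := rad.mul_mem (hD'rad (Subgroup.commutator_mem_commutator (D.inv_mem hg) hx.1)) hx
        simpa [commutatorElement_def] using this)
  have hsum₂ := le_iSup_wtS ρ (hradD.trans hDU) (hcardK hradD) (fun x hx y hy => hx.2.2 y (hradD hy))
    (show z ∈ U from ⟨hzW, hzμ⟩)
  refine hne (Submodule.iSup_induction _ (motive := fun z => ρ d z = z) hsum₂ ?_ (by simp)
    (fun x y hx hy => by rw [map_add, hx, hy]))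
  rintro ⟨ν, hν⟩ x hx
  dsimp only at hx
  by_contra hne'
  have hx0 : x ≠ 0 := fun h => hne' (by rw [h, map_zero])
  obtain ⟨hxU, hxν⟩ := hx
  have hfix₂ : conjW a ν = ν := by
    by_contra hmove
    obtain ⟨s, hs, hs0, has⟩ := exists_fixed_of_moved hν (hcardK hradD) hr hpow harad hmove haU hxU hx0 hxν
    exact hs0 (hW s hs.1 has)
  set U₂ := U ⊓ wtS ρ rad ν with hU₂
  have haU₂ : a ∈ stabW ρ U₂ := mem_stabW_inf_wtS haU harad hfix₂
  have hDfix₂ : ∀ g ∈ D, conjW g ν = ν := fun g hg =>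
    conjW_eq_of_central hν (hDU hg) (hDnrad g hg) (fun y hy => hy.2.2 _ (D.inv_mem hg)) hxU hx0 hxν
  have hDU₂ : D ≤ stabW ρ U₂ := fun g hg => mem_stabW_inf_wtS (hDU hg) (hDnrad g hg) (hDfix₂ g hg)
  have hone : ∀ u ∈ D, ∀ w ∈ D, ρ ⁅u, w⁆ x = x → ⁅u, w⁆ ∈ fixW ρ U := fun u hu w hw h v hv => by
    have h1 := hcommU u hu w hw x hxU
    rw [h] at h1
    have h2 : (μ ⁅u, w⁆ - 1) • x = 0 := by rw [sub_smul, one_smul, ← h1, sub_self]
    rw [hcommU u hu w hw v hv, sub_eq_zero.mp ((smul_eq_zero.mp h2).resolve_right hx0), one_smul]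
  haveI : Nontrivial U₂ := Submodule.nontrivial_iff_ne_bot.mpr fun h => hx0 (by
    have : x ∈ U₂ := ⟨hxU, hxν⟩
    rwa [h, Submodule.mem_bot] at this)
  have hop := op_on_subspace (ρ := ρ) hDU₂ haU₂ haD hr hpow hrK (hrD le_rfl) (hcardK le_rfl) (le_of_eq hgen.symm)
    (fun u hu w hw => ⟨μ ⁅u, w⁆, fun v hv => hcommU u hu w hw v hv.1⟩)
    (fun u hu h => ⟨ν u, fun v hv => hv.2 u ⟨hu, hUF (hDU hu), fun w hw =>
      hone u hu w hw (h w hw x ⟨hxU, hxν⟩)⟩⟩)
  have hodd : Odd (Nat.card (D.subgroupOf (stabW ρ U₂))) := by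
    rw [Nat.card_congr (Subgroup.subgroupOfEquivOfLe hDU₂).toEquiv]
    obtain ⟨k, hk⟩ := IsPGroup.iff_card.mp hDq
    rw [hk]
    exact (hq.odd_of_ne_two hq2).pow
  have hscal := (hop.no_fixed (fun v hv => Subtype.ext (hW _ v.2.1.1 (congrArg Subtype.val hv)))).1 hodd
  have hallrad : D ≤ rad := fun u hu => by
    refine ⟨hu, hUF (hDU hu), fun w hw => hone u hu w hw ?_⟩
    obtain ⟨-, c, hc⟩ := hscal (show (⟨u, hDU₂ hu⟩ : stabW ρ U₂) ∈ D.subgroupOf _ from hu)
    have hcu := restrW_eq_smul_iff.mp hc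
    have hx2 : x ∈ U₂ := ⟨hxU, hxν⟩
    rw [commutatorElement_def, rho_mul, rho_mul, rho_mul]
    have h1 : ρ u⁻¹ (ρ w⁻¹ x) = c⁻¹ • ρ w⁻¹ x := by
      have h2 := hcu _ ((hDU₂ (D.inv_mem hu)).1 _ ((hDU₂ (D.inv_mem hw)).1 x hx2))
      rw [rho_cancel_inv] at h2
      rcases eq_or_ne c 0 with rfl | hc0
      · exfalso
        rw [zero_smul] at h2
        exact hx0 (by rw [← rho_cancel_inv ρ w x, h2, map_zero])
      · conv_rhs => rw [h2]
        rw [smul_smul, inv_mul_cancel₀ hc0, one_smul]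
    rw [h1, map_smul, rho_cancel_inv, map_smul, hcu x hx2, smul_smul]
    rcases eq_or_ne c 0 with rfl | hc0
    · exact absurd (by rw [← rho_inv_cancel ρ u x, hcu x hx2, zero_smul, map_zero]) hx0
    · rw [inv_mul_cancel₀ hc0, one_smul]
  -- the weight is invariant under `a`, hence trivial on the commutators
  have h5 : ⁅D, zpowers a⁆ ≤ (fixW ρ U₂) := by
    refine commutator_zpowers_le (stabW_le_normalizer_fixW ρ U₂ haU₂) fun u hu v hv => ?_
    have hau : a * u * a⁻¹ ∈ rad := conj_mem_of_mem_normalizer harad (hallrad hu)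
    have e : ν (a * u * a⁻¹) = ν u := by
      conv_lhs => rw [← hfix₂]
      simp [conjW, mul_assoc]
    rw [commutatorElement_def, rho_mul (g := a * u * a⁻¹), hv.2 _ (rad.inv_mem (hallrad hu)), map_smul,
      hv.2 _ hau, e, smul_smul, hν.mul_inv (hallrad hu), one_smul]
  rw [hgen] at h5
  exact hne' (h5 hd x ⟨hxU, hxν⟩)

end CfsgLib.Turull
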