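import Cfsg.Agent.Lib.Turull.Section
import Cfsg.Agent.Lib.Turull.Shult

/-!
An element of prime order without fixed vectors on a space acted on by a two-group with scalar commutators:
the odd groups it normalizes have their commutators with it trivial on the symplectic section.
-/

set_option autoImplicit false

namespace CfsgLib.Turull

open Subgroup Finset Module CfsgLib.FittingHeight
open scoped commutatorElement

universe u v w

variable {H : Type u} [Group H]

theorem mem_normalizer_sectKer {P Q N : Subgroup H} {g : H} (hP : g ∈ normalizer (P : Set H))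
    (hQ : g ∈ normalizer (Q : Set H)) (hN : g ∈ normalizer (N : Set H)) :
    g ∈ normalizer (sectKer P Q N : Set H) := by
  have key : ∀ g : H, g ∈ normalizer (P : Set H) → g ∈ normalizer (Q : Set H) → g ∈ normalizer (N : Set H) →
      ∀ x ∈ sectKer P Q N, g * x * g⁻¹ ∈ sectKer P Q N := fun g hP hQ hN x hx => by
    refine ⟨conj_mem_of_mem_normalizer hP hx.1, mul_mem (mul_mem hN hx.2.1) (inv_mem hN), fun y hy => ?_⟩
    have hy' : g⁻¹ * y * g⁻¹⁻¹ ∈ Q := conj_mem_of_mem_normalizer (inv_mem hQ) hy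
    rw [show ⁅g * x * g⁻¹, y⁆ = g * ⁅x, g⁻¹ * y * g⁻¹⁻¹⁆ * g⁻¹ by simp [commutatorElement_def, mul_assoc]]
    exact conj_mem_of_mem_normalizer hN (hx.2.2 _ hy')
  exact mem_normalizer_of_conj (key g hP hQ hN) (key g⁻¹ (inv_mem hP) (inv_mem hQ) (inv_mem hN))

/-- A subgroup above the commutators of a group is normalized by it. -/
theorem le_normalizer_of_comm_mem {Q L : Subgroup H} (hLQ : L ≤ Q) (h : ∀ x ∈ Q, ∀ y ∈ Q, ⁅x, y⁆ ∈ L) :
    Q ≤ normalizer (L : Set H) := fun g hg => by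
  refine mem_normalizer_of_conj (fun x hx => ?_) fun x hx => ?_
  · simpa [commutatorElement_def] using L.mul_mem (h g hg x (hLQ hx)) hx
  · simpa [commutatorElement_def] using L.mul_mem (h g⁻¹ (Q.inv_mem hg) x (hLQ hx)) hx

variable {K : Type v} [Field K]

/-- The characters of a finite subgroup are finitely many. -/
theorem finite_isChar [Finite H] (Z : Subgroup H) : Finite {μ : H → K // IsChar Z μ} := by
  classical
  have hroot : Finite {x : K // x ^ Nat.card Z = 1} := by
    refine Set.Finite.to_subtype ((Polynomial.nthRootsFinset (Nat.card Z) (1 : K)).finite_toSet.subset fun x hx => ?_)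
    rw [Finset.mem_coe, Polynomial.mem_nthRootsFinset Nat.card_pos]
    exact hx
  refine Finite.of_injective (fun μ => fun z : Z => (⟨μ.1 z, ?_⟩ : {x : K // x ^ Nat.card Z = 1})) fun μ ν h => ?_
  · let f : Z →* K :=
      { toFun := fun z => μ.1 z
        map_one' := μ.2.one
        map_mul' := fun x y => μ.2.mul x x.2 y y.2 }
    show f z ^ Nat.card Z = 1
    rw [← map_pow, pow_card_eq_one', map_one]
  · refine Subtype.ext (funext fun z => ?_)
    by_cases hz : z ∈ Z
    · exact congrArg Subtype.val (congrFun h ⟨z, hz⟩)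
    · rw [μ.2.out z hz, ν.2.out z hz]

variable {Q : Subgroup H}

/-- A vanishing value cuts the dual down to the dual of a larger subgroup. -/
theorem secDual_finrank_le [Finite H] (hQs : IsPGroup 2 Q) :
    ∀ (B : Subgroup H), B ≤ Q → 2 ^ finrank K (secDual K Q B) * Nat.card B ≤ Nat.card Q := by
  suffices key : ∀ (n : ℕ) (B : Subgroup H), B ≤ Q → Nat.card Q - Nat.card B = n →
      2 ^ finrank K (secDual K Q B) * Nat.card B ≤ Nat.card Q from fun B hB => key _ B hB rfl
  intro n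
  induction n using Nat.strong_induction_on with
  | _ n ih =>
  intro B hBQ hn
  by_cases hB : B = Q
  · have h0 : secDual K Q B = ⊥ := by
      refine eq_bot_iff.mpr fun f hf => (Submodule.mem_bot K).mpr (funext fun y => ?_)
      by_cases hy : y ∈ Q
      · exact hf.2.2 y (hB ▸ hy)
      · exact hf.1 y hy
    rw [h0, finrank_bot, pow_zero, one_mul, hB]
  obtain ⟨x, hx, hxB⟩ := SetLike.exists_of_lt (lt_of_le_of_ne hBQ hB)
  set B' := B ⊔ zpowers x
  have hB'Q : B' ≤ Q := sup_le hBQ (zpowers_le.mpr hx)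
  have hlt : B < B' := lt_of_le_of_ne le_sup_left fun h => hxB (h ▸ mem_sup_right (mem_zpowers x))
  have hcard : Nat.card B < Nat.card B' := Set.Finite.card_lt_card (Set.toFinite _) (SetLike.coe_ssubset_coe.mpr hlt)
  have hB'le : Nat.card B' ≤ Nat.card Q := Subgroup.card_le_of_le hB'Q
  have h2 : 2 * Nat.card B ≤ Nat.card B' := by
    obtain ⟨k, hk⟩ := Subgroup.card_dvd_of_le (le_of_lt hlt)
    have : 2 ≤ k := by
      by_contra hk2
      have : k = 0 ∨ k = 1 := by omega
      rcases this with rfl | rfl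
      · rw [mul_zero] at hk; exact absurd hk (Nat.card_pos).ne'
      · rw [mul_one] at hk; omega
    rw [hk, mul_comm 2]
    exact Nat.mul_le_mul_left _ this
  have ih' := ih (Nat.card Q - Nat.card B') (by omega) B' hB'Q rfl
  let ev : secDual K Q B →ₗ[K] K :=
    { toFun := fun f => (f : H → K) x
      map_add' := fun _ _ => rfl
      map_smul' := fun _ _ => rfl }
  have hker : (LinearMap.ker ev).map (secDual K Q B).subtype ≤ secDual K Q B' := by
    rintro _ ⟨⟨f, hf⟩, hfx, rfl⟩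
    refine ⟨hf.1, hf.2.1, fun b hb => ?_⟩
    let S : Subgroup H :=
      { carrier := {y | y ∈ Q ∧ f y = 0}
        one_mem' := ⟨Q.one_mem, secDual_one hf⟩
        mul_mem' := fun {y z} hy hz => ⟨Q.mul_mem hy.1 hz.1, by rw [hf.2.1 y hy.1 z hz.1, hy.2, hz.2, add_zero]⟩
        inv_mem' := fun {y} hy => ⟨Q.inv_mem hy.1, by rw [secDual_inv hf hy.1, hy.2, neg_zero]⟩ }
    have hS : B' ≤ S := sup_le (fun y hy => ⟨hBQ hy, hf.2.2 y hy⟩) (zpowers_le.mpr ⟨hx, hfx⟩)
    exact (hS hb).2
  have h3 : finrank K (secDual K Q B) ≤ finrank K (secDual K Q B') + 1 := by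
    have h4 := LinearMap.finrank_range_add_finrank_ker ev
    have h5 := Submodule.finrank_le (LinearMap.range ev)
    rw [Module.finrank_self] at h5
    have h6 := Submodule.finrank_mono hker
    rw [Submodule.finrank_map_subtype_eq] at h6
    omega
  calc 2 ^ finrank K (secDual K Q B) * Nat.card B ≤ 2 ^ (finrank K (secDual K Q B') + 1) * Nat.card B :=
        Nat.mul_le_mul_right _ (Nat.pow_le_pow_right two_pos h3)
    _ = 2 ^ finrank K (secDual K Q B') * (2 * Nat.card B) := by ring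
    _ ≤ 2 ^ finrank K (secDual K Q B') * Nat.card B' := Nat.mul_le_mul_left _ h2
    _ ≤ Nat.card Q := ih'

variable {V : Type w} [AddCommGroup V] [Module K V] [Finite H] [IsAlgClosed K] [FiniteDimensional K V]
  {ρ : H →* Module.End K V} {R : Subgroup H}

/-- Without fixed vectors there are at most `(r - 1) ^ 2` classes. -/
theorem Op.no_fixed_card {a : H} {r : ℕ} (hop : Op ρ R a r) [Nontrivial V] (hV : ∀ v, ρ a v = v → v = 0) :
    Nat.card (Cls ρ R) ≤ (r - 1) ^ 2 := by
  classical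
  haveI : NeZero r := ⟨hop.prime.ne_zero⟩
  haveI := hop.roots
  haveI := Fintype.ofFinite (Multiplicative (ZMod r) →* Kˣ)
  obtain ⟨ζ, hζ⟩ := Module.End.exists_eigenvalue (ρ a)
  obtain ⟨v, hv, hv0⟩ := hζ.exists_hasEigenvector
  obtain ⟨c, S, hP, ha, -, -⟩ := hop.exists_piece_op hv0 (Module.End.mem_eigenspace_iff.mp hv)
  rw [hP.card_cls hop.heis]
  refine Nat.pow_le_pow_left ?_ 2
  have hn1 : hop.nW ha 1 = 0 := by
    refine Submodule.finrank_eq_zero.mpr (eq_bot_iff.mpr fun s hs => ?_)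
    exact (Submodule.mem_bot K).mpr (Subtype.ext (hV _ ((hop.mem_weight_one ha).mp hs)))
  obtain ⟨χ₀, l, hl, hexc, -⟩ := hop.multiplicities hP ha
  have hle : ∀ χ, hop.nW ha χ ≤ 1 := fun χ => by
    by_cases h0 : χ₀ = 1
    · subst h0
      by_cases h : χ = 1
      · subst h; omega
      · rw [hl χ h]; omega
    · have := hl 1 (Ne.symm h0)
      by_cases h : χ = χ₀
      · subst h; omega
      · rw [hl χ h]; omega
  rw [← hop.sum_nW ha, ← Finset.add_sum_erase univ _ (Finset.mem_univ 1), hn1, zero_add]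
  refine (Finset.sum_le_sum fun χ _ => hle χ).trans (le_of_eq ?_)
  rw [Finset.sum_const, Finset.card_erase_of_mem (Finset.mem_univ _), Finset.card_univ, hop.card_chars,
    smul_eq_mul, mul_one]

set_option maxHeartbeats 400000 in
/-- The commutators with `a` of an odd group act trivially on the section modulo the radical. -/
theorem two_case {U : Submodule K V} {Q : Subgroup H} (hQ2 : IsPGroup 2 Q) (hQU : Q ≤ stabW ρ U) {a : H} {r : ℕ}
    (hr : r.Prime) (hr2 : r ≠ 2) (hpow : a ^ r = 1) (hrK : (r : K) ≠ 0) (h2K : (2 : K) ≠ 0)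
    (haQ : a ∈ normalizer (Q : Set H)) (haU : a ∈ stabW ρ U) (hUfix : ∀ w ∈ U, ρ a w = w → w = 0)
    (hcomm : ∀ u ∈ Q, ∀ w ∈ Q, ∃ c : K, ∀ v ∈ U, ρ ⁅u, w⁆ v = c • v)
    (hfr : Fr Q ≤ sectKer Q Q (fixW ρ U)) {p : ℕ} (hp : p.Prime) (hp2 : p ≠ 2) (hpr : p ≠ r) :
    ∀ D : Subgroup H, IsPGroup p D → D ≤ stabW ρ U → D ≤ normalizer (Q : Set H) →
      a ∈ normalizer (D : Set H) → ⁅Q, ⁅D, zpowers a⁆⁆ ≤ sectKer Q Q (fixW ρ U) := by
  classical
  haveI : Fact (Nat.Prime 2) := ⟨Nat.prime_two⟩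
  set F := fixW ρ U
  set N := sectKer Q Q F with hN
  set A := zpowers a
  have hUF : stabW ρ U ≤ normalizer (F : Set H) := stabW_le_normalizer_fixW ρ U
  have hNQ : N ≤ Q := fun x hx => hx.1
  have hab : ∀ x ∈ Q, ∀ y ∈ Q, ⁅x, y⁆ ∈ N := fun x hx y hy => hfr (comm_mem_fr hQ2 hx hy)
  have hQN : Q ≤ normalizer (N : Set H) := le_normalizer_of_comm_mem hNQ hab
  have haN : a ∈ normalizer (N : Set H) := mem_normalizer_sectKer haQ haQ (hUF haU)
  have hAQ : A ≤ normalizer (Q : Set H) := zpowers_le.mpr haQ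
  have hAN : A ≤ normalizer (N : Set H) := zpowers_le.mpr haN
  have hrQ : ¬ r ∣ Nat.card Q := fun h => by
    obtain ⟨k, hk⟩ := IsPGroup.iff_card.mp hQ2
    rw [hk] at h
    exact hr2 ((Nat.prime_dvd_prime_iff_eq hr Nat.prime_two).mp (hr.dvd_of_dvd_pow h))
  have hcopA : (Nat.card A).Coprime (Nat.card Q) := by
    rw [Nat.card_zpowers]
    exact Nat.Coprime.coprime_dvd_left (orderOf_dvd_of_pow_eq_one hpow) (hr.coprime_iff_not_dvd.mpr hrQ)
  -- the fixed classes and the moved ones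
  set Ct := sectKer Q A N with hCt
  set E := ⁅Q, A⁆ ⊔ N with hE
  have hQAQ : ⁅Q, A⁆ ≤ Q := CfsgLib.commutator_le_of_le_normalizer hAQ
  have hEQ : E ≤ Q := sup_le hQAQ hNQ
  have hNCt : N ≤ Ct := fun x hx => by
    refine ⟨hNQ hx, hQN (hNQ hx), fun g hg => ?_⟩
    rw [← commutatorElement_inv]
    exact N.inv_mem (comm_mem_of_normalizes (hAN hg) hx)
  have hdec : ∀ y ∈ Q, ∃ e ∈ ⁅Q, A⁆, ∃ c ∈ Ct, y = e * c ∧ ∀ g ∈ A, g * c = c * g := fun y hy => by
    obtain ⟨e, he, c, hc, hyc⟩ := CfsgLib.coprime_decomp hAQ hcopA (Or.inl (isSolvable_zpowers a)) hy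
    refine ⟨e, he, c, ⟨hc.1, hQN hc.1, fun g hg => ?_⟩, hyc, fun g hg => mem_centralizer_iff.mp hc.2 g hg⟩
    rw [commutatorElement_eq_one_iff_mul_comm.mpr (mem_centralizer_iff.mp hc.2 g hg).symm]
    exact one_mem _
  have hECt : ∀ x ∈ E, x ∈ Ct → x ∈ N := fun x hx hxC => by
    refine mem_of_fixed_mod (Q := E) (P := A) ?_ (hcopA.coprime_dvd_right (Subgroup.card_dvd_of_le hEQ))
      (isSolvable_zpowers a) le_sup_right (hEQ.trans hQN) hAN (fun u hu w hw => hab u (hEQ hu) w (hEQ hw)) ?_ hx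
      (fun g hg => hxC.2.2 g hg)
    · exact fun g hg => mem_normalizer_sup (CfsgLib.right_le_normalizer_commutator A Q hg) (hAN hg)
    · refine sup_le ?_ le_sup_right
      conv_lhs => rw [← CfsgLib.coprime_commutator_commutator hAQ hcopA (Or.inl (isSolvable_zpowers a))]
      exact (Subgroup.commutator_mono le_sup_left le_rfl).trans le_sup_left
  -- elements acting as scalars on the space commute with everything that preserves it, as far as it sees
  have hscalF : ∀ z ∈ Q, (∃ c : K, ∀ v ∈ U, ρ z v = c • v) → ∀ g ∈ stabW ρ U, ⁅z, g⁆ ∈ F := by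
    rintro z hz ⟨c, hc⟩ g hg v hv
    rw [commutatorElement_def, rho_mul]
    have hw : ρ g⁻¹ v ∈ U := hg.2 v hv
    have h4 : ρ (z * g * z⁻¹) (ρ g⁻¹ v) = ρ g (ρ g⁻¹ v) := by
      have hw' : ρ z⁻¹ (ρ g⁻¹ v) ∈ U := (hQU hz).2 _ hw
      rw [rho_mul, rho_mul, hc _ (hg.1 _ hw')]
      conv_rhs => rw [← rho_cancel_inv ρ z (ρ g⁻¹ v), hc _ hw', map_smul]
    rw [h4, rho_cancel_inv]
  have hpair : ∀ (G : Subgroup H), G ≤ normalizer (Q : Set H) → G ≤ stabW ρ U →
      ⁅⁅Q, G⁆ ⊔ N, sectKer Q G N⁆ ≤ F := by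
    intro G hGQ hGU
    set S := sectKer Q G N
    have hSQ : S ≤ Q := fun x hx => hx.1
    have h1 : ⁅⁅Q, G⁆, S⁆ ≤ F := by
      refine CfsgLib.Stabilizer.commutator_commutator_le_of_rotate (hQU.trans hUF) (hGU.trans hUF)
        ((hSQ.trans hQU).trans hUF) ?_ ?_
      · have h2 : ⁅G, S⁆ ≤ N := by
          rw [Subgroup.commutator_comm, Subgroup.commutator_le]
          exact fun s hs g hg => hs.2.2 g hg
        refine (Subgroup.commutator_mono h2 le_rfl).trans (Subgroup.commutator_le.mpr fun n hn w hw => hn.2.2 w hw)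
      · have h2 : ⁅S, Q⁆ ≤ scalOn ρ Q U := Subgroup.commutator_le.mpr fun s hs w hw =>
          (mem_scalOn hQU).mpr ⟨comm_mem_of_normalizes (le_normalizer (hSQ hs)) hw, hcomm s (hSQ hs) w hw⟩
        refine (Subgroup.commutator_mono h2 le_rfl).trans (Subgroup.commutator_le.mpr fun z hz g hg => ?_)
        obtain ⟨hzQ, hzc⟩ := (mem_scalOn hQU).mp hz
        exact hscalF z hzQ hzc g (hGU hg)
    rw [Subgroup.commutator_le]
    intro y hy s hs
    obtain ⟨n, hn, e, he, rfl⟩ := CfsgLib.mem_sup_of_le_normalizer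
      ((CfsgLib.commutator_le_of_le_normalizer hGQ).trans hQN) (show y ∈ N ⊔ ⁅Q, G⁆ by rwa [sup_comm])
    rw [show ⁅n * e, s⁆ = n * ⁅e, s⁆ * n⁻¹ * ⁅n, s⁆ by simp [commutatorElement_def, mul_assoc]]
    exact F.mul_mem (conj_mem_of_mem_normalizer (hUF (hQU (hNQ hn))) (h1 (Subgroup.commutator_mem_commutator he hs)))
      (hn.2.2 s (hSQ hs))
  -- the configuration on the moved classes
  set S₀ := scalOn ρ Q U with hS₀
  have hS₀Q : S₀ ≤ Q := fun x hx => ((mem_scalOn hQU).mp hx).1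
  have hS₀N : S₀ ≤ N := fun z hz => by
    obtain ⟨hzQ, hzc⟩ := (mem_scalOn hQU).mp hz
    exact ⟨hzQ, hUF (hQU hzQ), fun w hw => hscalF z hzQ hzc w (hQU hw)⟩
  set R := ⁅Q, A⁆ ⊔ S₀ with hR
  have hRQ : R ≤ Q := sup_le hQAQ hS₀Q
  have hRE : R ≤ E := sup_le le_sup_left (hS₀N.trans le_sup_right)
  have hnormS : ∀ g ∈ stabW ρ U, g ∈ normalizer (Q : Set H) → g ∈ normalizer (S₀ : Set H) :=
    fun g hgU hgQ => mem_normalizer_scalOn hQU hgU hgQ
  have hnormR : ∀ g ∈ stabW ρ U, g ∈ normalizer (Q : Set H) → g ∈ normalizer (A : Set H) →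
      g ∈ normalizer (R : Set H) := fun g hgU hgQ hgA =>
    mem_normalizer_sup (mem_normalizer_commutator hgQ hgA) (hnormS g hgU hgQ)
  have haR : a ∈ normalizer (R : Set H) := hnormR a haU haQ (le_normalizer (mem_zpowers a))
  have hscalR : ∀ u, u ∈ scalOn ρ R U ↔ u ∈ S₀ := fun u => by
    rw [mem_scalOn (hRQ.trans hQU), hS₀, mem_scalOn hQU]
    exact ⟨fun h => ⟨hRQ h.1, h.2⟩, fun h => ⟨mem_sup_right ((mem_scalOn hQU).mpr h), h.2⟩⟩
  have habS : ∀ x ∈ Q, ∀ y ∈ Q, ⁅x, y⁆ ∈ S₀ := fun x hx y hy =>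
    (mem_scalOn hQU).mpr ⟨comm_mem_of_normalizes (le_normalizer hx) hy, hcomm x hx y hy⟩
  have hS₀A : A ≤ normalizer (S₀ : Set H) := zpowers_le.mpr (hnormS a haU haQ)
  have hQS₀ : Q ≤ normalizer (S₀ : Set H) := fun g hg => hnormS g (hQU hg) (le_normalizer hg)
  have hNS₀ : ∀ u ∈ R, u ∈ N → ∀ g ∈ A, ⁅u, g⁆ ∈ S₀ := fun u hu huN g hg => by
    -- the commutator fixes every weight space of the radical
    have hm : ⁅u, g⁆ ∈ F := by
      have hKN : (Nat.card N : K) ≠ 0 := fun h => by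
        obtain ⟨k, hk⟩ := IsPGroup.iff_card.mp (hQ2.to_le hNQ)
        rw [hk, Nat.cast_pow, Nat.cast_ofNat] at h
        exact h2K (pow_eq_zero_iff'.mp h).1
      intro v hv
      have hsum := le_iSup_wtS ρ (hNQ.trans hQU) hKN (fun x hx y hy => hx.2.2 y (hNQ hy)) hv
      refine Submodule.iSup_induction _ (motive := fun z => ρ ⁅u, g⁆ z = z) hsum ?_ (by simp)
        (fun x y hx hy => by rw [map_add, hx, hy])
      rintro ⟨ν, hν⟩ z hz
      dsimp only at hz
      by_cases hz0 : z = 0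
      · rw [hz0, map_zero]
      have hfixν : conjW a ν = ν := by
        by_contra hmove
        obtain ⟨s, hs, hs0, has⟩ := exists_fixed_of_moved hν hKN hr hpow haN hmove haU hz.1 hz0 hz.2
        exact hs0 (hUfix s hs has)
      have hgν : conjW g⁻¹ ν = ν := by
        have h0 : A ≤ wtFix ν := zpowers_le.mpr hfixν
        exact h0 (inv_mem hg)
      have h1 : g * u⁻¹ * g⁻¹ ∈ N := conj_mem_of_mem_normalizer (hAN hg) (N.inv_mem huN)
      have h2 : ν (g * u⁻¹ * g⁻¹) = ν u⁻¹ := by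
        conv_rhs => rw [← hgν]
        simp [conjW]
      rw [commutatorElement_def, show u * g * u⁻¹ * g⁻¹ = u * (g * u⁻¹ * g⁻¹) by group, rho_mul, hz.2 _ h1,
        map_smul, hz.2 _ huN, h2, smul_smul, hν.mul_inv huN, one_smul]
    exact (mem_scalOn hQU).mpr ⟨hQAQ (Subgroup.commutator_mem_commutator (hRQ hu) hg), 1, fun v hv => by
      rw [hm v hv, one_smul]⟩
  have hop : U ≠ ⊥ → Op (restrW ρ U) (R.subgroupOf (stabW ρ U)) ⟨a, haU⟩ r := fun hU0 => by
    have hRU : R ≤ stabW ρ U := hRQ.trans hQU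
    have hcard : Nat.card (R.subgroupOf (stabW ρ U)) = Nat.card R :=
      Nat.card_congr (Subgroup.subgroupOfEquivOfLe hRU).toEquiv
    have hRA : A ≤ normalizer (R : Set H) := zpowers_le.mpr haR
    have hgenR : R ≤ ⁅R, A⁆ ⊔ S₀ := by
      refine sup_le ?_ le_sup_right
      conv_lhs => rw [← CfsgLib.coprime_commutator_commutator hAQ hcopA (Or.inl (isSolvable_zpowers a))]
      exact (Subgroup.commutator_mono le_sup_left le_rfl).trans le_sup_left
    have hfpfR : ∀ u ∈ R, (∀ g ∈ A, ⁅u, g⁆ ∈ S₀) → u ∈ S₀ := fun u hu h =>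
      mem_of_fixed_mod hRA (hcopA.coprime_dvd_right (Subgroup.card_dvd_of_le hRQ)) (isSolvable_zpowers a)
        le_sup_right (hRQ.trans hQS₀) hS₀A (fun x hx y hy => habS x (hRQ hx) y (hRQ hy)) hgenR hu h
    have hnormR' : (⟨a, haU⟩ : stabW ρ U) ∈ normalizer (R.subgroupOf (stabW ρ U) : Set (stabW ρ U)) := by
      refine mem_normalizer_of_conj (fun x hx => ?_) fun x hx => ?_
      · simpa [Subgroup.mem_subgroupOf] using conj_mem_of_mem_normalizer haR hx
      · simpa [Subgroup.mem_subgroupOf] using conj_mem_of_mem_normalizer (inv_mem haR) hx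
    refine
      { heis :=
          { cardK := fun h => ?_
            comm := fun u hu w hw => ?_
            nondeg := fun u hu h => ?_ }
        prime := hr
        norm := hnormR'
        pow := Subtype.ext hpow
        castK := hrK
        cop := by rw [hcard]; exact fun h => hrQ (h.trans (Subgroup.card_dvd_of_le hRQ))
        fpf := fun u hu h => ?_ }
    · rw [hcard] at h
      obtain ⟨k, hk⟩ := IsPGroup.iff_card.mp (hQ2.to_le hRQ)
      rw [hk, Nat.cast_pow, Nat.cast_ofNat] at h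
      exact h2K (pow_eq_zero_iff'.mp h).1
    · obtain ⟨c, hc⟩ := hcomm u (hRQ hu) w (hRQ hw)
      exact ⟨c, restrW_eq_smul_iff.mpr (by simpa [commutatorElement_def] using hc)⟩
    · rw [mem_scal_restr hRU, hscalR]
      refine hfpfR u hu (hNS₀ u hu ⟨hRQ hu, hUF (hQU (hRQ hu)), fun w hw => ?_⟩)
      obtain ⟨e, he, c, hc, rfl, -⟩ := hdec w hw
      rw [show ⁅(u : H), e * c⁆ = ⁅(u : H), e⁆ * (e * ⁅(u : H), c⁆ * e⁻¹) by simp [commutatorElement_def, mul_assoc]]
      refine F.mul_mem (fun v hv => ?_) (conj_mem_of_mem_normalizer (hUF (hQU (hQAQ he)))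
        (hpair A hAQ (zpowers_le.mpr haU) (Subgroup.commutator_mem_commutator (hRE hu) hc)))
      have h1 := congrArg Subtype.val (LinearMap.congr_fun (h ⟨e, hRU (mem_sup_left he)⟩ (mem_sup_left he)) ⟨v, hv⟩)
      simpa [restrW_apply, commutatorElement_def] using h1
    · rw [mem_scal_restr hRU, hscalR] at h ⊢
      refine hfpfR u hu fun g hg => ?_
      have h1 : A ≤ sectKer A (zpowers (u : H)) S₀ := zpowers_le.mpr ⟨mem_zpowers a, hS₀A (mem_zpowers a),
        fun y hy => by
          obtain ⟨i, rfl⟩ := mem_zpowers_iff.mp hy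
          have h2 : zpowers (u : H) ≤ sectKer Q A S₀ := by
            rw [zpowers_le]
            refine ⟨hRQ hu, hQS₀ (hRQ hu), fun g hg => ?_⟩
            obtain ⟨j, rfl⟩ := mem_zpowers_iff.mp hg
            have hfix := (conjHom_fixed_iff (ρ := restrW ρ U) ⟨_, hnormR'⟩ hu).mpr
              ((mem_scal_restr hRU).mpr ((hscalR _).mpr h))
            have hfixj : conjHom (restrW ρ U) (R.subgroupOf (stabW ρ U)) (⟨_, hnormR'⟩ ^ j)
                (cl (restrW ρ U) hu) = cl (restrW ρ U) hu := by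
              rw [map_zpow]
              exact (MulAction.stabilizer (Equiv.Perm (Cls (restrW ρ U) (R.subgroupOf (stabW ρ U))))
                (cl (restrW ρ U) hu)).zpow_mem hfix j
            have h3 := (hscalR _).mp ((mem_scal_restr hRU).mp ((conjHom_fixed_iff _ hu).mp hfixj))
            rw [← commutatorElement_inv]
            exact inv_mem (by simpa [commutatorElement_def] using h3)
          rw [← commutatorElement_inv]
          exact inv_mem ((h2 (zpow_mem (mem_zpowers (u : H)) i)).2.2 a (mem_zpowers a))⟩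
      rw [← commutatorElement_inv]
      exact inv_mem ((h1 hg).2.2 _ (mem_zpowers _))
  suffices key : ∀ (n : ℕ) (D : Subgroup H), Nat.card D = n → IsPGroup p D → D ≤ stabW ρ U →
      D ≤ normalizer (Q : Set H) → a ∈ normalizer (D : Set H) → ⁅Q, ⁅D, A⁆⁆ ≤ N from fun D => key _ D rfl
  intro n
  induction n using Nat.strong_induction_on with
  | _ n ih =>
  intro D hn hDp hDU hDQ haD
  haveI := Fact.mk hp
  have hAD : A ≤ normalizer (D : Set H) := zpowers_le.mpr haD
  have hD₁D : ⁅D, A⁆ ≤ D := CfsgLib.commutator_le_of_le_normalizer hAD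
  have hrD : ¬ r ∣ Nat.card D := fun h => by
    obtain ⟨k, hk⟩ := IsPGroup.iff_card.mp hDp
    rw [hk] at h
    exact hpr ((Nat.prime_dvd_prime_iff_eq hr hp).mp (hr.dvd_of_dvd_pow h)).symm
  have hcopD : (Nat.card A).Coprime (Nat.card D) := by
    rw [Nat.card_zpowers]
    exact Nat.Coprime.coprime_dvd_left (orderOf_dvd_of_pow_eq_one hpow) (hr.coprime_iff_not_dvd.mpr hrD)
  by_cases hgen : ⁅D, A⁆ = D
  swap
  · have h1 := ih _ (hn ▸ Set.Finite.card_lt_card (Set.toFinite _)
      (SetLike.coe_ssubset_coe.mpr (lt_of_le_of_ne hD₁D hgen))) ⁅D, A⁆ rfl (hDp.to_le hD₁D) (hD₁D.trans hDU)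
      (hD₁D.trans hDQ) (mem_normalizer_commutator haD (le_normalizer (mem_zpowers a)))
    rwa [CfsgLib.coprime_commutator_commutator hAD hcopD (Or.inl (isSolvable_zpowers a))] at h1
  rw [hgen]
  have hsolD : Group.IsSolvable D := by
    haveI := hDp.isNilpotent
    infer_instance
  have hcopDQ : (Nat.card D).Coprime (Nat.card Q) := IsPGroup.coprime_card hp Nat.prime_two hp2 hDp hQ2
  have hDN : D ≤ normalizer (N : Set H) := fun g hg => mem_normalizer_sectKer (hDQ hg) (hDQ hg) (hUF (hDU hg))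
  by_cases hU0 : U = ⊥
  · intro y hy
    exact ⟨CfsgLib.commutator_le_of_le_normalizer hDQ hy, hUF (hQU (CfsgLib.commutator_le_of_le_normalizer hDQ hy)),
      fun w _ v hv => by rw [hU0, Submodule.mem_bot] at hv; simp [hv]⟩
  haveI : Nontrivial U := Submodule.nontrivial_iff_ne_bot.mpr hU0
  have hopU := hop hU0
  have hVfix : ∀ v : U, restrW ρ U ⟨a, haU⟩ v = v → v = 0 := fun v hv =>
    Subtype.ext (hUfix _ v.2 (congrArg Subtype.val hv))
  -- the derived subgroup acts trivially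
  have hD'D : ⁅D, D⁆ ≤ D := CfsgLib.commutator_le_of_le_normalizer le_normalizer
  have hder : ⁅Q, ⁅D, D⁆⁆ ≤ N := by
    by_cases hD0 : D = ⊥
    · rw [hD0, Subgroup.commutator_bot_right, Subgroup.commutator_bot_right]; exact bot_le
    have hlt : ⁅D, D⁆ < D := by
      refine lt_of_le_of_ne hD'D fun h => hD0 ?_
      have h1 : D ≤ Fr D := by
        conv_lhs => rw [← h]
        rw [Subgroup.commutator_le]
        exact fun x hx y hy => comm_mem_fr hDp hx hy
      exact (fr_nongenerating (S := ⊥) bot_le (h1.trans le_sup_right)).symm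
    set D' := ⁅D, D⁆
    have haD' : a ∈ normalizer (D' : Set H) := mem_normalizer_commutator haD haD
    have hAD' : A ≤ normalizer (D' : Set H) := zpowers_le.mpr haD'
    have h1 := ih _ (hn ▸ Set.Finite.card_lt_card (Set.toFinite _) (SetLike.coe_ssubset_coe.mpr hlt)) D' rfl
      (hDp.to_le hD'D) (hD'D.trans hDU) (hD'D.trans hDQ) haD'
    set M := ⁅Q, D'⁆ ⊔ N
    have hQD'Q : ⁅Q, D'⁆ ≤ Q := CfsgLib.commutator_le_of_le_normalizer (hD'D.trans hDQ)
    have hMQ : M ≤ Q := sup_le hQD'Q hNQ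
    have hcent : ∀ c ∈ D', (∀ g ∈ A, g * c = c * g) → ∀ y ∈ Q, ⁅c, y⁆ ∈ Ct := by
      intro c hc hca y hy
      obtain ⟨e, he, g₀, hg₀, rfl, hg₀a⟩ := hdec y hy
      have hcU : c ∈ stabW ρ U := hDU (hD'D hc)
      have hcQ : c ∈ normalizer (Q : Set H) := hDQ (hD'D hc)
      have hca' : Commute c a := (hca a (mem_zpowers a)).symm
      have hcR : c ∈ normalizer (R : Set H) := hnormR c hcU hcQ (mem_normalizer_of_conj
        (fun x hx => by rw [← hca x hx, mul_inv_cancel_right]; exact hx)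
        (fun x hx => by
          have e1 : c⁻¹ * x * c⁻¹⁻¹ = x := by rw [inv_inv, mul_assoc, hca x hx, inv_mul_cancel_left]
          rw [e1]; exact hx))
      obtain ⟨k, hk⟩ := IsPGroup.iff_card.mp hDp
      have hckD : c ^ p ^ k = 1 := by
        rw [← hk]
        exact orderOf_dvd_iff_pow_eq_one.mp (Subgroup.orderOf_dvd_natCard D (hD'D hc))
      have hcR' : (⟨c, hcU⟩ : stabW ρ U) ∈ normalizer (R.subgroupOf (stabW ρ U) : Set (stabW ρ U)) := by
        refine mem_normalizer_of_conj (fun x hx => ?_) fun x hx => ?_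
        · simpa [Subgroup.mem_subgroupOf] using conj_mem_of_mem_normalizer hcR hx
        · simpa [Subgroup.mem_subgroupOf] using conj_mem_of_mem_normalizer (inv_mem hcR) hx
      have h2 := (hopU.no_fixed hVfix).2 ⟨c, hcU⟩ hcR' (Subtype.ext hca'.eq) (p ^ k) (Subtype.ext hckD)
        (Nat.Coprime.pow_left _ ((Nat.coprime_primes hp hr).mpr hpr))
        ⟨e, hQU (hQAQ he)⟩ (mem_sup_left he)
      have h3 : ⁅c, e⁆ ∈ N := hS₀N ((hscalR _).mp (by
        simpa [commutatorElement_def] using (mem_scal_restr (hRQ.trans hQU)).mp h2))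
      rw [show ⁅c, e * g₀⁆ = ⁅c, e⁆ * (⁅e, ⁅c, g₀⁆⁆ * ⁅c, g₀⁆) by simp [commutatorElement_def, mul_assoc]]
      have hcg : ⁅c, g₀⁆ ∈ Q := comm_mem_of_normalizes hcQ hg₀.1
      refine Ct.mul_mem (hNCt h3) (Ct.mul_mem (hNCt (hab e (hQAQ he) _ hcg)) ⟨hcg, hQN hcg, fun g hg => ?_⟩)
      have hcomm2 : g * ⁅c, g₀⁆ = ⁅c, g₀⁆ * g := by
        have h4 : Commute g c := hca g hg
        have h5 : Commute g g₀ := hg₀a g hg
        exact (((h4.mul_right h5).mul_right h4.inv_right).mul_right h5.inv_right).eq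
      rw [commutatorElement_eq_one_iff_mul_comm.mpr hcomm2.symm]
      exact one_mem _
    have hMCt : M ≤ Ct := by
      refine sup_le ?_ hNCt
      rw [Subgroup.commutator_le]
      intro y hy d hd
      obtain ⟨d₁, hd₁, c, hc, rfl⟩ := CfsgLib.coprime_decomp hAD'
        (hcopD.coprime_dvd_right (Subgroup.card_dvd_of_le hD'D)) (Or.inl (isSolvable_zpowers a)) hd
      have hc' : ⁅y, c⁆ ∈ Ct := by
        rw [← commutatorElement_inv]
        exact Ct.inv_mem (hcent c hc.1 (fun g hg => mem_centralizer_iff.mp hc.2 g hg) y hy)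
      rw [show ⁅y, d₁ * c⁆ = ⁅y, d₁⁆ * (d₁ * ⁅y, c⁆ * d₁⁻¹) by simp [commutatorElement_def, mul_assoc]]
      have hd₁D' : d₁ ∈ D' := CfsgLib.commutator_le_of_le_normalizer hAD' hd₁
      have hd₁Q : d₁ ∈ normalizer (Q : Set H) := hDQ (hD'D hd₁D')
      have hyc : ⁅y, c⁆ ∈ Q := hc'.1
      have h4 : ⁅d₁, ⁅y, c⁆⁆ ∈ N := by
        rw [← commutatorElement_inv]
        exact N.inv_mem (h1 (Subgroup.commutator_mem_commutator hyc hd₁))
      rw [show d₁ * ⁅y, c⁆ * d₁⁻¹ = ⁅d₁, ⁅y, c⁆⁆ * ⁅y, c⁆ by simp [commutatorElement_def, mul_assoc]]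
      exact Ct.mul_mem (hNCt (h1 (Subgroup.commutator_mem_commutator hy hd₁))) (Ct.mul_mem (hNCt h4) hc')
    have hMA : ⁅M, A⁆ ≤ N := Subgroup.commutator_le.mpr fun m hm g hg => (hMCt hm).2.2 g hg
    have hnormM : ∀ g, g ∈ normalizer (Q : Set H) → g ∈ normalizer (D' : Set H) → g ∈ normalizer (N : Set H) →
        g ∈ normalizer (M : Set H) := fun g h1 h2 h3 => mem_normalizer_sup (mem_normalizer_commutator h1 h2) h3
    have hDM : D ≤ normalizer (M : Set H) := fun g hg =>
      hnormM g (hDQ hg) (mem_normalizer_commutator (le_normalizer hg) (le_normalizer hg)) (hDN hg)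
    have h2 : ⁅⁅D, A⁆, M⁆ ≤ N := by
      refine CfsgLib.Stabilizer.commutator_commutator_le_of_rotate hDN hAN (hMQ.trans hQN) ?_ ?_
      · refine (Subgroup.commutator_mono ?_ le_rfl).trans (CfsgLib.commutator_le_of_le_normalizer hDN)
        rwa [Subgroup.commutator_comm]
      · exact (Subgroup.commutator_mono (CfsgLib.commutator_le_of_le_normalizer hDM) le_rfl).trans hMA
    rw [hgen] at h2
    calc ⁅Q, D'⁆ = ⁅⁅Q, D'⁆, D'⁆ := (CfsgLib.coprime_commutator_commutator (hD'D.trans hDQ)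
          (hcopDQ.coprime_dvd_left (Subgroup.card_dvd_of_le hD'D)) (Or.inl (by
            haveI := (hDp.to_le hD'D).isNilpotent
            infer_instance))).symm
      _ ≤ ⁅M, D⁆ := Subgroup.commutator_mono le_sup_left hD'D
      _ ≤ N := by rw [Subgroup.commutator_comm]; exact h2
  -- linear algebra on the dual of the section
  let L := AlgebraicClosure (ZMod 2)
  haveI : CharP L 2 := charP_of_injective_algebraMap (algebraMap (ZMod 2) L).injective 2
  set T := secDual L Q N with hT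
  have hDT : D ≤ stabW (conjFun (Γ := H) (K := L)) T := fun g hg =>
    ⟨fun f hf => conjFun_mem_self (hDQ hg) (hDN hg) hf, fun f hf =>
      conjFun_mem_self (inv_mem (hDQ hg)) (inv_mem (hDN hg)) hf⟩
  have haT : a ∈ stabW (conjFun (Γ := H) (K := L)) T :=
    ⟨fun f hf => conjFun_mem_self haQ haN hf, fun f hf => conjFun_mem_self (inv_mem haQ) (inv_mem haN) hf⟩
  have hKD : (Nat.card D : L) ≠ 0 := fun h => by
    obtain ⟨k, hk⟩ := IsPGroup.iff_card.mp hDp
    rw [hk, Nat.cast_pow] at h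
    have h2 := (pow_eq_zero_iff'.mp h).1
    rw [CharP.cast_eq_zero_iff L 2] at h2
    exact hp2 ((Nat.prime_dvd_prime_iff_eq Nat.prime_two hp).mp h2).symm
  have habD : ∀ x ∈ D, ∀ y ∈ D, ⁅x, y⁆ ∈ fixW (conjFun (Γ := H) (K := L)) T := fun x hx y hy f hf => by
    have hd : ⁅x, y⁆ ∈ ⁅D, D⁆ := Subgroup.commutator_mem_commutator hx hy
    refine (fixes_iff hNQ hQ2 hfr hQN (hDQ (hD'D hd))).mpr (fun z hz => ?_) f hf
    rw [← commutatorElement_inv]
    exact N.inv_mem (hder (Subgroup.commutator_mem_commutator hz (inv_mem hd)))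
  let one : H → L := fun g => if g ∈ D then 1 else 0
  have hone : IsChar D one :=
    ⟨if_pos D.one_mem, fun x hx y hy => by simp [one, if_pos hx, if_pos hy, if_pos (D.mul_mem hx hy)],
      fun x hx => if_neg hx⟩
  have hfixchar : ∀ lam : H → L, IsChar D lam → conjW a lam = lam → lam = one := by
    intro lam hlam hfix
    have h1 : ⁅D, A⁆ ≤
        ({ carrier := {d | d ∈ D ∧ lam d = 1}
           one_mem' := ⟨D.one_mem, hlam.one⟩
           mul_mem' := fun {x y} hx hy => ⟨D.mul_mem hx.1 hy.1, by rw [hlam.mul x hx.1 y hy.1, hx.2, hy.2, one_mul]⟩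
           inv_mem' := fun {x} hx => ⟨D.inv_mem hx.1, by rw [hlam.inv hx.1, hx.2, inv_one]⟩ } : Subgroup H) := by
      rw [Subgroup.commutator_le]
      intro d hd g hg
      refine ⟨hD₁D (Subgroup.commutator_mem_commutator hd hg), ?_⟩
      have h2 : conjW g⁻¹ lam = lam := (show A ≤ wtFix lam from zpowers_le.mpr hfix) (inv_mem hg)
      have h3 : g * d⁻¹ * g⁻¹ ∈ D := conj_mem_of_mem_normalizer (hAD hg) (D.inv_mem hd)
      have h4 : lam (g * d⁻¹ * g⁻¹) = lam d⁻¹ := by
        conv_rhs => rw [← h2]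
        simp [conjW]
      rw [commutatorElement_def, show d * g * d⁻¹ * g⁻¹ = d * (g * d⁻¹ * g⁻¹) by group, hlam.mul d hd _ h3, h4,
        mul_comm, hlam.mul_inv hd]
    rw [hgen] at h1
    funext d
    by_cases hd : d ∈ D
    · rw [(h1 hd).2]; simp [one, hd]
    · rw [hlam.out d hd]; simp [one, hd]
  set σ := conjFun (Γ := H) (K := L)
  set P₁ := wtProj σ D one with hP₁
  set U₀ := sectKer Q D N
  have haD' : a ∈ normalizer (D : Set H) := haD
  have hP₁U : ∀ f ∈ T, ∀ u ∈ U₀, P₁ f u = f u := by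
    intro f hf u hu
    haveI := Fintype.ofFinite D
    rw [hP₁, wtProj_apply]
    simp only [Pi.smul_apply, Finset.sum_apply, smul_eq_mul]
    have h1 : ∀ d : D, (one d)⁻¹ * σ d f u = f u := fun d => by
      rw [show one d = 1 from if_pos d.2, inv_one, one_mul, conjFun_sub (hDQ d.2) hu.1 hf, hf.2.2 _ (by
        rw [← commutatorElement_inv]
        exact N.inv_mem (hu.2.2 _ (D.inv_mem d.2))), zero_add]
    rw [Finset.sum_congr rfl fun d _ => h1 d, Finset.sum_const, Finset.card_univ, ← Nat.card_eq_fintype_card,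
      nsmul_eq_mul, ← mul_assoc, inv_mul_cancel₀ hKD, one_mul]
  have hP₁V : ∀ f ∈ T, ∀ v ∈ ⁅Q, D⁆ ⊔ N, P₁ f v = 0 := by
    intro f hf v hv
    have hg : P₁ f ∈ T := wtProj_stable σ hDT hf
    let S : Subgroup H :=
      { carrier := {y | y ∈ Q ∧ P₁ f y = 0}
        one_mem' := ⟨Q.one_mem, secDual_one hg⟩
        mul_mem' := fun {y z} hy hz => ⟨Q.mul_mem hy.1 hz.1, by rw [hg.2.1 y hy.1 z hz.1, hy.2, hz.2, add_zero]⟩
        inv_mem' := fun {y} hy => ⟨Q.inv_mem hy.1, by rw [secDual_inv hg hy.1, hy.2, neg_zero]⟩ }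
    refine ((sup_le ?_ fun n hn => ⟨hNQ hn, hg.2.2 n hn⟩ : ⁅Q, D⁆ ⊔ N ≤ S) hv).2
    rw [Subgroup.commutator_le]
    intro y hy d hd
    have h0 := wtProj_mem σ hone f d⁻¹ (D.inv_mem hd)
    rw [show one d⁻¹ = 1 from if_pos (D.inv_mem hd), one_smul] at h0
    have h1 : ⁅d, y⁆ ∈ Q := comm_mem_of_normalizes (hDQ hd) hy
    have h2 := conjFun_sub (inv_mem (hDQ hd)) hy hg
    rw [congrFun h0 y, inv_inv] at h2
    refine S.inv_mem_iff.mp ?_
    rw [commutatorElement_inv]
    exact ⟨h1, left_eq_add.mp (h2.trans (add_comm _ _))⟩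
  -- fixed functions from the moved part
  set FT : Submodule L (H → L) := T ⊓ LinearMap.ker P₁ ⊓ LinearMap.ker (σ a - 1) with hFT
  have hP₁a : ∀ f, P₁ (σ a f) = σ a (P₁ f) := fun f =>
    wtProj_comm σ haD' (by
      funext z
      by_cases hz : z ∈ D
      · simp [conjW, one, hz, show a⁻¹ * z * a ∈ D by simpa using conj_mem_of_mem_normalizer (inv_mem haD') hz]
      · have : a⁻¹ * z * a ∉ D := fun h => hz (by simpa [mul_assoc] using conj_mem_of_mem_normalizer haD' h)
        simp [conjW, one, hz, this]) f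
  have hmemFT : ∀ f, f ∈ FT ↔ f ∈ T ∧ P₁ f = 0 ∧ σ a f = f := fun f => by
    simp [FT, Submodule.mem_inf, LinearMap.mem_ker, sub_eq_zero, and_assoc]
  have hfixE : ∀ f ∈ T, σ a f = f → ∀ e ∈ E, f e = 0 := by
    intro f hf hfa e he
    let S : Subgroup H :=
      { carrier := {y | y ∈ Q ∧ f y = 0}
        one_mem' := ⟨Q.one_mem, secDual_one hf⟩
        mul_mem' := fun {y z} hy hz => ⟨Q.mul_mem hy.1 hz.1, by rw [hf.2.1 y hy.1 z hz.1, hy.2, hz.2, add_zero]⟩
        inv_mem' := fun {y} hy => ⟨Q.inv_mem hy.1, by rw [secDual_inv hf hy.1, hy.2, neg_zero]⟩ }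
    refine ((sup_le ?_ fun n hn => ⟨hNQ hn, hf.2.2 n hn⟩ : E ≤ S) he).2
    rw [Subgroup.commutator_le]
    intro y hy g hg
    have h1 : ∀ g ∈ A, σ g f = f := by
      have : A ≤ fixW σ (Submodule.span L {f}) := by
        rw [zpowers_le]
        intro w hw
        obtain ⟨c, rfl⟩ := Submodule.mem_span_singleton.mp hw
        rw [map_smul, hfa]
      exact fun g hg => this hg f (Submodule.mem_span_singleton_self f)
    have h3 : ⁅g, y⁆ ∈ Q := comm_mem_of_normalizes (hAQ hg) hy
    have h4 := conjFun_sub (inv_mem (hAQ hg)) hy hf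
    rw [congrFun (h1 g⁻¹ (inv_mem hg)) y, inv_inv] at h4
    refine S.inv_mem_iff.mp ?_
    rw [commutatorElement_inv]
    exact ⟨h3, left_eq_add.mp (h4.trans (add_comm _ _))⟩
  -- at most one dimension
  have hn1 : finrank L FT ≤ 1 := by
    haveI : NeZero r := ⟨hr.ne_zero⟩
    haveI : Fact (1 < r) := ⟨hr.one_lt⟩
    have hrL : (r : L) ≠ 0 := fun h => by
      rw [CharP.cast_eq_zero_iff L 2] at h
      exact hr2 ((Nat.prime_dvd_prime_iff_eq Nat.prime_two hr).mp h).symm
    set T₂ := secDual L Q Ct with hT₂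
    have haCt : a ∈ normalizer (Ct : Set H) := mem_normalizer_sectKer haQ (le_normalizer (mem_zpowers a)) haN
    have haT₂ : a ∈ stabW σ T₂ :=
      ⟨fun f hf => conjFun_mem_self haQ haCt hf, fun f hf => conjFun_mem_self (inv_mem haQ) (inv_mem haCt) hf⟩
    let φ : Multiplicative (ZMod r) →* Module.End L T₂ := cycHom (restrW σ T₂ ⟨a, haT₂⟩) r (by
      rw [← map_pow, show (⟨a, haT₂⟩ : stabW σ T₂) ^ r = 1 from Subtype.ext hpow, map_one])
    have hX : ((Fintype.card (Multiplicative (ZMod r)) : ℕ) : L) ≠ 0 := by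
      rw [Fintype.card_multiplicative, ZMod.card]; exact hrL
    haveI : NeZero ((Monoid.exponent (Multiplicative (ZMod r)) : ℕ) : L) := ⟨fun h => hX (by
      obtain ⟨k, hk⟩ : Monoid.exponent (Multiplicative (ZMod r)) ∣ Fintype.card (Multiplicative (ZMod r)) :=
        Monoid.exponent_dvd_of_forall_pow_eq_one fun g => pow_card_eq_one
      rw [hk, Nat.cast_mul, h, zero_mul])⟩
    haveI := Fintype.ofFinite (Multiplicative (ZMod r) →* Lˣ)
    have hcardchar : Fintype.card (Multiplicative (ZMod r) →* Lˣ) = r := by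
      rw [← Nat.card_eq_fintype_card, CommGroup.card_monoidHom_of_hasEnoughRootsOfUnity (Multiplicative (ZMod r)) L,
        Nat.card_eq_fintype_card, Fintype.card_multiplicative, ZMod.card]
    have hge : ∀ χ : Multiplicative (ZMod r) →* Lˣ, χ ≠ 1 → finrank L FT ≤ finrank L (Grading.weight φ χ) := by
      intro χ hχ
      set ξ : L := (χ (Multiplicative.ofAdd 1) : L)
      have hξ0 : ξ ≠ 0 := Units.ne_zero _
      have hξr : ξ ^ r = 1 := by
        simp only [ξ]
        rw [← Units.val_pow_eq_pow_val, ← map_pow, ← ofAdd_nsmul, nsmul_one, ZMod.natCast_self, ofAdd_zero, map_one,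
          Units.val_one]
      have hχpow : ∀ y, (χ y : L) = ξ ^ (Multiplicative.toAdd y).val := fun y => by
        have hy : y = Multiplicative.ofAdd (1 : ZMod r) ^ (Multiplicative.toAdd y).val := by
          rw [← ofAdd_nsmul, nsmul_one, ZMod.natCast_zmod_val, ofAdd_toAdd]
        conv_lhs => rw [hy, map_pow, Units.val_pow_eq_pow_val]
      have hξ1 : ξ ≠ 1 := fun h => hχ (MonoidHom.ext fun y => Units.ext (by
        rw [hχpow, h, one_pow]; rfl))
      haveI := finite_isChar (K := L) D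
      haveI := Fintype.ofFinite {μ : H → L // IsChar D μ}
      let st : Setoid {μ : H → L // IsChar D μ} :=
        { r := fun μ ν => ∃ g ∈ A, conjW g μ.1 = ν.1
          iseqv :=
            { refl := fun μ => ⟨1, one_mem _, conjW_one _⟩
              symm := fun {μ ν} ⟨g, hg, h⟩ => ⟨g⁻¹, inv_mem hg, by
                rw [← h, ← conjW_mul, inv_mul_cancel, conjW_one]⟩
              trans := fun {μ ν η} ⟨g, hg, h⟩ ⟨g', hg', h'⟩ => ⟨g' * g, mul_mem hg' hg, by rw [conjW_mul, h, h']⟩ } }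
      let O : Finset {μ : H → L // IsChar D μ} :=
        univ.filter fun μ => μ.1 ≠ one ∧ (Quotient.mk st μ).out = μ
      let π : Module.End L (H → L) := ∑ μ ∈ O, wtProj σ D μ.1
      let Ψ₀ : Module.End L (H → L) := ∑ i ∈ range r, ξ⁻¹ ^ i • (σ (a ^ i) * π)
      have hπT : ∀ f ∈ T, π f ∈ T := fun f hf => by
        simp only [π, LinearMap.sum_apply]
        exact T.sum_mem fun μ _ => wtProj_stable σ hDT hf
      have hΨa : ∀ f, σ a (Ψ₀ f) = ξ • Ψ₀ f := fun f => by
        simp only [Ψ₀, LinearMap.sum_apply, LinearMap.smul_apply, Module.End.mul_apply, map_sum, map_smul,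
          Finset.smul_sum, smul_smul]
        have h1 := sum_range_succ' (fun i => (ξ * ξ⁻¹ ^ i) • σ (a ^ i) (π f)) r
        rw [sum_range_succ, hpow, inv_pow, hξr, inv_one, mul_one, pow_zero, pow_zero, mul_one, add_left_inj] at h1
        rw [h1]
        refine Finset.sum_congr rfl fun i _ => ?_
        rw [pow_succ' a, rho_mul, pow_succ, ← mul_assoc, mul_comm (ξ * ξ⁻¹ ^ i), ← mul_assoc,
          inv_mul_cancel₀ hξ0, one_mul]
      have hΨT₂ : ∀ f ∈ T, Ψ₀ f ∈ T₂ := fun f hf => by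
        have hfT : Ψ₀ f ∈ T := by
          simp only [Ψ₀, LinearMap.sum_apply, LinearMap.smul_apply, Module.End.mul_apply]
          exact T.sum_mem fun i _ => T.smul_mem _ (((stabW σ T).pow_mem haT i).1 _ (hπT f hf))
        refine ⟨hfT.1, hfT.2.1, fun c hc => ?_⟩
        have h1 := conjFun_sub haQ hc.1 hfT
        rw [congrFun (hΨa f) c, hfT.2.2 _ (by
          rw [← commutatorElement_inv]
          exact N.inv_mem (hc.2.2 _ (inv_mem (mem_zpowers a)))), zero_add, Pi.smul_apply, smul_eq_mul] at h1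
        by_contra h2
        exact hξ1 ((mul_eq_right₀ h2).mp h1)
      have hwt : ∀ f ∈ T, ∀ s : T₂, (s : H → L) = Ψ₀ f → s ∈ Grading.weight φ χ := by
        intro f hf s hs y
        rw [hχpow]
        simp only [φ, cycHom_apply]
        induction (Multiplicative.toAdd y).val with
        | zero => simp
        | succ i ih =>
          rw [pow_succ', Module.End.mul_apply, ih, map_smul, pow_succ, ← smul_smul]
          refine congrArg _ (Subtype.ext ?_)
          show σ a (s : H → L) = ξ • (s : H → L)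
          rw [hs, hΨa]
      let Ψ : FT →ₗ[L] Grading.weight φ χ :=
        { toFun := fun f => ⟨⟨Ψ₀ f, hΨT₂ _ ((hmemFT _).mp f.2).1⟩, hwt _ ((hmemFT _).mp f.2).1 _ rfl⟩
          map_add' := fun x y => Subtype.ext (Subtype.ext (map_add _ _ _))
          map_smul' := fun c x => Subtype.ext (Subtype.ext (map_smul _ _ _)) }
      refine LinearMap.finrank_le_finrank_of_injective (f := Ψ) ?_
      refine (injective_iff_map_eq_zero Ψ).mpr ?_
      rintro ⟨f, hf⟩ hΨf
      obtain ⟨hfT, hf1, hfa⟩ := (hmemFT f).mp hf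
      have h0 : Ψ₀ f = 0 := congrArg Subtype.val (congrArg Subtype.val hΨf)
      have hcomp : ∀ μ ∈ O, wtProj σ D μ.1 f = 0 := by
        intro μ hμ
        obtain ⟨-, hμ1, hμrep⟩ := Finset.mem_filter.mp hμ
        have hmove : conjW a μ.1 ≠ μ.1 := fun h => hμ1 (hfixchar _ μ.2 h)
        have h1 := congrArg (wtProj σ D μ.1) h0
        simp only [Ψ₀, π, LinearMap.sum_apply, LinearMap.smul_apply, Module.End.mul_apply, map_sum, map_smul,
          map_zero] at h1
        rw [Finset.sum_eq_single 0, Finset.sum_eq_single μ] at h1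
        · rwa [pow_zero, one_smul, pow_zero, map_one, Module.End.one_apply,
            wtProj_eq σ μ.2 hKD (wtProj_mem σ μ.2 f)] at h1
        · intro ν hν hne
          rw [pow_zero, map_one, Module.End.one_apply,
            wtProj_eq_zero σ μ.2 ν.2 (fun h => hne (Subtype.ext h.symm)) (wtProj_mem σ ν.2 f)]
        · exact fun h => absurd hμ h
        · intro i hi hi0
          rw [Finset.sum_eq_zero fun ν hν => ?_, smul_zero]
          have hiN : a ^ i ∈ normalizer (D : Set H) := (normalizer (D : Set H)).pow_mem haD' i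
          rw [wtProj_eq_zero σ μ.2 (ν.2.conj hiN) (fun h => ?_) (rho_mem_wtS hiN (wtProj_mem σ ν.2 f))]
          have hνμ : ν = μ := by
            rw [← (Finset.mem_filter.mp hν).2.2, ← hμrep]
            exact congrArg Quotient.out (Quotient.sound (s := st) ⟨a ^ i, pow_mem (mem_zpowers a) i, h.symm⟩)
          subst hνμ
          exact pow_not_mem_wtFix hr hpow hmove (Nat.pos_of_ne_zero hi0) (Finset.mem_range.mp hi) h.symm
        · exact fun h => absurd (Finset.mem_range.mpr hr.pos) h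
      have hall : ∀ ν : {μ : H → L // IsChar D μ}, wtProj σ D ν.1 f = 0 := by
        intro ν
        by_cases hν1 : ν.1 = one
        · rw [hν1]; exact hf1
        obtain ⟨g, hg, hgν⟩ := Quotient.mk_out (s := st) ν
        set μ := (Quotient.mk st ν).out
        have hμ1 : μ.1 ≠ one := fun h => hν1 (by
          rw [← hgν, h]
          funext z
          by_cases hz : z ∈ D
          · simp [conjW, one, hz, show g⁻¹ * z * g ∈ D by simpa using conj_mem_of_mem_normalizer (inv_mem (hAD hg)) hz]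
          · have : g⁻¹ * z * g ∉ D := fun h => hz (by simpa [mul_assoc] using conj_mem_of_mem_normalizer (hAD hg) h)
            simp [conjW, one, hz, this])
        have hμO : μ ∈ O := Finset.mem_filter.mpr ⟨Finset.mem_univ _, hμ1, by
          show (Quotient.mk st (Quotient.mk st ν).out).out = (Quotient.mk st ν).out
          rw [Quotient.out_eq]⟩
        have hfg : ∀ g ∈ A, σ g f = f := by
          have h1 : A ≤ fixW σ (Submodule.span L {f}) := by
            rw [zpowers_le]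
            intro w hw
            obtain ⟨c, rfl⟩ := Submodule.mem_span_singleton.mp hw
            rw [map_smul, hfa]
          exact fun g hg => h1 hg f (Submodule.mem_span_singleton_self f)
        -- the other component is the image of this one
        haveI := Fintype.ofFinite D
        have h2 : wtProj σ D ν.1 (σ g f) = σ g (wtProj σ D μ.1 f) := by
          rw [wtProj_apply, wtProj_apply, map_smul, map_sum]
          congr 1
          refine (Fintype.sum_equiv
            { toFun := fun z : D => (⟨g * z * g⁻¹, conj_mem_of_mem_normalizer (hAD hg) z.2⟩ : D)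
              invFun := fun z => ⟨g⁻¹ * z * g, by
                simpa using conj_mem_of_mem_normalizer (inv_mem (hAD hg)) z.2⟩
              left_inv := fun z => Subtype.ext (by simp [mul_assoc])
              right_inv := fun z => Subtype.ext (by simp [mul_assoc]) } _ _ fun z => ?_).symm
          simp only [Equiv.coe_fn_mk, map_smul]
          rw [show ν.1 (g * (z : H) * g⁻¹) = μ.1 z by rw [← hgν]; simp [conjW, mul_assoc], ← rho_mul, ← rho_mul]
          congr 2
          group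
        rw [hfg g hg, hcomp μ hμO, map_zero] at h2
        exact h2
      refine Subtype.ext (show f = 0 from ?_)
      have hsum := le_iSup_wtS σ hDT hKD habD hfT
      have hid : f = ∑ ν : {μ : H → L // IsChar D μ}, wtProj σ D ν.1 f := by
        refine Submodule.iSup_induction _ (motive := fun z => z = ∑ ν : {μ : H → L // IsChar D μ}, wtProj σ D ν.1 z)
          hsum ?_ (by simp) (fun x y hx hy => by simp only [map_add, Finset.sum_add_distrib]; rw [← hx, ← hy])
        intro ν z hz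
        rw [Finset.sum_eq_single ν (fun η _ hne => wtProj_eq_zero σ η.2 ν.2 (fun h => hne (Subtype.ext h)) hz.2)
          (fun h => absurd (Finset.mem_univ ν) h), wtProj_eq σ ν.2 hKD hz.2]
      rw [hid]
      exact Finset.sum_eq_zero fun ν _ => hall ν
    have h1 : (r - 1) * finrank L FT ≤ finrank L T₂ := by
      rw [Grading.finrank_eq hX φ, ← Finset.add_sum_erase univ _ (Finset.mem_univ 1)]
      refine le_add_left ?_
      refine le_trans (le_of_eq ?_) (Finset.sum_le_sum fun χ hχ => hge χ (Finset.ne_of_mem_erase hχ))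
      rw [Finset.sum_const, Finset.card_erase_of_mem (Finset.mem_univ _), Finset.card_univ, hcardchar, smul_eq_mul]
    have hCtQ : Ct ≤ Q := fun x hx => hx.1
    have h2 := secDual_finrank_le (K := L) hQ2 Ct hCtQ
    have h3 : Nat.card Q ≤ Nat.card (Cls (restrW ρ U) (R.subgroupOf (stabW ρ U))) * Nat.card Ct := by
      rw [← Nat.card_prod]
      refine Nat.card_le_card_of_surjective (fun z => (⟨((rep z.1 : stabW ρ U) : H) * z.2,
        Q.mul_mem (hRQ (rep_mem z.1)) (hCtQ z.2.2)⟩ : Q)) fun y => ?_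
      obtain ⟨e, he, c, hc, hyc, -⟩ := hdec y y.2
      have heR : (⟨e, hQU (hQAQ he)⟩ : stabW ρ U) ∈ R.subgroupOf (stabW ρ U) := mem_sup_left he
      have hs := hS₀N ((hscalR _).mp ((mem_scal_restr (hRQ.trans hQU)).mp (rep_cl (ρ := restrW ρ U) heR)))
      refine ⟨(cl (restrW ρ U) heR,
        ⟨((rep (cl (restrW ρ U) heR) : stabW ρ U) : H)⁻¹ * e * c, Ct.mul_mem (hNCt hs) hc⟩), Subtype.ext ?_⟩
      simp [hyc, mul_assoc]
    have h4 := hopU.no_fixed_card hVfix
    have h5 : 2 ^ ((r - 1) * finrank L FT) ≤ (r - 1) ^ 2 := by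
      refine (Nat.pow_le_pow_right two_pos h1).trans ?_
      exact (Nat.le_of_mul_le_mul_right (h2.trans h3) Nat.card_pos).trans h4
    by_contra hcon
    have h6 : 2 ^ ((r - 1) * 2) ≤ (r - 1) ^ 2 :=
      (Nat.pow_le_pow_right two_pos (Nat.mul_le_mul_left _ (by omega))).trans h5
    rw [pow_mul] at h6
    exact absurd h6 (not_le.mpr (Nat.pow_lt_pow_left Nat.lt_two_pow_self two_ne_zero))
  -- so the fixed classes are centralized
  have hQDQ : ⁅Q, D⁆ ≤ Q := CfsgLib.commutator_le_of_le_normalizer hDQ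
  set V₁ := ⁅Q, D⁆ ⊔ N with hV₁
  have hV₁Q : V₁ ≤ Q := sup_le hQDQ hNQ
  have hVU : ∀ x ∈ V₁, x ∈ U₀ → x ∈ N := fun x hx hxU => by
    refine mem_of_fixed_mod (Q := V₁) (P := D) ?_ (hcopDQ.coprime_dvd_right (Subgroup.card_dvd_of_le hV₁Q)) hsolD
      le_sup_right (hV₁Q.trans hQN) hDN (fun u hu w hw => hab u (hV₁Q hu) w (hV₁Q hw)) ?_ hx
      (fun g hg => hxU.2.2 g hg)
    · exact fun g hg => mem_normalizer_sup (CfsgLib.right_le_normalizer_commutator D Q hg) (hDN hg)
    · refine sup_le ?_ le_sup_right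
      conv_lhs => rw [← CfsgLib.coprime_commutator_commutator hDQ hcopDQ (Or.inl hsolD)]
      exact (Subgroup.commutator_mono le_sup_left le_rfl).trans le_sup_left
  have hC1 : ∀ v₁ ∈ V₁, v₁ ∈ Ct → ∀ v₂ ∈ V₁, v₂ ∈ Ct → ⁅v₂, v₁⁆ ∈ F := by
    intro v₁ hv₁ hv₁C v₂ hv₂ hv₂C
    by_cases h1N : v₁ ∈ N
    · rw [← commutatorElement_inv]
      exact F.inv_mem (h1N.2.2 _ hv₂C.1)
    set B := E ⊔ zpowers v₁ with hB
    have hBQ : B ≤ Q := sup_le hEQ (zpowers_le.mpr hv₁C.1)
    have hfrB : Fr Q ≤ B := hfr.trans (le_sup_right.trans le_sup_left)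
    have hQB : Q ≤ normalizer (B : Set H) :=
      le_normalizer_of_comm_mem hBQ fun x hx y hy => hfrB (comm_mem_fr hQ2 hx hy)
    have hmk : ∀ B' : Subgroup H, E ≤ B' → ∀ f ∈ secDual L Q B', f - P₁ f ∈ FT ∧
        ∀ v ∈ V₁, (f - P₁ f) v = f v := by
      intro B' hEB f hf
      have hfT : f ∈ T := secDual_anti (le_sup_right.trans hEB) hf
      have hfa : σ a f = f := by
        funext y
        by_cases hy : y ∈ Q
        · rw [conjFun_sub haQ hy hf, hf.2.2 _ (hEB (mem_sup_left (by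
            rw [← commutatorElement_inv]
            exact inv_mem (Subgroup.commutator_mem_commutator hy (inv_mem (mem_zpowers a)))))), zero_add]
        · rw [hfT.1 y hy]
          refine hfT.1 _ fun h' => hy ?_
          simpa [mul_assoc] using conj_mem_of_mem_normalizer haQ h'
      refine ⟨(hmemFT _).mpr ⟨T.sub_mem hfT (wtProj_stable σ hDT hfT), ?_, ?_⟩, fun v hv => ?_⟩
      · rw [map_sub, hP₁, wtProj_eq σ hone hKD (wtProj_mem σ hone f), sub_self]
      · rw [map_sub, ← hP₁a, hfa]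
      · rw [Pi.sub_apply, hP₁V f hfT v hv, sub_zero]
    by_cases h2B : v₂ ∈ B
    · obtain ⟨e, he, z, hz, hez⟩ := CfsgLib.mem_sup_of_le_normalizer
        (show zpowers v₁ ≤ normalizer (E : Set H) from zpowers_le.mpr
          (le_normalizer_of_comm_mem hEQ (fun x hx y hy => mem_sup_right (hab x hx y hy)) hv₁C.1))
        (show v₂ ∈ E ⊔ zpowers v₁ from h2B)
      obtain ⟨i, rfl⟩ := mem_zpowers_iff.mp hz
      have heC : e ∈ Ct := by
        rw [show e = v₂ * (v₁ ^ i)⁻¹ by rw [← hez]; group]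
        exact Ct.mul_mem hv₂C (Ct.inv_mem (Ct.zpow_mem hv₁C i))
      have heN : e ∈ N := hECt e he heC
      rw [← hez, show ⁅e * v₁ ^ i, v₁⁆ = e * ⁅v₁ ^ i, v₁⁆ * e⁻¹ * ⁅e, v₁⁆ by
        simp [commutatorElement_def, mul_assoc],
        show ⁅v₁ ^ i, v₁⁆ = 1 from commutatorElement_eq_one_iff_mul_comm.mpr ((Commute.refl v₁).zpow_left i).eq,
        mul_one, mul_inv_cancel, one_mul]
      exact heN.2.2 _ hv₁C.1
    · exfalso
      obtain ⟨f₂, hf₂, hne₂⟩ := exists_secDual_ne_zero (K := L) hBQ hQ2 hfrB hQB hv₂C.1 h2B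
      obtain ⟨f₁, hf₁, hne₁⟩ := exists_secDual_ne_zero (K := L) hEQ hQ2 (hfr.trans le_sup_right)
        (le_normalizer_of_comm_mem hEQ fun x hx y hy => mem_sup_right (hab x hx y hy)) hv₁C.1
        (fun h => h1N (hECt v₁ h hv₁C))
      obtain ⟨hg₂, hv₂'⟩ := hmk B le_sup_left f₂ hf₂
      obtain ⟨hg₁, hv₁'⟩ := hmk E le_rfl f₁ hf₁
      obtain ⟨s, hs⟩ := finrank_le_one_iff.mp hn1
      obtain ⟨c₂, hc₂⟩ := hs ⟨_, hg₂⟩
      obtain ⟨c₁, hc₁⟩ := hs ⟨_, hg₁⟩
      have e2 : ∀ v ∈ V₁, f₂ v = c₂ * (s : H → L) v := fun v hv => by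
        rw [← hv₂' v hv]; exact (congrFun (congrArg Subtype.val hc₂) v).symm
      have e1 : ∀ v ∈ V₁, f₁ v = c₁ * (s : H → L) v := fun v hv => by
        rw [← hv₁' v hv]; exact (congrFun (congrArg Subtype.val hc₁) v).symm
      have h3 : c₂ * (s : H → L) v₁ = 0 := by rw [← e2 v₁ hv₁]; exact hf₂.2.2 _ (mem_sup_right (mem_zpowers v₁))
      have h4 : (s : H → L) v₁ ≠ 0 := fun h => hne₁ (by rw [e1 v₁ hv₁, h, mul_zero])
      exact hne₂ (by rw [e2 v₂ hv₂, (mul_eq_zero.mp h3).resolve_right h4, zero_mul])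
  have hdecD : ∀ g ∈ Ct, ∃ v ∈ V₁, ∃ u ∈ U₀, g = v * u ∧ v ∈ Ct := by
    intro g hg
    obtain ⟨v, hv, u, hu, rfl⟩ := CfsgLib.coprime_decomp hDQ hcopDQ (Or.inl hsolD) hg.1
    have huU : u ∈ U₀ := ⟨hu.1, hQN hu.1, fun d hd => by
      rw [commutatorElement_eq_one_iff_mul_comm.mpr (mem_centralizer_iff.mp hu.2 d hd).symm]
      exact one_mem _⟩
    refine ⟨v, mem_sup_left hv, u, huU, rfl, hQDQ hv, hQN (hQDQ hv), fun b hb => ?_⟩
    have hbU : b ∈ normalizer (U₀ : Set H) := mem_normalizer_sectKer (hAQ hb) (hAD hb) (hAN hb)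
    have hbV : b ∈ normalizer (V₁ : Set H) :=
      mem_normalizer_sup (mem_normalizer_commutator (hAQ hb) (hAD hb)) (hAN hb)
    refine hVU _ ?_ ?_
    · rw [← commutatorElement_inv]
      exact V₁.inv_mem (comm_mem_of_normalizes hbV (mem_sup_left hv))
    · have h1 : ⁅v * u, b⁆ ∈ N := hg.2.2 b hb
      have h2 : ⁅u, b⁆ ∈ U₀ := by
        rw [← commutatorElement_inv]
        exact U₀.inv_mem (comm_mem_of_normalizes hbU huU)
      have hNU : N ≤ U₀ := fun n hn => ⟨hNQ hn, hQN (hNQ hn), fun d hd => by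
        rw [← commutatorElement_inv]
        exact N.inv_mem (comm_mem_of_normalizes (hDN hd) hn)⟩
      have hub : ⁅u, b⁆ ∈ Q := h2.1
      have h3 : v * ⁅u, b⁆ * v⁻¹ ∈ U₀ := by
        rw [show v * ⁅u, b⁆ * v⁻¹ = ⁅v, ⁅u, b⁆⁆ * ⁅u, b⁆ by simp [commutatorElement_def, mul_assoc]]
        exact U₀.mul_mem (hNU (hab v (hQDQ hv) _ hub)) h2
      rw [show ⁅v, b⁆ = (v * ⁅u, b⁆ * v⁻¹)⁻¹ * ⁅v * u, b⁆ by simp [commutatorElement_def, mul_assoc]]
      exact U₀.mul_mem (U₀.inv_mem h3) (hNU h1)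
  have hCtU : Ct ≤ U₀ := by
    intro g hg
    obtain ⟨v, hv, u, hu, rfl, hvC⟩ := hdecD g hg
    have hvN : v ∈ N := by
      refine ⟨hvC.1, hUF (hQU hvC.1), fun w hw => ?_⟩
      obtain ⟨e, he, c, hc, rfl, -⟩ := hdec w hw
      have hev : ⁅v, e⁆ ∈ F := by
        rw [← commutatorElement_inv]
        exact F.inv_mem (hpair A hAQ (zpowers_le.mpr haU) (Subgroup.commutator_mem_commutator (mem_sup_left he) hvC))
      have hcv : ⁅v, c⁆ ∈ F := by
        obtain ⟨v', hv', u', hu', rfl, hv'C⟩ := hdecD c hc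
        rw [show ⁅v, v' * u'⁆ = ⁅v, v'⁆ * (v' * ⁅v, u'⁆ * v'⁻¹) by simp [commutatorElement_def, mul_assoc]]
        exact F.mul_mem (hC1 v' hv' hv'C v hv hvC) (conj_mem_of_mem_normalizer (hUF (hQU hv'C.1))
          (hpair D hDQ hDU (Subgroup.commutator_mem_commutator hv hu')))
      rw [show ⁅v, e * c⁆ = ⁅v, e⁆ * (e * ⁅v, c⁆ * e⁻¹) by simp [commutatorElement_def, mul_assoc]]
      exact F.mul_mem hev (conj_mem_of_mem_normalizer (hUF (hQU (hQAQ he))) hcv)
    refine U₀.mul_mem ⟨hvC.1, hQN hvC.1, fun d hd => ?_⟩ hu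
    rw [← commutatorElement_inv]
    exact N.inv_mem (comm_mem_of_normalizes (hDN hd) hvN)
  have hFT0 : ∀ f ∈ FT, f = 0 := fun f hf => by
    obtain ⟨hfT, hf1, hfa⟩ := (hmemFT f).mp hf
    funext y
    by_cases hy : y ∈ Q
    · obtain ⟨e, he, c, hc, rfl, -⟩ := hdec y hy
      rw [hfT.2.1 e (hQAQ he) c hc.1, hfixE f hfT hfa e (mem_sup_left he), ← hP₁U f hfT c (hCtU hc), hf1]
      simp
    · exact hfT.1 y hy
  -- hence no weight is moved, and the group fixes the dual
  have hfixT : ∀ f ∈ T, ∀ d ∈ D, σ d f = f := by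
    intro f hf d hd
    have hsum := le_iSup_wtS σ hDT hKD habD hf
    refine Submodule.iSup_induction _ (motive := fun z => σ d z = z) hsum ?_ (by simp)
      (fun x y hx hy => by rw [map_add, hx, hy])
    rintro ⟨ν, hν⟩ z hz
    dsimp only at hz
    by_cases hz0 : z = 0
    · rw [hz0, map_zero]
    have hν1 : ν = one := by
      by_contra hne
      have hmove : conjW a ν ≠ ν := fun h => hne (hfixchar ν hν h)
      have hs : orbSum σ a r z ∈ FT := by
        rw [hmemFT]
        refine ⟨orbSum_mem σ r haT hz.1, ?_, rho_orbSum σ hpow z⟩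
        rw [orbSum_apply, map_sum]
        refine Finset.sum_eq_zero fun i _ => ?_
        have hiN := (normalizer (D : Set H)).pow_mem haD' i
        refine wtProj_eq_zero σ hone (hν.conj hiN) (fun h => hne ?_) (rho_mem_wtS hiN hz.2)
        funext x
        by_cases hx : x ∈ D
        · have h2 := congrFun h (a ^ i * x * (a ^ i)⁻¹)
          simp only [conjW, one, if_pos (conj_mem_of_mem_normalizer hiN hx)] at h2
          simp only [one, if_pos hx]
          rw [h2]
          congr 1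
          group
        · rw [hν.out x hx]; simp [one, hx]
      have h3 := wtProj_orbSum hν hKD hr hpow haD' hmove hz.2
      rw [hFT0 _ hs, map_zero] at h3
      exact hz0 h3.symm
    rw [hz.2 d hd, hν1, show one d = 1 from if_pos hd, one_smul]
  rw [Subgroup.commutator_le]
  intro y hy d hd
  rw [← commutatorElement_inv]
  refine N.inv_mem ?_
  have h := (fixes_iff (K := L) hNQ hQ2 hfr hQN (inv_mem (hDQ hd))).mp
    (fun f hf => hfixT f hf d⁻¹ (D.inv_mem hd)) y hy
  rwa [inv_inv] at h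

end CfsgLib.Turull
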